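import Cfsg.Agent.TwoF.Alt.Step

/-!
# Characteristic two, degree nine
-/

set_option autoImplicit false

namespace Cfsg.Agent.TwoF.Alt

open Module Equiv Equiv.Perm Gen H189 H189.Cyc H189.Emb

variable {Y : Type} [Group Y] [Finite Y] {V : Type} [AddCommGroup V] [Module (ZMod 2) V] [Finite V]
  {K : Subgroup Y} {ρ : Representation (ZMod 2) Y V} {ψ : Y →* Perm (Fin 9)} {A : Subgroup Y}

theorem T2.nine_odd (T : T2 K ρ ψ) (hA : Off 2 ρ A) (hK : ¬ A ≤ K) : False := by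
  obtain ⟨r, hr, hc, hcod⟩ := hA.exists_card
  have E := T.ea hA.1 hc
  obtain ⟨a₀, h0, h0'⟩ := SetLike.not_le_iff_exists.1 hK
  obtain ⟨hX, h12⟩ := T.x8 le_rfl ⟨a₀, h0'⟩
  obtain ⟨w, hw⟩ := E.exists_fix (by decide)
  have six : ∀ a ∈ A, ∀ u, ψ a u ≠ u → 6 ≤ cod ρ (Subgroup.zpowers a) := fun a ha u hu => by
    rcases h12 with h | h
    · have := T.xfix h (E.sq ha) hu (mem_fix.1 hw a ha)
      omega
    rcases big_or_swap (E.sq ha) hu with h1 | h1
    · have := T.good h (E.sq ha) h1 (mem_fix.1 hw a ha)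
      omega
    · exact T.t6 le_rfl ⟨a₀, h0'⟩ a _ _ hu.symm h1
  have eight : ∀ B ≤ A, ∀ b ∈ B, ∀ u, ψ b u ≠ u → ∀ s, 0 < s → EA ψ (stb ψ B u) s → 8 ≤ cod ρ B :=
    fun B hB b hb u hu s hs E' => by
      obtain ⟨a, ha, y, hy⟩ := E'.exists_ne hs
      have h1 := T.k1 hX ha.1 hb (E.sq (hB ha.1)) (E.sq (hB hb)) (E.comm a (hB ha.1) b (hB hb)) hu
        (mem_fix.1 hw b (hB hb)) ha.2 (mem_fix.1 hw a (hB ha.1))
      have h2 := six a (hB ha.1) y hy
      omega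
  obtain ⟨u, h2⟩ := E.orb_odd h0 fun e => h0' ((T.mem a₀).2 e)
  obtain ⟨b, hb, hu⟩ := exists_of_two_le h2.ge
  obtain ⟨-, E'⟩ := E.of_two h2
  have h1 := E.rk
  have h3 := (six b hb u hu).trans (cod_mono (Subgroup.zpowers_le.2 hb))
  have h4 := eight A le_rfl b hb u hu _ (by omega) E'
  have h5 := T.step1 E'.el (stb_le A u) hb (E.sq hb) (fun y hy => E.comm y hy.1 b hb) hu (mem_fix.1 hw b hb)
    (fun y hy => hy.2) fun y hy => mem_fix.1 hw y hy.1
  obtain ⟨c, hc, x, hx⟩ := E'.exists_ne (by omega)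
  obtain ⟨j, -, e, E''⟩ := E'.stab x
  have h6 := E.fix_stb h2.ge
  have h7 := E'.fix_stb (two_le_orb hc hx)
  have h8 := Finset.card_le_univ (fix ψ (stb ψ (stb ψ A u) x))
  have h9 : 0 < (fix ψ A).card := Finset.card_pos.2 ⟨w, hw⟩
  rw [Fintype.card_fin] at h1 h8
  have h10 : j < 3 := (Nat.pow_lt_pow_iff_right (a := 2) (by norm_num)).1 (by omega)
  have h11 := eight _ (stb_le A u) c hc x hx _ (by omega) E''
  omega

omit [Finite Y] [Finite V] in
/-- a four-group on four points is normalised by everything that normalises the four points -/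
theorem T2.four (T : T2 K ρ ψ) {B : Subgroup Y} (E : EA ψ B 2) (hK : B ≤ K) {O : Finset (Fin 9)} (hO : O.card = 4)
    (h : ∀ b ∈ B, Sup (ψ b) O) {x : Y} (h1 : x ∈ K) (h2 : x * x = 1) (h3 : Sup (ψ x) O) : x ∈ B := by
  let e : Fin 4 ↪ Fin 9 := (O.orderEmbOfFin hO).toEmbedding
  have he : ∀ x, (∀ i, e i ≠ x) → x ∉ O := fun x h hx => by
    rw [← Finset.mem_coe, ← O.range_orderEmbOfFin hO] at hx
    exact h _ hx.choose_spec
  have ex : ∀ y ∈ K, y * y = 1 → Sup (ψ y) O → ∃ σ : {σ : alternatingGroup (Fin 4) // σ * σ = 1},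
      embP e σ.1 = ψ y := fun y h1 h2 h3 => by
    obtain ⟨σ, hσ⟩ := exists_emb e ⟨ψ y, mem_alternatingGroup.2 ((T.mem y).1 h1)⟩ fun x hx => h3 x (he x hx)
    refine ⟨⟨σ, emb_injective e ?_⟩, congrArg Subtype.val hσ⟩
    rw [map_mul, hσ, map_one]
    exact Subtype.ext ((map_mul ψ y y).symm.trans (h2 ▸ map_one ψ))
  choose F hF using fun b : B => ex b (hK b.2) (E.sq b.2) (h b b.2)
  have hb : Function.Bijective F := (Nat.bijective_iff_injective_and_card F).2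
    ⟨fun a b e' => Subtype.ext (T.inj (by rw [← hF, e', hF])), by
      rw [E.card, Nat.card_eq_fintype_card]; decide +kernel⟩
  obtain ⟨σ, hσ⟩ := ex x h1 h2 h3
  obtain ⟨b, rfl⟩ := hb.2 σ
  exact T.inj ((hF b).symm.trans hσ) ▸ b.2

theorem T2.nine_even (T : T2 K ρ ψ) (hA : Off 2 ρ A) (hK : A ≤ K) : Cub ρ A := by
  by_contra hn
  obtain ⟨r, hr, hc, hcod⟩ := hA.exists_card
  have E := T.ea hA.1 hc
  have h1 := E.rk
  rw [Fintype.card_fin] at h1
  obtain rfl : r = 4 := by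
    have := (Nat.pow_dvd_pow_iff_le_right (by norm_num)).1 (hc ▸ hA.pow_dvd_of_not_cub hn)
    rw [small_two] at this
    omega
  obtain ⟨w, hw⟩ := E.exists_fix (by decide)
  have h9 : 0 < (fix ψ A).card := Finset.card_pos.2 ⟨w, hw⟩
  have orb4 : ∀ u, 2 ≤ (orb ψ A u).card → (orb ψ A u).card = 4 ∧ EA ψ (stb ψ A u) 2 := fun u hu => by
    obtain ⟨j, hj, e, E'⟩ := E.stab u
    have h2 := E.fix_stb hu
    have h3 := E'.rk
    have h4 : (orb ψ A u).card ≠ 2 := fun h => by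
      have := E.rk_even (fun a ha => (T.mem a).1 (hK ha)) h
      rw [Fintype.card_fin] at this
      omega
    rw [Fintype.card_fin] at h3
    obtain rfl : j = 2 := by interval_cases j <;> omega
    exact ⟨e, E'⟩
  obtain ⟨d, hd, d1, -, hN, -⟩ := rank_four hA.1 hc hcod hn
  obtain ⟨u, hu⟩ := exists_moved fun e => d1 (E.inj d hd e)
  obtain ⟨o1, E1⟩ := orb4 u (two_le_orb hd hu)
  obtain ⟨c, hc, v, hv⟩ := E1.exists_ne (by omega)
  obtain ⟨o2, E2⟩ := orb4 v (two_le_orb hc.1 hv)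
  have dj : Disjoint (orb ψ A u) (orb ψ A v) := Finset.disjoint_left.2 fun x h2 h3 =>
    move_orb E.comm h3 hc.1 hv (fix_orb E.comm h2 hc.1 hc.2)
  have un : orb ψ A v ∪ fix ψ A = (orb ψ A u)ᶜ := by
    refine Finset.eq_of_subset_of_card_le (Finset.union_subset (fun x hx => ?_) fun x hx => ?_) ?_
    · exact Finset.mem_compl.2 (Finset.disjoint_right.1 dj hx)
    · exact Finset.mem_compl.2 fun h => not_mem_fix (by omega) h hx
    · rw [Finset.card_union_of_disjoint (Finset.disjoint_left.2 fun x hx => not_mem_fix (by omega) hx),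
        Finset.card_compl, Fintype.card_fin]
      omega
  have sp : ∀ b ∈ stb ψ A v, Sup (ψ b) (orb ψ A u) := fun b hb x hx => by
    rcases Finset.mem_union.1 (un ▸ Finset.mem_compl.2 hx) with h | h
    · exact fix_orb E.comm h hb.1 hb.2
    · exact mem_fix.1 h b hb.1
  have tr : orb ψ (stb ψ A v) u = orb ψ A u := by
    obtain ⟨j, hj, e, E'⟩ := E2.stab u
    refine Finset.eq_of_subset_of_card_le (orb_mono (stb_le A v) u) ?_
    rcases hj.eq_or_lt with rfl | hj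
    · rw [e, o1]; rfl
    obtain ⟨a, ha, y, hy⟩ := E'.exists_ne (by omega)
    exact (hy (by_cases (fun h : y ∈ orb ψ A u => fix_orb E.comm h ha.1.1 ha.2) (sp a ha.1 y))).elim
  obtain ⟨y, hy, h2⟩ := Finset.exists_mem_notMem_of_card_lt_card (s := {u, ψ d u}) (t := orb ψ A u)
    (Finset.card_le_two.trans_lt (by omega))
  simp only [Finset.mem_insert, Finset.mem_singleton, not_or] at h2
  obtain ⟨g, gK, hg⟩ := T.lift _ (sign_c3 hu.symm (Ne.symm h2.2))
  have sg : Sup (ψ g) (orb ψ A u) := hg ▸ sup_c3 (self_mem_orb A u) (mem_orb.2 ⟨d, hd, rfl⟩) hy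
  have h3 := hN g (Subgroup.mem_normalizer_fintype fun x hx => by
    obtain ⟨b, hb, e⟩ := mem_orb.1 (tr ▸ mem_orb.2 ⟨x, hx, rfl⟩ : ψ x u ∈ orb ψ (stb ψ A v) u)
    have m : b⁻¹ * x ∈ A := mul_mem (inv_mem hb.1) hx
    have h4 : g * (b⁻¹ * x) = b⁻¹ * x * g := T.comm (sg.comm fun z hz => fix_orb E.comm hz m (by
      rw [map_mul, Perm.mul_apply, ← e, map_inv, inv_apply_self]))
    have h5 := T.four E2 ((stb_le A v).trans hK) o1 sp (T.normal.conj_mem b (hK hb.1) g)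
      (by rw [conj_mul, E.sq hb.1, mul_one, mul_inv_cancel])
      (by rw [map_mul, map_mul, map_inv]; exact (sp b hb).conj fun z hz => sg.mem hz)
    have h6 := mul_mem h5.1 m
    rwa [show g * b * g⁻¹ * (b⁻¹ * x) = g * b * (g⁻¹ * (b⁻¹ * x * g)) * g⁻¹ by group, ← h4,
      show g * b * (g⁻¹ * (g * (b⁻¹ * x))) * g⁻¹ = g * x * g⁻¹ by group] at h6)
  have h4 := app_comm (ψ := ψ) h3 (ψ d u)
  rw [app_app (E.sq hd), hg, c3_fst hu.symm (Ne.symm h2.1), c3_snd (Ne.symm h2.1) (Ne.symm h2.2)] at h4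
  exact h2.1 ((ψ d).injective h4).symm

theorem row_nine : Row 2 (alternatingGroup (Fin 9)) :=
  ⟨row88_of_fr (by omega) fun _ _ _ _ _ _ _ K _ _ F A hA =>
      (F.nat_or (F.inj_two rfl (by omega)) (Or.inl (by omega))).elim (fun ⟨B, _, h⟩ => ⟨B, h⟩)
        fun T => ⟨A, hA, T.nine_even hA (not_not.1 (T.nine_odd hA))⟩,
    row89_of_fr (by omega) fun _ _ _ _ _ _ _ _ _ _ F _ hA _ _ _ hK =>
      (F.nat_or (F.inj_two rfl (by omega)) (Or.inl (by omega))).elim (fun ⟨B, h, h', _⟩ => ⟨B, h, h'⟩)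
        fun T => (T.nine_odd hA hK).elim⟩

end Cfsg.Agent.TwoF.Alt
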