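import Cfsg.Agent.TwoF.Alt.Odd3
import Cfsg.Agent.H138.HT.Alt
import Cfsg.Agent.H570.AltBad

/-!
# Alternating groups, odd characteristic: the row (helper10)

`row_odd`: both goals for `A_n`, `n ≥ 5`, `p` odd.
-/

set_option autoImplicit false

namespace Cfsg.Agent.TwoF.Alt

open Module Equiv Equiv.Perm Gen H189 H189.Cyc H189.Emb

theorem lin_le_pow {a b c j₀ : ℕ} (h0 : a * j₀ + b ≤ c ^ j₀) (h1 : a ≤ 2 * c ^ j₀) (hc : 3 ≤ c) {p j : ℕ} (hp : c ≤ p)
    (hj : j₀ ≤ j) : a * j + b ≤ p ^ j := by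
  refine le_trans ?_ (Nat.pow_le_pow_left hp j)
  induction j, hj using Nat.le_induction with
  | base => exact h0
  | succ j hj ih =>
    have h2 : c ^ j₀ ≤ c ^ j := Nat.pow_le_pow_right (by omega) hj
    have h3 : 3 * c ^ j ≤ c ^ (j + 1) := by rw [pow_succ, mul_comm]; exact Nat.mul_le_mul_left _ hc
    rw [mul_add, mul_one]
    omega

theorem odd_cases {p : ℕ} [Fact p.Prime] (hp : p ≠ 2) : p = 3 ∨ 5 ≤ p := by
  have h7 := (Fact.out : p.Prime).two_le
  have h8 := (Fact.out : p.Prime).odd_of_ne_two hp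
  have h9 : p ≠ 4 := fun e => by rw [e] at h8; exact absurd h8 (by decide)
  omega

variable {p : ℕ} [Fact p.Prime] {Y : Type} [Group Y] [Finite Y] {V : Type} [AddCommGroup V] [Module (ZMod p) V]
  [Finite V] {K : Subgroup Y} {ρ : Representation (ZMod p) Y V} {n : ℕ} {ψ : Y →* Perm (Fin n)}

omit [Finite Y] in
theorem cod_chain (B : Subgroup Y) (u : Fin n) : cod ρ B = cod ρ (stb ψ B u) + codOn ρ (fx ρ (stb ψ B u)) B := by
  rw [← cod_sup_eq, sup_eq_right.2 (stb_le B u)]

omit [Finite V] in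
theorem Fr.exists_orb (F : Fr p K ρ ψ) {B : Subgroup Y} (hB : IsElementaryAbelian p B) (h : B ≠ ⊥) :
    ∃ u, 2 ≤ (orb ψ B u).card := by
  by_contra hc
  push Not at hc
  refine h ((Subgroup.eq_bot_iff_forall _).2 fun b hb => F.eq_one' (hB.2 b hb) (Equiv.ext fun u => ?_))
  exact mem_fix.1 (mem_fix_of_card (Nat.le_of_lt_succ (hc u))) b hb

/-- the deepest step in terms of orbits -/
theorem Fr.deep_orb {V : Type} [AddCommGroup V] [Module (ZMod 3) V] [Finite V] {ρ : Representation (ZMod 3) Y V}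
    (F : Fr 3 K ρ ψ) (hn : 9 ≤ n) (hno : ¬ ∃ B, Off 3 ρ B ∧ Cub ρ B) {B : Subgroup Y} (hB : IsElementaryAbelian 3 B)
    {u : Fin n} (hu : 2 ≤ (orb ψ B u).card) (hf : 1 ≤ (fix ψ B).card) : 5 ≤ cod ρ B := by
  obtain ⟨b, hb, b1, b2, b3⟩ := Fr.exists_moves (ψ := ψ) hB u hu
  obtain ⟨w, hw⟩ := Finset.card_pos.1 hf
  have m0 := self_mem_orb (ψ := ψ) B u
  have e3 : ψ b (ψ b (ψ b u)) = u := by
    have := congrArg (fun σ : Perm (Fin n) => σ u) b1
    simpa [pow_succ] using this
  have n1 := b3 u m0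
  have n2 := b3 _ (b2 u m0)
  have n3 : ψ b (ψ b u) ≠ u := fun e => n1 (by rwa [e] at e3)
  have w0 : w ≠ u := fun e => not_mem_fix hu m0 (e ▸ hw)
  have w1 : w ≠ ψ b u := fun e => not_mem_fix hu (b2 u m0) (e ▸ hw)
  have w2 : w ≠ ψ b (ψ b u) := fun e => not_mem_fix hu (b2 _ (b2 u m0)) (e ▸ hw)
  refine (F.deep hn hno (b := b) (f := ⟨![u, ψ b u, ψ b (ψ b u), w],
    AltTwo.inj4 n1.symm n3.symm w0.symm n2.symm w1.symm w2.symm⟩) fun i => ?_).trans
    (cod_mono (Subgroup.zpowers_le.2 hb))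
  fin_cases i
  · rfl
  · rfl
  · exact e3
  · exact mem_fix.1 hw b hb

/-- **subgroups with many fixed points** -/
theorem Fr.mid (F : Fr p K ρ ψ) (hp : p ≠ 2) (hn : 9 ≤ n) (hno : ¬ ∃ B, Off p ρ B ∧ Cub ρ B) (r : ℕ) :
    ∀ B : Subgroup Y, IsElementaryAbelian p B → Nat.card B = p ^ r → 0 < r →
      (∀ u, (orb ψ B u).card ≤ (fix ψ B).card) → 2 * r + (small p + 1) ≤ cod ρ B := by
  induction r using Nat.strong_induction_on with
  | _ r ih =>
    intro B hB hc hr hO
    have hp1 := (Fact.out : p.Prime).one_lt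
    obtain ⟨u, hu⟩ := F.exists_orb hB fun e => by
      rw [e, Subgroup.card_bot] at hc
      exact absurd hc.symm (Nat.one_lt_pow hr.ne' hp1).ne'
    obtain ⟨j, hj, h1, h2⟩ := card_orb_pow (ψ := ψ) Fact.out hc u
    have hj0 : 0 < j := Nat.pos_of_ne_zero fun e => by rw [e, pow_zero] at h1; omega
    have h3 := F.alpha hB (F.le_K hp hB) u hp (h1 ▸ dvd_pow_self p hj0.ne') ((Nat.sub_le _ _).trans (hO u))
    have h4 := cod_chain (ρ := ρ) (ψ := ψ) B u
    rw [h1] at h3
    by_cases hjr : j = r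
    · rcases odd_cases hp with rfl | h5
      · rw [small_three]
        by_cases hj1 : j = 1
        · have := F.deep_orb hn hno hB hu (by have := hO u; omega)
          omega
        · have := lin_le_pow (a := 2) (b := 4) (c := 3) (j₀ := 2) (by norm_num) (by norm_num) le_rfl le_rfl
            (show 2 ≤ j by omega)
          omega
      · rw [small_of_ne hp (by omega)]
        have := lin_le_pow (a := 2) (b := 3) (c := 5) (j₀ := 1) (by norm_num) (by norm_num) (by norm_num) h5 hj0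
        omega
    · have h5 := ih (r - j) (by omega) _ (elemAb_of_le hB (stb_le B u)) h2 (by omega) fun x =>
        (Finset.card_le_card (orb_mono (stb_le B u) x)).trans ((hO x).trans
          (Finset.card_le_card (fix_anti (stb_le B u))))
      have := lin_le_pow (a := 2) (b := 1) (c := 3) (j₀ := 1) (by norm_num) (by norm_num) le_rfl
        (show 3 ≤ p by rcases odd_cases hp with h | h <;> omega) hj0
      omega

/-- **the goal of S3088 in degree at least nine** -/
theorem Fr.g88_odd (F : Fr p K ρ ψ) (hp : p ≠ 2) (hn : 9 ≤ n) : G88 p ρ := by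
  intro A hA
  by_contra hno
  have hp1 := (Fact.out : p.Prime).one_lt
  have hp3 : 3 ≤ p := by rcases odd_cases hp with h | h <;> omega
  obtain ⟨r, hr, hc, hcod⟩ := hA.exists_card
  have hr' : small p + 1 ≤ r :=
    (Nat.pow_dvd_pow_iff_le_right hp1).1 (hc ▸ hA.pow_dvd_of_not_cub fun h => hno ⟨A, hA, h⟩)
  have hs := one_le_small p
  obtain ⟨u₀, hu₀⟩ := F.exists_orb hA.1 hA.2.1
  obtain ⟨u, -, hu⟩ := Finset.exists_max_image Finset.univ (fun x => (orb ψ A x).card) ⟨u₀, Finset.mem_univ _⟩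
  have hu2 : 2 ≤ (orb ψ A u).card := hu₀.trans (hu u₀ (Finset.mem_univ _))
  obtain ⟨j, hj, h1, h2⟩ := card_orb_pow (ψ := ψ) Fact.out hc u
  have hj0 : 0 < j := Nat.pos_of_ne_zero fun e => by rw [e, pow_zero] at h1; omega
  have h4 := cod_chain (ρ := ρ) (ψ := ψ) A u
  have hK := F.le_K hp hA.1
  have hb : 2 ≤ j → p ^ j - 2 ≤ 3 * codOn ρ (fx ρ (stb ψ A u)) A := fun h => by
    rw [← h1]
    refine F.beta hA.1 hK u hp ?_
    have := lin_le_pow (a := 0) (b := 9) (c := 3) (j₀ := 2) (by norm_num) (by norm_num) le_rfl hp3 h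
    omega
  by_cases hjr : j = r
  · have h5 := hb (by omega)
    rcases odd_cases hp with rfl | h6
    · rw [small_three] at hr'
      have := lin_le_pow (a := 6) (b := 3) (c := 3) (j₀ := 3) (by norm_num) (by norm_num) le_rfl le_rfl
        (show 3 ≤ j by omega)
      omega
    · have := lin_le_pow (a := 6) (b := 3) (c := 5) (j₀ := 2) (by norm_num) (by norm_num) (by norm_num) h6
        (show 2 ≤ j by omega)
      omega
  have h5 := F.mid hp hn hno (r - j) _ (elemAb_of_le hA.1 (stb_le A u)) h2 (by omega) fun x =>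
    (Finset.card_le_card (orb_mono (stb_le A u) x)).trans ((hu x (Finset.mem_univ _)).trans
      (Finset.card_le_card (orb_subset_fix (fun a ha b hb => elemAb_comm hA.1 ha hb) u)))
  by_cases hj1 : j = 1
  · rcases odd_cases hp with rfl | h6
    · rw [small_three] at h5
      omega
    · have := F.beta_one hA.1 hK u h6 hu2
      omega
  · have h6 := hb (by omega)
    rcases odd_cases hp with rfl | h7
    · rw [small_three] at h5
      have := lin_le_pow (a := 4) (b := 1) (c := 3) (j₀ := 2) (by norm_num) (by norm_num) le_rfl le_rfl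
        (show 2 ≤ j by omega)
      by_cases hj2 : j = 2
      · omega
      · have := lin_le_pow (a := 6) (b := 3) (c := 3) (j₀ := 3) (by norm_num) (by norm_num) le_rfl le_rfl
          (show 3 ≤ j by omega)
        omega
    · have := lin_le_pow (a := 6) (b := 3) (c := 5) (j₀ := 2) (by norm_num) (by norm_num) (by norm_num) h7
        (show 2 ≤ j by omega)
      omega

theorem row89_odd (p : ℕ) [Fact p.Prime] (hp : p ≠ 2) (n : ℕ) (hn : 5 ≤ n) : Row89 p (alternatingGroup (Fin n)) :=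
  row89_of_sit fun _ _ _ _ _ _ _ _ _ _ φ H A hA _ _ _ hK => (hK fun a ha => by
    obtain ⟨x, hx⟩ := H570.AltBad.conj_of_odd hn ((Fact.out : p.Prime).odd_of_ne_two hp)
      (show φ a ^ p = 1 by rw [← map_pow, hA.1.2 a ha, map_one])
    exact H.mem_inn_iff.1 ⟨x, hx.symm⟩).elim

theorem row88_small (p : ℕ) [Fact p.Prime] (hp : p ≠ 2) (n : ℕ) (hn : 5 ≤ n) (h8 : n ≤ 8) :
    Row88 p (alternatingGroup (Fin n)) := row88_of_rank fun E hE => by
  have h1 : E ≤ Inn (alternatingGroup (Fin n)) := fun a ha => by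
    obtain ⟨x, hx⟩ := H570.AltBad.conj_of_odd hn ((Fact.out : p.Prime).odd_of_ne_two hp) (hE.2 a ha)
    exact ⟨x, hx.symm⟩
  have h2 : Nat.card E ∣ Nat.factorial 8 :=
    (Subgroup.card_dvd_of_le h1).trans ((Subgroup.card_range_dvd _).trans
      ((Dvd.intro_left 2 (H138.HT.card_alt n (by omega))).trans (Nat.factorial_dvd_factorial h8)))
  haveI : Finite E := Nat.finite_of_card_ne_zero fun e => by
    rw [e] at h2
    exact absurd h2 (by decide)
  obtain ⟨r, hr⟩ := (elemAb_isPGroup hE).exists_card_eq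
  rw [hr] at h2 ⊢
  refine Nat.pow_le_pow_right (Fact.out : p.Prime).pos (not_lt.1 fun h => ?_)
  have h3 := (pow_dvd_pow p h).trans h2
  rcases odd_cases hp with rfl | h5
  · rw [small_three] at h3
    exact absurd h3 (by decide)
  · have h6 : p ≤ 8 := ((Fact.out : p.Prime).dvd_factorial).1 ((dvd_pow_self p (Nat.succ_ne_zero _)).trans h3)
    rw [small_of_ne hp (by omega)] at h3
    have h7 : p.Prime := Fact.out
    interval_cases p
    · exact absurd h3 (by decide)
    · exact absurd h7 (by decide)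
    · exact absurd h3 (by decide)
    · exact absurd h7 (by decide)

/-- **the row of `A_n` in odd characteristic** -/
theorem row_odd (p : ℕ) [Fact p.Prime] (hp : p ≠ 2) (n : ℕ) (hn : 5 ≤ n) : Row p (alternatingGroup (Fin n)) := by
  refine ⟨?_, row89_odd p hp n hn⟩
  by_cases h8 : n ≤ 8
  · exact row88_small p hp n hn h8
  · exact row88_of_fr (by omega) fun _ _ _ _ _ _ _ _ _ _ F => F.g88_odd hp (by omega)

end Cfsg.Agent.TwoF.Alt
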