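import Cfsg.Agent.TwoF.Alt.Step
import Cfsg.Agent.H47.Kill

/-!
# Characteristic two, degree seven
-/

set_option autoImplicit false

namespace Cfsg.Agent.TwoF.Alt

open Module Equiv Equiv.Perm Gen H189 H189.Cyc H189.Emb H47.Kill
open scoped commutatorElement

variable {Y : Type} [Group Y] [Finite Y] {V : Type} [AddCommGroup V] [Module (ZMod 2) V] [Finite V]
  {K : Subgroup Y} {ρ : Representation (ZMod 2) Y V} {ψ : Y →* Perm (Fin 7)} {A : Subgroup Y}

omit [Finite V] in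
/-- a transposition inverts the centre of the triple cover -/
theorem Fr.inj_seven (F : Fr 2 K ρ ψ) (hz : ψ.ker ≤ Subgroup.center Y) {y : Y} (hy : y ∉ K) :
    Function.Injective ψ := by
  have : Fact (Nat.Prime 3) := ⟨by norm_num⟩
  let x : alternatingGroup (Fin 7) := cc 0 1 2 (by decide) (by decide)
  let x' : alternatingGroup (Fin 7) := cc 3 4 5 (by decide) (by decide)
  obtain ⟨a, ha⟩ := F.pr_surj x
  obtain ⟨b, hb⟩ := F.pr_surj x'
  have ha' : ψ a = c3 0 1 2 := congrArg Subtype.val ha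
  have hb' : ψ b = c3 3 4 5 := congrArg Subtype.val hb
  obtain ⟨s, hs⟩ := F.lift_all hy (swap 3 4)
  have hxy : ψ a * ψ b = ψ b * ψ a := by rw [ha', hb']; decide +kernel
  have h8 : ⁅(a : Y), (b : Y)⁆ = 1 := by
    generalize (a : Y) = a at ha' hxy
    generalize (b : Y) = b at hb' hxy
    have hc : ψ ⁅a, b⁆ = 1 := by
      rw [map_commutatorElement, commutatorElement_eq_one_iff_mul_comm]; exact hxy
    obtain ⟨u, hu, h1⟩ : ∃ u, ψ u = 1 ∧ s * a * s⁻¹ = a * u := by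
      apply exists_eq_mul
      rw [map_mul, map_mul, map_inv, hs, ha']; decide +kernel
    obtain ⟨w, hw, h2⟩ : ∃ w, ψ w = 1 ∧ s * b * s⁻¹ = b⁻¹ * w := by
      apply exists_eq_mul
      rw [map_mul, map_mul, map_inv, map_inv, hs, hb']; decide +kernel
    have h3 : s * ⁅a, b⁆ * s⁻¹ = ⁅a, b⁆ := by
      rw [H47.Kill.ker_comm hz hc s, mul_inv_cancel_right]
    have h4 : s * ⁅a, b⁆ * s⁻¹ = ⁅a * u, b⁻¹ * w⁆ := by
      rw [← h1, ← h2]; simp only [commutatorElement_def]; group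
    have h5 : ⁅a * u, b⁻¹ * w⁆ = ⁅a, b⁻¹⁆ := by
      have hu' := H47.Kill.ker_comm hz hu
      have hw' := H47.Kill.ker_comm hz hw
      simp only [commutatorElement_def]
      calc a * u * (b⁻¹ * w) * (a * u)⁻¹ * (b⁻¹ * w)⁻¹
          = a * (u * (b⁻¹ * w)) * u⁻¹ * a⁻¹ * w⁻¹ * b := by group
        _ = a * (b⁻¹ * w) * a⁻¹ * w⁻¹ * b := by rw [← hu' (b⁻¹ * w)]; group
        _ = a * b⁻¹ * (w * a⁻¹) * w⁻¹ * b := by group
        _ = a * b⁻¹ * a⁻¹ * b⁻¹⁻¹ := by rw [← hw' a⁻¹]; group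
    have h6 : ⁅a, b⁻¹⁆ = ⁅a, b⁆⁻¹ := by
      have h7 := H47.Kill.ker_comm hz (by rw [map_inv, hc, inv_one] : ψ (⁅a, b⁆⁻¹) = 1) b⁻¹
      calc ⁅a, b⁻¹⁆ = b⁻¹ * ⁅a, b⁆⁻¹ * b := by simp only [commutatorElement_def]; group
        _ = ⁅a, b⁆⁻¹ := by rw [h7]; group
    have h7 : ⁅a, b⁆ * ⁅a, b⁆ = 1 := by
      have : ⁅a, b⁆ = ⁅a, b⁆⁻¹ := by rw [← h6, ← h5, ← h4, h3]
      nth_rw 2 [this]
      exact mul_inv_cancel _
    exact eq_one_of_sq_of_odd (n := 3) (by decide) h7 (comm_pow hz hxy (by rw [ha']; decide +kernel))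
  have hi : ¬ 3 ∣ (Subgroup.closure {x, x'}).index :=
    not_dvd_index (k := 2) (m := 280) (by rw [nat_card_alternatingGroup, Nat.card_eq_fintype_card]; decide)
      (by decide) (sq_dvd_card (by decide +kernel) (by decide +kernel) (by decide +kernel) (by decide +kernel)
        fun h => absurd (zp_fix (ψ := (alternatingGroup (Fin 7)).subtype) (u := 3) (by decide +kernel) x' h)
          (by decide +kernel))
  have h3 : ¬ 3 ∣ Nat.card ψ.ker := not_dvd_of_pow hi fun z hz1 => by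
    have h9 := exists_comm F.pr_surj (fun g hg => Subgroup.mem_center_iff.2 fun h => Subtype.ext
      (F.ker_comm (congrArg Subtype.val hg) h.2)) F.perfect.commutator_eq_top (by decide +kernel) ha hb
      (z := ⟨z, F.ker_mem hz1⟩) (Subtype.ext hz1)
    rw [show ⁅a, b⁆ = 1 from Subtype.ext h8, Subgroup.zpowers_one_eq_bot, Subgroup.mem_bot] at h9
    exact congrArg Subtype.val h9
  have h4 := F.not_dvd
  have h5 := F.six
  have h6 := Nat.le_of_dvd (by norm_num) h5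
  refine Fr.inj_of_card ?_
  interval_cases Nat.card ψ.ker <;> omega

theorem T2.seven (T : T2 K ρ ψ) (hA : Off 2 ρ A) (hK : ¬ A ≤ K) : ∃ B ≤ K, Off 2 ρ B := by
  by_contra hno
  obtain ⟨r, hr, hc, hcod⟩ := hA.exists_card
  have E := T.ea hA.1 hc
  obtain ⟨hT, hY, h8⟩ := T.small ((SetLike.not_le_iff_exists.1 hK).imp fun _ h => h.2)
  obtain ⟨w, hw⟩ := E.exists_fix (by decide)
  have four : ∀ a ∈ A, ∀ u, ψ a u ≠ u → 4 ≤ cod ρ (Subgroup.zpowers a) := fun a ha u hu => by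
    rcases big_or_swap (E.sq ha) hu with h1 | h1
    · have := T.good hY (E.sq ha) h1 (mem_fix.1 hw a ha)
      omega
    · exact hT a _ _ hu.symm h1
  have two : ∀ B ≤ A, ¬ B ≤ K → ∀ s, EA ψ B s → ∃ b ∈ B, ∃ u, ψ b u ≠ u ∧ EA ψ (stb ψ B u) (s - 1) ∧
      cod ρ (stb ψ B u) + 1 ≤ cod ρ B := fun B hB hK s E' => by
    obtain ⟨a, h0, h0'⟩ := SetLike.not_le_iff_exists.1 hK
    obtain ⟨u, h2⟩ := E'.orb_odd h0 fun e => h0' ((T.mem a).2 e)
    obtain ⟨b, hb, hu⟩ := exists_of_two_le h2.ge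
    exact ⟨b, hb, u, hu, (E'.of_two h2).2, T.step1 (E'.of_two h2).2.el (stb_le B u) hb (E'.sq hb)
      (fun y hy => E'.comm y hy.1 b hb) hu (mem_fix.1 hw b (hB hb)) (fun y hy => hy.2)
      fun y hy => mem_fix.1 hw y (hB hy.1)⟩
  have five : ∀ B ≤ A, EA ψ B 2 → 5 ≤ cod ρ B := fun B hB E' => by
    by_cases h : B ≤ K
    · exact le_of_not_gt fun h1 => hno ⟨B, h, off_of_card E'.el (by norm_num) E'.card (by omega)⟩
    obtain ⟨b, hb, u, hu, E'', h1⟩ := two B hB h 2 E'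
    obtain ⟨a, ha, x, hx⟩ := E''.exists_ne (by omega)
    have := (four a (hB ha.1) x hx).trans (cod_mono (Subgroup.zpowers_le.2 ha))
    omega
  obtain ⟨b, hb, u, hu, E', h1⟩ := two A le_rfl hK r E
  have h2 := (four b hb u hu).trans (cod_mono (Subgroup.zpowers_le.2 hb))
  have h3 := E.rk
  rw [Fintype.card_fin] at h3
  obtain rfl | rfl : r = 2 ∨ r = 3 := by omega
  · have := five A le_rfl E
    omega
  rcases h8 with h | h
  · have h4 := T.stepX h (stb_le A u) hb (E.sq hb) (fun y hy => E.comm y hy.1 b hb) hu (mem_fix.1 hw b hb)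
      (fun y hy => hy.2) fun y hy => mem_fix.1 hw y hy.1
    have := five _ (stb_le A u) E'
    omega
  · obtain ⟨a, ha, h4⟩ := E'.exists_big le_rfl
    have h5 := T.good h (E.sq ha.1) h4 ha.2
    have := cod_mono (ρ := ρ) (Subgroup.zpowers_le.2 ha)
    omega

theorem row_seven : Row 2 (alternatingGroup (Fin 7)) := by
  refine ⟨row88_of_fr le_rfl fun _ _ _ _ _ _ _ _ _ ψ F A hA => ⟨A, hA, hA.cub ?_⟩,
    row89_of_fr le_rfl fun _ _ _ _ _ _ _ K ρ ψ F A hA _ h1 h2 hK => ?_⟩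
  · obtain ⟨r, -, hc, -⟩ := hA.exists_card
    have := EA.rk (ψ := ψ) ⟨hA.1, fun a ha => F.eq_one' (hA.1.2 a ha), hc⟩
    rw [Fintype.card_fin] at this
    rw [hc, small_two]
    exact Nat.pow_le_pow_right (by norm_num) (by omega)
  obtain ⟨y, -, hy⟩ := SetLike.not_le_iff_exists.1 hK
  have hz : ψ.ker ≤ Subgroup.center _ := fun z hz => Subgroup.mem_center_iff.2 fun g => by
    have h3 : K ⊔ A ≤ Subgroup.centralizer {z} := sup_le
      (fun x hx => Subgroup.mem_centralizer_singleton_iff.2 (F.ker_comm hz hx)) fun a ha =>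
        Subgroup.mem_centralizer_singleton_iff.2 (F.faithful (by
          rw [map_mul, map_mul]
          exact (h2 (ρ z) (fun x hx => by rw [← map_mul, ← map_mul, F.ker_comm hz hx]) a ha).symm))
    exact Subgroup.mem_centralizer_singleton_iff.1 (h3 (h1 ▸ Subgroup.mem_top g))
  exact (F.nat_or (F.inj_seven hz hy) (Or.inr ⟨y, hy⟩)).elim (fun ⟨B, h, h', _⟩ => ⟨B, h, h'⟩) fun T => T.seven hA hK

end Cfsg.Agent.TwoF.Alt
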