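import Cfsg.Agent.TwoF.Alt.SixA
import Cfsg.Agent.TwoF.Gen.BCov
import Cfsg.Agent.S2116

/-!
# TwoF, `A₆`: an offender with an element outside `S₆` (the case `PGL₂(9)`)
-/

set_option autoImplicit false

namespace Cfsg.Agent.TwoF.Alt.Six

open Module Gen Equiv Cfsg.Agent.StdAlt.Six

theorem rank_sq {k V : Type*} [Field k] [AddCommGroup V] [Module k V] [FiniteDimensional k V] (N : Module.End k V)
    (h : N * N * (N * N) = 0) : 3 * finrank k (LinearMap.range (N * N)) ≤ 2 * finrank k (LinearMap.range N) := by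
  have key : ∀ P : Submodule k V, finrank k (P.map N) + finrank k ↥(P ⊓ LinearMap.ker N) = finrank k P := fun P => by
    have h1 := LinearMap.finrank_range_add_finrank_ker (N.domRestrict P)
    rw [LinearMap.range_domRestrict, LinearMap.ker_domRestrict, ← Submodule.finrank_map_subtype_eq P,
      Submodule.map_comap_subtype] at h1
    exact h1
  have h1 := key (LinearMap.range N)
  have h2 := key (LinearMap.range (N * N))
  have e1 : (LinearMap.range N).map N = LinearMap.range (N * N) := (LinearMap.range_comp N N).symm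
  rw [e1] at h1
  have h3 : (LinearMap.range (N * N)).map N ≤ LinearMap.range (N * N) ⊓ LinearMap.ker N := by
    rintro _ ⟨_, ⟨v, rfl⟩, rfl⟩
    exact ⟨⟨N v, rfl⟩, LinearMap.congr_fun h v⟩
  have h4 : LinearMap.range (N * N) ⊓ LinearMap.ker N ≤ LinearMap.range N ⊓ LinearMap.ker N :=
    inf_le_inf_right _ (by rintro _ ⟨v, rfl⟩; exact ⟨N v, rfl⟩)
  have h5 := Submodule.finrank_mono h3
  have h6 := Submodule.finrank_mono h4
  omega

theorem mem_zpowers_two {Y : Type*} [Group Y] {j a : Y} (hj : j * j = 1) (ha : a ∈ Subgroup.zpowers j) :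
    a = 1 ∨ a = j := by
  obtain ⟨n, rfl⟩ := Subgroup.mem_zpowers_iff.1 ha
  have h2 : j ^ (2 : ℤ) = 1 := by rw [zpow_two, hj]
  obtain ⟨m, rfl | rfl⟩ := Int.even_or_odd' n
  · exact Or.inl (by rw [zpow_mul, h2, one_zpow])
  · exact Or.inr (by rw [zpow_add, zpow_mul, h2, one_zpow, one_mul, zpow_one])

theorem order_two {Y : Type*} [Group Y] {j : Y} (hj : j * j = 1) (h1 : j ≠ 1) : orderOf j = 2 :=
  orderOf_eq_prime (by rw [sq, hj]) h1

theorem four_of_sq {G : Type*} [Group G] {x : G} (h : x * x = 1) : x ^ 4 = 1 := by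
  rw [show x ^ 4 = x * x * (x * x) by simp only [pow_succ, pow_zero, one_mul, mul_assoc], h, one_mul]

/-- `(3 4 5)` -/
def C1' : A6 := ⟨swap 3 4 * swap 4 5, Perm.mem_alternatingGroup.2 (by decide)⟩
/-- `(0 1)(3 4)` -/
def J0 : A6 := ⟨swap 0 1 * swap 3 4, Perm.mem_alternatingGroup.2 (by decide)⟩

theorem C_facts : C1' * C0 = C0 * C1' ∧ C1' * C1' * C1' = 1 ∧ J0 * J0 = 1 ∧ J0 ≠ 1 ∧ J0 * C0 * J0⁻¹ = C0⁻¹ ∧
    J0 * C1' * J0⁻¹ = C1'⁻¹ ∧ C1' ≠ 1 ∧ C1' * C0 ≠ 1 ∧ C1' * (C0 * C0) ≠ 1 := by decide +kernel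

variable {Y : Type} [Group Y] [Finite Y] {V : Type} [AddCommGroup V] [Module (ZMod 2) V] [Finite V]
  {K : Subgroup Y} {ρ : Representation (ZMod 2) Y V} {π : K →* A6} {φ : Y →* MulAut A6}

omit [Finite Y] in
theorem cod_sq {u : Y} (h : u * u * (u * u) = 1) :
    3 * cod ρ (Subgroup.zpowers (u * u)) ≤ 2 * cod ρ (Subgroup.zpowers u) := by
  have h2 : ∀ g : Y, (ρ g - 1) * (ρ g - 1) = ρ (g * g) - 1 := fun g => by
    have h3 : (2 : Module.End (ZMod 2) V) = 0 := by
      have h4 := two_smul (ZMod 2) (1 : Module.End (ZMod 2) V)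
      rw [show (2 : ZMod 2) = 0 from rfl, zero_smul, one_add_one_eq_two] at h4
      exact h4.symm
    rw [map_mul]
    calc (ρ g - 1) * (ρ g - 1) = ρ g * ρ g - 1 + 2 * (1 - ρ g) := by noncomm_ring
      _ = _ := by rw [h3, zero_mul, add_zero]
  rw [cod_zpowers, cod_zpowers, ← h2]
  exact rank_sq _ (by rw [h2, h2, h, map_one, sub_self])

variable (H : Sit 2 K ρ π φ)
include H

omit [Finite V] in
theorem cube {z : Y} (hz : z ∈ Subgroup.centralizer (K : Set Y)) : z ^ 3 = 1 := by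
  have h1 := H.toFrm.card_center_dvd' H.toStp.perfect (S2116.result 6 (Or.inl rfl))
  have h2 : Nat.card (Subgroup.center K) ∣ 3 :=
    ((Nat.Prime.coprime_iff_not_dvd Nat.prime_two).2 H.cop).symm.dvd_of_dvd_mul_left h1
  rw [← H.toStp.card_centralizer] at h2
  exact orderOf_dvd_iff_pow_eq_one.1 ((Subgroup.orderOf_dvd_natCard _ hz).trans h2)

omit [Finite V] in
theorem lift2 {s : A6} (hs : s * s = 1) : ∃ x : K, π x = s ∧ x * x = 1 := by
  obtain ⟨x, rfl⟩ := H.surj s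
  refine ⟨x * x * x, by rw [map_mul, map_mul, hs, one_mul], Subtype.ext ?_⟩
  have h1 := cube H (H.toFrm.π_eq_one_iff.1 (show π (x * x) = 1 by rw [map_mul, hs]))
  rw [← show (x * x) ^ 3 = x * x * x * (x * x * x) by simp only [pow_succ, pow_zero, one_mul, mul_assoc]]
  exact h1

omit [Finite V] in
theorem uniq {x y : K} (h : π x = π y) (hx : x ^ 4 = 1) (hy : y ^ 4 = 1) : x = y := by
  have h1 := H.toFrm.π_eq_one_iff.1 (show π (y⁻¹ * x) = 1 by rw [map_mul, map_inv, h, inv_mul_cancel])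
  have h2 : (y⁻¹ * x) ^ 3 = 1 := Subtype.ext (cube H h1)
  have h3 : Commute y (y⁻¹ * x) := Subtype.ext (h1 y y.2)
  have h4 : (y⁻¹ * x) ^ 4 = 1 := by
    have := h3.mul_pow 4
    rw [mul_inv_cancel_left, hx, hy, one_mul] at this
    exact this.symm
  rw [pow_succ, h2, one_mul] at h4
  exact (inv_mul_eq_one.1 h4).symm

omit [Finite V] in
theorem π_ne {i : K} (h2 : i * i = 1) (h1 : i ≠ 1) : π i ≠ 1 := fun e =>
  h1 (uniq H (e.trans (map_one π).symm) (four_of_sq h2) (one_pow 4))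

omit [Finite V] in
theorem cod_inv {i j : K} (hi : i * i = 1) (hi1 : i ≠ 1) (hj : j * j = 1) (hj1 : j ≠ 1) :
    cod ρ (Subgroup.zpowers (i : Y)) = cod ρ (Subgroup.zpowers (j : Y)) := by
  obtain ⟨v, hv⟩ := exists_conj_Z0 (x := π i) (by rw [← map_mul, hi, map_one]) (π_ne H hi hi1)
  obtain ⟨w, hw⟩ := exists_conj_Z0 (x := π j) (by rw [← map_mul, hj, map_one]) (π_ne H hj hj1)
  obtain ⟨v, rfl⟩ := H.surj v
  obtain ⟨w, rfl⟩ := H.surj w
  have h1 : v * i * v⁻¹ = w * j * w⁻¹ := uniq H (by simp only [map_mul, map_inv, hv, hw])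
    (by rw [conj_pow, four_of_sq hi]; simp) (by rw [conj_pow, four_of_sq hj]; simp)
  have h2 : (v : Y) * i * (v : Y)⁻¹ = w * j * (w : Y)⁻¹ := congrArg Subtype.val h1
  rw [← cod_zpowers_conj (v : Y), h2, cod_zpowers_conj]

theorem four_le (hirr : Irr ρ K) {a : Y} (ha : ¬ NS (φ a)) {i : K} (hi : i * i = 1) (hi1 : i ≠ 1)
    (h3 : 3 ≤ cod ρ (Subgroup.zpowers (i : Y))) : 4 ≤ cod ρ (Subgroup.zpowers (i : Y)) := by
  have := Fact.mk Nat.prime_three
  have := H.normal
  have three : ∀ z : Y, z ^ 3 = 1 → IsPGroup 3 (Subgroup.zpowers z) := fun z hz => elemAb_isPGroup (elemAb_zpowers hz)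
  have hk : ¬ 3 ∣ Nat.card (ZMod 2) := by rw [Nat.card_zmod]; norm_num
  by_cases hZ : ∃ z ∈ Subgroup.centralizer (K : Set Y), z ≠ 1
  · obtain ⟨z, hz, hz1⟩ := hZ
    have h1 : fx ρ (Subgroup.zpowers z) = ⊥ := hirr.fx_eq_bot H.faithful
      (fun x hx => Subgroup.centralizer_le_normalizer _ fun y hy =>
        ((Subgroup.zpowers_le.2 hz hy : y ∈ Subgroup.centralizer (K : Set Y)) x hx).symm)
      fun e => hz1 (Subgroup.zpowers_eq_bot.1 e)
    have h2 : Inv ρ (Subgroup.zpowers z) (LinearMap.range (ρ i - 1)) := by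
      rintro y hy _ ⟨v, rfl⟩
      refine ⟨ρ y v, ?_⟩
      have h4 := (Subgroup.zpowers_le.2 hz hy : y ∈ Subgroup.centralizer (K : Set Y)) i i.2
      simp only [LinearMap.sub_apply, Module.End.one_apply, map_sub, ← rho_mul, h4]
    have h4 := pow_cod_modEq (ρ := resOn ρ h2) hk (X := (Subgroup.zpowers z).subgroupOf _)
      ((three z (cube H hz)).comap_of_injective _ (Subgroup.subtype_injective _))
    rw [cod_resOn_subgroupOf h2 le_rfl, codOn_of_inf_eq_bot (by rw [h1, inf_bot_eq]), ← cod_zpowers,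
      Nat.card_zmod] at h4
    by_contra h5
    rw [show cod ρ (Subgroup.zpowers (i : Y)) = 3 by omega] at h4
    exact absurd h4 (by decide)
  · have hπ : Function.Injective π := (injective_iff_map_eq_one π).2 fun x hx => Subtype.ext (by
      by_contra h1; exact hZ ⟨x, H.toFrm.π_eq_one_iff.1 hx, h1⟩)
    obtain ⟨f1, f2, f3, f4, f5, f6, f7, f8, f9⟩ := C_facts
    obtain ⟨x, hx⟩ := H.surj C0
    obtain ⟨y, hy⟩ := H.surj C1'
    obtain ⟨j, hj⟩ := H.surj J0
    have cj : ∀ u v : K, (∃ w, w * π u * w⁻¹ = π v) →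
        cod ρ (Subgroup.zpowers (v : Y)) = cod ρ (Subgroup.zpowers (u : Y)) := by
      rintro u v ⟨w, hw⟩
      obtain ⟨w, rfl⟩ := H.surj w
      rw [← hπ (show π (w * u * w⁻¹) = π v by rw [map_mul, map_mul, map_inv, hw])]
      exact cod_zpowers_conj (w : Y) (u : Y)
    have c3 : ∀ u : K, π u * π u * π u = 1 → π u ≠ 1 →
        cod ρ (Subgroup.zpowers (u : Y)) = cod ρ (Subgroup.zpowers (x : Y)) := fun u h1 h2 => by
      by_cases h4 : mv (π u) = 3
      · exact cj x u (isConj_iff.1 (alternatingGroup.isThreeCycle_isConj (by simp)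
          ((three_iff _).1 (by rw [hx]; exact mv_c0)) ((three_iff _).1 h4)))
      · have h5 := H.conj a x ⟨_, H.normal.conj_mem _ x.2 a⟩ rfl
        rw [← cod_zpowers_conj a (x : Y)]
        refine cj ⟨_, H.normal.conj_mem _ x.2 a⟩ u (conj_of_six ?_ ?_ ?_ h1 h2 h4) <;> rw [← h5, hx]
        · exact cube_map C0_cube
        · exact ne_map C0_ne
        · exact fun e => ha (ns_of_mv_three mv_c0 e)
    have hxy : y * x = x * y := hπ (by rw [map_mul, map_mul, hx, hy, f1])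
    have hx3 : x ^ 3 = 1 := hπ (by rw [map_pow, hx, map_one, pow_three', C0_cube])
    have hy3 : y ^ 3 = 1 := hπ (by rw [map_pow, hy, map_one, pow_three', f2])
    have hxy' : (y : Y) * x = x * y := congrArg Subtype.val hxy
    have hx3' : (x : Y) ^ 3 = 1 := congrArg Subtype.val hx3
    have hy3' : (y : Y) ^ 3 = 1 := congrArg Subtype.val hy3
    have h3k : ((3 : ℕ) : ZMod 2) ≠ 0 := by decide
    have h4 := sum_cod_rank_two (ρ := ρ) hxy' Nat.prime_three h3k hy3' hx3'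
    have cc : ∀ n : ℕ, C1' * C0 ^ n ≠ 1 →
        cod ρ (Subgroup.zpowers ((y : Y) * (x : Y) ^ n)) = cod ρ (Subgroup.zpowers (x : Y)) := fun n h =>
      c3 (y * x ^ n) (by
        rw [← map_mul, ← map_mul, ← pow_three', (Commute.pow_right hxy n).mul_pow, hy3, ← pow_mul, mul_comm n,
          pow_mul, hx3, one_pow, mul_one, map_one]) (by rwa [map_mul, map_pow, hx, hy])
    rw [Finset.sum_range_succ, Finset.sum_range_succ, Finset.sum_range_one, cc 0 (by rwa [pow_zero, mul_one]),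
      cc 1 (by rwa [pow_one]), cc 2 (by rwa [sq])] at h4
    have h5 : 0 < cod ρ (Subgroup.zpowers (x : Y)) := cod_pos H.faithful fun e =>
      C0_ne (by rw [← hx, show x = 1 from Subtype.ext (Subgroup.zpowers_eq_bot.1 e), map_one])
    have h6 := pow_cod_modEq (ρ := ρ) hk (three _ hx3')
    rw [Nat.card_zmod] at h6
    have h7 : cod ρ (Subgroup.zpowers (x : Y)) ≠ 3 := fun e => by
      rw [e] at h6; exact absurd h6 (by decide)
    have hc := comm_sup_zpowers hxy'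
    have he := exp_sup_zpowers hxy' hy3' hx3'
    have hj2 : j * j = 1 := hπ (by rw [map_mul, hj, f3, map_one])
    have hj1 : j ≠ 1 := fun e => f4 (by rw [← hj, e, map_one])
    have hj2' : (j : Y) * j = 1 := congrArg Subtype.val hj2
    have hinv : ∀ r ∈ Subgroup.zpowers (x : Y) ⊔ Subgroup.zpowers (y : Y), (j : Y) * r * (j : Y)⁻¹ = r⁻¹ := by
      intro r hr
      rw [Subgroup.zpowers_eq_closure, Subgroup.zpowers_eq_closure, ← Subgroup.closure_union] at hr hc
      refine Subgroup.closure_induction ?_ (by simp) (fun u v hu hv h8 h9 => ?_) (fun u _ h8 => ?_) hr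
      · rintro _ (rfl | rfl)
        · exact congrArg Subtype.val (hπ (show π (j * x * j⁻¹) = π x⁻¹ by simp only [map_mul, map_inv, hx, hj, f5]))
        · exact congrArg Subtype.val (hπ (show π (j * y * j⁻¹) = π y⁻¹ by simp only [map_mul, map_inv, hy, hj, f6]))
      · rw [← conj_mul, h8, h9, ← mul_inv_rev, hc u hu v hv]
      · rw [← conj_inv, h8]
    have h8 := frobenius_bound (ρ := ρ) hc (card_ne_zero_of_exp Nat.prime_three h3k he)
      (A := Subgroup.zpowers (j : Y))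
      (Subgroup.zpowers_le.2 (Subgroup.mem_normalizer_fintype fun r hr => by rw [hinv r hr]; exact inv_mem hr))
      fun b hb hb1 r hr h9 => by
        rw [(mem_zpowers_two hj2' hb).resolve_left hb1] at h9
        have h10 := hinv r hr
        rw [h9, mul_inv_cancel_right, eq_inv_iff_mul_eq_one] at h10
        have h11 := he r hr
        rwa [pow_three', h10, one_mul] at h11
    rw [Nat.card_zpowers, order_two hj2' fun e => hj1 (Subtype.ext e)] at h8
    rw [cod_inv H hi hi1 hj2 hj1]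
    omega

omit [Finite V] in
theorem exists_u {a : Y} (ha2 : a * a = 1) (ha : ¬ NS (φ a)) {i : K} (hi : i * i = 1) (hi1 : i ≠ 1)
    (h : φ a (π i) = π i) :
    ∃ b : Y, b * i = i * b ∧ a * b * a⁻¹ * b⁻¹ * (a * b * a⁻¹ * b⁻¹) = i := by
  obtain ⟨t, h1, h2, h3⟩ := exists_t ha (by rw [← map_mul, ha2, map_one]) (x := π i)
    (by rw [← map_mul, hi, map_one]) (π_ne H hi hi1) h
  obtain ⟨b, rfl, hb⟩ := lift2 H h1
  have h4 : b * i * b⁻¹ = i := uniq H (by rw [map_mul, map_mul, map_inv, h2, mul_inv_cancel_right])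
    (by rw [conj_pow, four_of_sq hi]; simp) (four_of_sq hi)
  refine ⟨b, congrArg Subtype.val (mul_inv_eq_iff_eq_mul.1 h4), ?_⟩
  let b' : K := ⟨_, H.normal.conj_mem _ b.2 a⟩
  have h5 : φ a (π b) = π b' := H.conj a b b' rfl
  have h6 : b' * b' = 1 := Subtype.ext (by
    change a * b * a⁻¹ * (a * b * a⁻¹) = 1
    rw [conj_mul, show (b : Y) * b = 1 from congrArg Subtype.val hb]; simp)
  rw [h5, ← map_inv, ← map_mul, ← map_mul] at h3
  have h7 : b * (b' * b⁻¹) * b⁻¹ = (b' * b⁻¹)⁻¹ := by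
    rw [mul_inv_rev, inv_inv, inv_eq_of_mul_eq_one_right h6, inv_eq_of_mul_eq_one_right hb, mul_assoc, mul_assoc,
      hb, mul_one]
  generalize hu : b' * b⁻¹ = u at h3 h7
  have h8 : ((u ^ 4 : K) : Y) ∈ Subgroup.centralizer (K : Set Y) := H.toFrm.π_eq_one_iff.1 (by
    rw [show u ^ 4 = u * u * (u * u) by simp only [pow_succ, pow_zero, one_mul, mul_assoc], map_mul, h3,
      ← map_mul, hi, map_one])
  have h9 : b * u ^ 4 = u ^ 4 * b := Subtype.ext (h8 b b.2)
  have h10 : u ^ 4 * u ^ 4 = 1 := by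
    rw [← eq_inv_iff_mul_eq_one, ← inv_pow, ← h7, conj_pow, h9, mul_inv_cancel_right]
  have h11 : u * u = i := uniq H h3 (by rw [← sq, ← pow_mul, ← h10, ← pow_add]) (four_of_sq hi)
  rw [← hu] at h11
  exact congrArg Subtype.val h11

theorem pgl (hirr : Irr ρ K) (h3 : ∀ i : K, i * i = 1 → i ≠ 1 → 3 ≤ cod ρ (Subgroup.zpowers (i : Y)))
    {A : Subgroup Y} (hA : Off 2 ρ A) {a : Y} (haA : a ∈ A) (ha : ¬ NS (φ a)) : False := by
  classical
  have ha2 := sq_of hA.1 haA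
  have key : ∀ i : K, i * i = 1 → i ≠ 1 → φ a (π i) = π i → ∃ b : Y, b * i = i * b ∧
      4 ≤ cod ρ (Subgroup.zpowers (i : Y)) ∧ 6 ≤ cod ρ (Subgroup.zpowers (a * b * a⁻¹ * b⁻¹)) := fun i hi hi1 h => by
    obtain ⟨b, h1, h2⟩ := exists_u H ha2 ha hi hi1 h
    have h4 := four_le H hirr ha hi hi1 (h3 i hi hi1)
    have h5 := cod_sq (ρ := ρ) (u := a * b * a⁻¹ * b⁻¹) (by rw [h2]; exact congrArg Subtype.val hi)
    rw [h2] at h5
    exact ⟨b, h1, h4, by omega⟩
  by_cases h : ∃ y ∈ A, y ≠ 1 ∧ NS (φ y)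
  · obtain ⟨y, hy, hy1, h1⟩ := h
    obtain ⟨s, hs⟩ := inner_of_comm ha h1 (by rw [← map_mul, sq_of hA.1 hy, map_one])
      (by rw [← map_mul, ← map_mul, elemAb_comm hA.1 haA hy])
    have hK : y ∈ K := H.toFrm.mem_inn_iff.1 ⟨s, hs.symm⟩
    obtain ⟨b, h4, h5, h6⟩ := key ⟨y, hK⟩ (Subtype.ext (sq_of hA.1 hy)) (fun e => hy1 (congrArg Subtype.val e))
      (H.conj a _ _ (by rw [eq_mul_inv_iff_mul_eq]; exact elemAb_comm hA.1 hy haA))
    have h7 : Nat.card A ≤ 4 := H.toStp.card_map H.toFrm (elemAb_isPGroup hA.1) ▸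
      card_le_four (elemAb_map hA.1 φ) ⟨a, haA, rfl⟩ ha
    have h8 : cod ρ A ≤ 4 := (Nat.pow_le_pow_iff_right (a := 2) (by norm_num)).1
      (hA.2.2.trans (Nat.pow_le_pow_left h7 2))
    have h9 := cod_sup_add_inf (ρ := ρ) A (A.map (MulAut.conj b).toMonoidHom)
    have h10 : Subgroup.zpowers (a * b * a⁻¹ * b⁻¹) ≤ A ⊔ A.map (MulAut.conj b).toMonoidHom := by
      rw [Subgroup.zpowers_le, mul_assoc, mul_assoc, ← mul_assoc b]
      exact Subgroup.mul_mem_sup haA ⟨a⁻¹, inv_mem haA, rfl⟩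
    have h11 : Subgroup.zpowers y ≤ A ⊓ A.map (MulAut.conj b).toMonoidHom :=
      Subgroup.zpowers_le.2 ⟨hy, y, hy, mul_inv_eq_iff_eq_mul.2 h4⟩
    have h12 := cod_mono (ρ := ρ) h10
    have h13 := cod_mono (ρ := ρ) h11
    rw [cod_conj] at h9
    change 4 ≤ cod ρ (Subgroup.zpowers y) at h5
    omega
  · obtain ⟨s, h1, h2, h4⟩ := exists_fix (α := φ a) (by rw [← map_mul, ha2, map_one])
    obtain ⟨i, rfl, hi⟩ := lift2 H h1
    obtain ⟨b, -, -, h6⟩ := key i hi (fun e => h2 (by rw [e, map_one])) h4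
    have h5 : (A : Set Y) ⊆ ({1, a⁻¹} : Finset Y) := fun y hy => by
      simp only [Finset.coe_insert, Finset.coe_singleton, Set.mem_insert_iff, Set.mem_singleton_iff]
      by_cases h7 : NS (φ y)
      · exact Or.inl (by by_contra h8; exact h ⟨y, hy, h8, h7⟩)
      · refine Or.inr (eq_inv_of_mul_eq_one_left ?_)
        by_contra h8
        exact h ⟨_, mul_mem hy haA, h8, by rw [map_mul]; exact NS.mul_of_not h7 ha⟩
    have h7 : Nat.card A ≤ 2 := (Nat.card_mono (Finset.finite_toSet _) h5).trans (by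
      rw [Nat.card_coe_set_eq, Set.ncard_coe_finset]; exact Finset.card_le_two)
    have h8 : cod ρ A ≤ 2 := (Nat.pow_le_pow_iff_right (a := 2) (by norm_num)).1
      (hA.2.2.trans (Nat.pow_le_pow_left h7 2))
    have h9 := cod_zpowers_commutator_le (ρ := ρ) a b
    have h10 := cod_mono (ρ := ρ) (Subgroup.zpowers_le.2 haA)
    omega

end Cfsg.Agent.TwoF.Alt.Six
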