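import Cfsg.Agent.TwoF.Alt.SixB
import Cfsg.Agent.TwoF.Alt.SixC
import Cfsg.Agent.H47.Kill

/-!
# TwoF: the row of `A₆` in characteristic two
-/

set_option autoImplicit false

namespace Cfsg.Agent.TwoF.Alt.Six

open Module Gen Equiv Cfsg.Agent.StdAlt.Six
open scoped commutatorElement

theorem θ_facts : θ (swap 0 1) C0 = C0⁻¹ ∧ θ (swap 0 1) C1' = C1' ∧
    ({1, C0, C0 * C0, C1'} : Finset A6).card = 4 ∧ Perm.sign z = 1 ∧ z * z = 1 ∧ z ≠ 1 := by decide +kernel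

theorem not_dvd_index : ¬ 3 ∣ (Subgroup.closure {C0, C1'} : Subgroup A6).index := by
  have := Fact.mk Nat.prime_three
  have h1 := exp_sup_zpowers (r := 3) C_facts.1 (by rw [pow_three', C_facts.2.1]) (by rw [pow_three', C0_cube])
  rw [Subgroup.zpowers_eq_closure, Subgroup.zpowers_eq_closure, ← Subgroup.closure_union] at h1
  change ∀ a ∈ Subgroup.closure {C0, C1'}, _ at h1
  have m0 : C0 ∈ Subgroup.closure {C0, C1'} := Subgroup.subset_closure (Or.inl rfl)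
  have m1 : C1' ∈ Subgroup.closure {C0, C1'} := Subgroup.subset_closure (Or.inr rfl)
  generalize Subgroup.closure {C0, C1'} = R at h1 m0 m1
  obtain ⟨n, hn⟩ := IsPGroup.exists_card_eq (p := 3) (G := R) fun a => ⟨1, Subtype.ext (by simpa using h1 a a.2)⟩
  have h2 : ((({1, C0, C0 * C0, C1'} : Finset A6)) : Set A6) ⊆ R := fun x hx => by
    simp only [Finset.coe_insert, Finset.coe_singleton, Set.mem_insert_iff, Set.mem_singleton_iff] at hx
    rcases hx with rfl | rfl | rfl | rfl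
    exacts [one_mem _, m0, mul_mem m0 m0, m1]
  have h3 := Nat.card_mono (Set.toFinite _) h2
  rw [Nat.card_coe_set_eq, Set.ncard_coe_finset, θ_facts.2.2.1] at h3
  change 4 ≤ Nat.card R at h3
  have h4 := R.card_mul_index
  rw [nat_card_alternatingGroup, Nat.card_eq_fintype_card (α := Fin 6), Fintype.card_fin, hn] at h4
  rw [hn] at h3
  rintro ⟨m, hm⟩
  obtain ⟨n, rfl⟩ : ∃ k, n = k + 2 := ⟨n - 2, by rcases n with _ | _ | n <;> omega⟩
  rw [hm, show 3 ^ (n + 2) * (3 * m) = 27 * (3 ^ n * m) by ring] at h4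
  norm_num [Nat.factorial] at h4
  omega

variable {Y : Type} [Group Y] [Finite Y] {V : Type} [AddCommGroup V] [Module (ZMod 2) V] [Finite V]
  {K : Subgroup Y} {ρ : Representation (ZMod 2) Y V} {π : K →* A6} {φ : Y →* MulAut A6} (H : Sit 2 K ρ π φ)
include H

omit [Finite V] in
theorem kill {y : Y} (hy : φ y = θ (swap 0 1)) (hc : ∀ w ∈ Subgroup.centralizer (K : Set Y), y * w = w * y) :
    Function.Injective φ := by
  obtain ⟨a, ha⟩ := H.surj C0
  obtain ⟨b, hb⟩ := H.surj C1'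
  have hZ : ∀ {w : K}, π w = 1 → ∀ x : K, x * w = w * x := fun h x =>
    Subtype.ext (H.toFrm.π_eq_one_iff.1 h x x.2)
  have h1 : π ⁅a, b⁆ = 1 := by
    rw [map_commutatorElement, commutatorElement_eq_one_iff_mul_comm, ha, hb, C_facts.1]
  let a' : K := ⟨_, H.normal.conj_mem _ a.2 y⟩
  let b' : K := ⟨_, H.normal.conj_mem _ b.2 y⟩
  have h2 : π (a * a') = 1 := by rw [map_mul, ← H.conj y a a' rfl, hy, ha, θ_facts.1, mul_inv_cancel]
  have h3 : π (b⁻¹ * b') = 1 := by rw [map_mul, ← H.conj y b b' rfl, hy, map_inv, hb, θ_facts.2.1, inv_mul_cancel]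
  have h4 : ⁅a', b'⁆ = ⁅a, b⁆ := Subtype.ext (by
    have h5 := hc _ (H.toFrm.π_eq_one_iff.1 h1)
    rw [← mul_inv_eq_iff_eq_mul] at h5
    rw [← h5]
    change y * a * y⁻¹ * (y * b * y⁻¹) * (y * a * y⁻¹)⁻¹ * (y * b * y⁻¹)⁻¹ = y * (a * b * (a : Y)⁻¹ * (b : Y)⁻¹) * y⁻¹
    group)
  have h5 : ⁅a', b'⁆ = ⁅a, b⁆⁻¹ := by
    have e1 := hZ h2
    have e2 := hZ h3
    have e3 := hZ h1 a
    rw [← inv_mul_cancel_left a a', ← mul_inv_cancel_left b b']
    generalize a * a' = u at e1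
    generalize b⁻¹ * b' = v at e2
    calc ⁅a⁻¹ * u, b * v⁆ = a⁻¹ * (u * (b * v)) * u⁻¹ * a * v⁻¹ * b⁻¹ := by rw [commutatorElement_def]; group
      _ = a⁻¹ * b * (v * a) * v⁻¹ * b⁻¹ := by rw [← e1]; group
      _ = (⁅a, b⁆ * a)⁻¹ * a := by rw [← e2, commutatorElement_def]; group
      _ = _ := by rw [← e3]; group
  have h6 : ⁅a, b⁆ = 1 := uniq H (h1.trans (map_one π).symm)
    (four_of_sq (by rw [← eq_inv_iff_mul_eq_one, ← h5, h4])) (one_pow 4)
  refine (injective_iff_map_eq_one φ).2 fun w hw => ?_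
  have h7 := H.toFrm.φ_eq_one_iff.1 hw
  have h8 := H47.Kill.exists_comm H.surj H.ker_π.le H.toStp.perfect.commutator_eq_top C_facts.1.symm ha hb
    (z := ⟨w, H.toFrm.cent h7⟩) (H.toFrm.π_eq_one_iff.2 h7)
  rw [h6, Subgroup.zpowers_one_eq_bot, Subgroup.mem_bot] at h8
  have h9 : w ^ _ = 1 := congrArg Subtype.val h8
  exact orderOf_eq_one_iff.1 (Nat.eq_one_of_dvd_coprimes
    ((Nat.Prime.coprime_iff_not_dvd Nat.prime_three).2 not_dvd_index)
    (orderOf_dvd_of_pow_eq_one (cube H h7)) (orderOf_dvd_of_pow_eq_one h9))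

theorem sym (h3 : ∀ i : K, i * i = 1 → i ≠ 1 → 3 ≤ cod ρ (Subgroup.zpowers (i : Y))) {A : Subgroup Y}
    (hA : Off 2 ρ A) (htop : K ⊔ A = ⊤) (hlin : LinOver ρ K A) (hK : ¬ A ≤ K) (hns : ∀ a ∈ A, NS (φ a)) : False := by
  have h1 : ∀ y, φ y ∈ θ.range := fun y =>
    (sup_le (fun x hx => ns_iff.1 (H.toFrm.φ_coe ⟨x, hx⟩ ▸ NS.conj _)) fun a ha => ns_iff.1 (hns a ha) :
      K ⊔ A ≤ θ.range.comap φ) (htop ▸ Subgroup.mem_top y)
  have h2 : ∀ σ, Perm.sign σ = 1 → ∃ y ∈ K, φ y = θ σ := fun σ h => by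
    obtain ⟨x, hx⟩ := H.surj ⟨σ, Perm.mem_alternatingGroup.2 h⟩
    exact ⟨x, x.2, by rw [H.toFrm.φ_coe, hx, ← θ_coe]⟩
  have h4 : ∀ σ, ∃ y, φ y = θ σ := fun σ => by
    rcases Int.units_eq_one_or (Perm.sign σ) with h | h
    · exact (h2 σ h).imp fun _ h => h.2
    · obtain ⟨a, ha, h5⟩ := SetLike.not_le_iff_exists.1 hK
      obtain ⟨τ, hτ⟩ := h1 a
      have h6 : Perm.sign τ = -1 := (Int.units_eq_one_or _).resolve_left fun e =>
        h5 (H.toFrm.mem_inn_iff.1 ⟨⟨τ, Perm.mem_alternatingGroup.2 e⟩, by rw [← θ_coe, hτ]⟩)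
      obtain ⟨y, -, hy⟩ := h2 (σ * τ⁻¹) (by rw [map_mul, map_inv, h, h6]; rfl)
      exact ⟨y * a, by rw [map_mul, hy, ← hτ, ← map_mul, inv_mul_cancel_right]⟩
  obtain ⟨y, hy⟩ := h4 (swap 0 1)
  have hφ := kill H hy fun w hw => Subgroup.mem_centralizer_singleton_iff.1
    ((sup_le (fun x hx => Subgroup.mem_centralizer_singleton_iff.2 (hw x hx)) fun a ha =>
      Subgroup.mem_centralizer_singleton_iff.2 (H.faithful (by
        rw [map_mul, map_mul]
        exact (hlin _ (fun x hx => by rw [← map_mul, ← map_mul, hw x hx]) a ha).symm)) :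
      K ⊔ A ≤ Subgroup.centralizer {w}) (htop ▸ Subgroup.mem_top y))
  choose j hj using h4
  let J : Perm (Fin 6) →* Y := MonoidHom.mk' j fun a b => hφ (by rw [map_mul, hj, hj, hj, map_mul])
  have hJ : Function.Injective J := fun a b h => θ_inj (by rw [← hj, ← hj]; exact congrArg φ h)
  have hS : Function.Surjective J := fun y => (h1 y).imp fun σ h => hφ ((hj σ).trans h)
  rcases six (ρ := ρ.comp J) (H.faithful.comp hJ) (fun U hU => H.irr U fun b _ v hv => by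
    obtain ⟨σ, rfl⟩ := hS b
    exact hU σ trivial v hv) with h | h
  · rw [cod_comp, MonoidHom.map_zpowers] at h
    obtain ⟨x, hx, h5⟩ := h2 z θ_facts.2.2.2.1
    have h6 : J z = x := hφ ((hj z).trans h5.symm)
    have h7 := h3 ⟨x, hx⟩ (Subtype.ext (by
      change x * x = 1
      rw [← h6, ← map_mul, θ_facts.2.2.2.2.1, map_one])) fun e =>
        θ_facts.2.2.2.2.2 (hJ (by rw [h6, map_one]; exact congrArg Subtype.val e))
    rw [h6] at h
    change 3 ≤ cod ρ (Subgroup.zpowers x) at h7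
    omega
  · have h5 := Subgroup.map_comap_eq_self_of_surjective hS A
    have h6 := h (A.comap J) ((elemAb_isPGroup hA.1).comap_of_injective J hJ) fun e =>
      hA.2.1 (by rw [← h5, e, Subgroup.map_bot])
    rw [cod_comp, h5] at h6
    have h7 : Nat.card A ≤ 8 := H.toStp.card_map H.toFrm (elemAb_isPGroup hA.1) ▸
      card_le_eight _ (elemAb_map hA.1 φ)
    have h8 : cod ρ A ≤ 6 := (Nat.pow_le_pow_iff_right (a := 2) (by norm_num)).1
      (hA.2.2.trans (Nat.pow_le_pow_left h7 2))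
    omega

omit H in
theorem row89 : Row89 2 A6 := row89_of_sit fun Y _ _ V _ _ _ K ρ π φ H A hA hirr htop hlin hK => by
  by_contra hn
  have h3 : ∀ i : K, i * i = 1 → i ≠ 1 → 3 ≤ cod ρ (Subgroup.zpowers (i : Y)) := fun i hi hi1 => by
    by_contra h
    exact hn ⟨_, Subgroup.zpowers_le.2 i.2,
      off_zpowers (order_two (congrArg Subtype.val hi) fun e => hi1 (Subtype.ext e)) (by omega)⟩
  by_cases h : ∀ a ∈ A, NS (φ a)
  · exact sym H h3 hA htop hlin hK h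
  · push Not at h
    obtain ⟨a, ha, h1⟩ := h
    exact pgl H hirr h3 hA ha h1

end Cfsg.Agent.TwoF.Alt.Six

namespace Cfsg.Agent.TwoF.Alt

theorem row_six : Row 2 (alternatingGroup (Fin 6)) := ⟨Six.row88, Six.row89⟩

end Cfsg.Agent.TwoF.Alt
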