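import Cfsg.Agent.TwoF.Alt.Big
import Cfsg.Agent.TwoF.Alt.Nine
import Cfsg.Agent.TwoF.Alt.Seven
import Cfsg.Agent.TwoF.Alt.Six
import Cfsg.Agent.TwoF.Alt.Odd
import Cfsg.Agent.S0252
import Cfsg.Agent.S0256

/-!
# The box of the alternating groups
-/

set_option autoImplicit false

namespace Cfsg.Agent.TwoF.Alt

theorem lie_five : IsLieTypeChar 2 (alternatingGroup (Fin 5)) := by
  have : Fintype (GaloisField 2 2) := Fintype.ofFinite _
  have hF : Fintype.card (GaloisField 2 2) = 4 := by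
    rw [← Nat.card_eq_fintype_card, GaloisField.card _ _ (by norm_num)]; rfl
  obtain ⟨f⟩ := S0252.result hF
  exact Or.inl ⟨GaloisField 2 2, inferInstance, inferInstance, inferInstance, 2, le_rfl, fun _ => hF.ge, ⟨f.symm⟩⟩

theorem lie_eight : IsLieTypeChar 2 (alternatingGroup (Fin 8)) := by
  obtain ⟨f⟩ := S0256.result (F := ZMod 2) (by decide)
  exact Or.inl ⟨ZMod 2, inferInstance, inferInstance, inferInstance, 4, by norm_num, fun h => by omega, ⟨f.symm⟩⟩

theorem boxAlt : BoxAlt := fun p _ n hn h => by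
  by_cases hp : p = 2
  · subst hp
    by_cases h10 : 10 ≤ n
    · exact row_big h10
    obtain rfl | rfl | rfl | rfl | rfl : n = 5 ∨ n = 6 ∨ n = 7 ∨ n = 8 ∨ n = 9 := by omega
    exacts [(h lie_five).elim, row_six, row_seven, (h lie_eight).elim, row_nine]
  · exact row_odd p hp n hn

end Cfsg.Agent.TwoF.Alt
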