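import Cfsg.Agent.TwoF.Alt.Perm

/-!
# TwoF, alternating groups: orbits of a subgroup acting through `ψ : Y →* Perm Ω` (helper10)
-/

set_option autoImplicit false
set_option linter.unusedSectionVars false

namespace Cfsg.Agent.TwoF.Alt

open Equiv Equiv.Perm Cfsg.Agent.H189.Cyc

variable {Ω : Type} [Fintype Ω] [DecidableEq Ω]

/-- **two conjugates of an abelian group, the orbits meeting in one point** -/
theorem gen_alpha {B : Subgroup (Perm Ω)} (hB : ∀ a ∈ B, ∀ b ∈ B, a * b = b * a) {u : Ω} {P T : Finset Ω}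
    (hP : ∀ x, x ∈ P ↔ x ≠ u ∧ ∃ b ∈ B, b u = x) (hT : ∀ b ∈ B, ∀ x ∈ T, b x = x) (huT : u ∉ T)
    (hd : ∀ x ∈ P, x ∉ T) (hne : P.Nonempty) {σ : Perm Ω} (h1 : Sup σ (P ∪ T : Finset Ω)) (h2 : ∀ x ∈ P, σ x ∈ T)
    {Γ : Subgroup (Perm Ω)} (g1 : B ≤ Γ) (g2 : ∀ b ∈ B, σ * b * σ⁻¹ ∈ Γ) :
    Full Γ (insert u (P ∪ P.image σ) : Finset Ω) := by
  have huP : u ∉ P := fun h => ((hP u).1 h).1 rfl
  have hσu : σ u = u := h1 u (by simp [huP, huT])
  have hσu' : σ⁻¹ u = u := by rw [Perm.inv_eq_iff_eq, hσu]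
  have hO : ∀ a ∈ B, ∀ x, x = u ∨ x ∈ (P : Set Ω) → a x = u ∨ a x ∈ (P : Set Ω) := by
    intro a ha x hx
    by_cases e : a x = u
    · exact Or.inl e
    right
    rcases hx with rfl | hx
    · exact (hP _).2 ⟨e, a, ha, rfl⟩
    · obtain ⟨-, b, hb, rfl⟩ := (hP x).1 hx
      exact (hP _).2 ⟨e, a * b, mul_mem ha hb, rfl⟩
  have key : ∀ x ∈ P, ∀ y ∈ P, c3 u x (σ y) ∈ Γ := by
    intro x hx y hy
    obtain ⟨x1, a, ha, rfl⟩ := (hP x).1 hx
    obtain ⟨y1, b, hb, rfl⟩ := (hP y).1 hy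
    have e : (σ * b * σ⁻¹) u = σ (b u) := by rw [mul_apply, mul_apply, hσu']
    have hfix : ∀ x, x ≠ u → x ∉ (σ '' (P : Set Ω)) → x ∈ (P ∪ T : Finset Ω) → (σ * b * σ⁻¹) x = x := by
      intro x hxu hx hx'
      have a1 : σ⁻¹ x ∈ ((P ∪ T : Finset Ω) : Set Ω) := h1.inv.mem hx'
      have a2 : σ⁻¹ x ∉ P := fun h => hx ⟨_, h, apply_inv_self σ x⟩
      have a3 : σ⁻¹ x ∈ T := (Finset.mem_union.1 a1).resolve_left a2
      rw [mul_apply, mul_apply, hT b hb _ a3, apply_inv_self]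
    have hout : ∀ c ∈ B, ∀ x, x ≠ u → x ∉ (P ∪ T : Finset Ω) → c x ≠ u ∧ c x ∉ (P ∪ T : Finset Ω) := by
      intro c hc x hxu hx
      simp only [Finset.mem_union, not_or] at hx ⊢
      have := not_mem_of_maps c {y | y = u ∨ y ∈ (P : Set Ω)} (hO c hc) x (by
        rintro (h | h); exacts [hxu h, hx.1 h])
      refine ⟨fun h => this (Or.inl h), fun h => this (Or.inr h), fun h => hx.2 ?_⟩
      rw [← c.injective (hT c hc _ h)]; exact h
    have hR : ∀ x, x ≠ u → x ∉ (P ∪ T : Finset Ω) → (σ * b * σ⁻¹) x = b x := by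
      intro x hxu hx
      rw [mul_apply, mul_apply, h1.inv x hx, h1 _ (hout b hb x hxu hx).2]
    have := comm_three (a := a) (b := σ * b * σ⁻¹) (P := (P : Set Ω)) (Q := σ '' (P : Set Ω)) (u := u) huP
      (by rintro ⟨x, hx, e⟩; exact huT (e ▸ h2 x hx))
      (by rintro x hx ⟨y, hy, e⟩; exact hd x hx (e ▸ h2 y hy)) (hO a ha)
      (by rintro _ ⟨y, hy, rfl⟩; exact hT a ha _ (h2 y hy))
      (by
        intro x hx
        have : σ⁻¹ x = u ∨ σ⁻¹ x ∈ (P : Set Ω) := by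
          rcases hx with rfl | ⟨y, hy, rfl⟩
          · exact Or.inl hσu'
          · rw [inv_apply_self]; exact Or.inr hy
        rw [mul_apply, mul_apply]
        rcases hO b hb _ this with h | h
        · rw [h]; exact Or.inl hσu
        · exact Or.inr ⟨_, h, rfl⟩)
      (fun x hx => hfix x (ne_of_mem_of_not_mem hx huP) (by rintro ⟨y, hy, e⟩; exact hd x hx (e ▸ h2 y hy))
        (Finset.mem_union_left _ hx))
      (by
        intro x hxu hxP hxQ
        by_cases hxT : x ∈ T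
        · rw [hfix x hxu hxQ (Finset.mem_union_right _ hxT), hT a ha x hxT,
            hfix x hxu hxQ (Finset.mem_union_right _ hxT)]
        · have hx : x ∉ (P ∪ T : Finset Ω) := by simp only [Finset.mem_union, not_or]; exact ⟨hxP, hxT⟩
          rw [hR x hxu hx, hR _ (hout a ha x hxu hx).1 (hout a ha x hxu hx).2, ← mul_apply, hB a ha b hb, mul_apply])
      x1 (by rw [e]; exact ne_of_mem_of_not_mem (h2 _ hy) huT)
    rw [e] at this
    rw [← this]
    exact mul_mem (mul_mem (mul_mem (g1 ha) (g2 b hb)) (inv_mem (g1 ha))) (inv_mem (g2 b hb))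
  obtain ⟨x0, hx0⟩ := hne
  have n1 : u ≠ x0 := (ne_of_mem_of_not_mem hx0 huP).symm
  have n2 : u ≠ σ x0 := (ne_of_mem_of_not_mem (h2 _ hx0) huT).symm
  have F1 : Full Γ {x | x = u ∨ x = x0 ∨ x ∈ P.image σ} := by
    apply full_of_pair n1
    rintro x (h | h | h) a1 a2
    · exact absurd h a1
    · exact absurd h a2
    · obtain ⟨y, hy, rfl⟩ := Finset.mem_image.1 h
      exact key x0 hx0 y hy
  have F2 : Full Γ {x | x = u ∨ x = σ x0 ∨ x ∈ P} := by
    apply full_of_pair n2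
    rintro x (h | h | h) a1 a2
    · exact absurd h a1
    · exact absurd h a2
    · have := inv_mem (key x h x0 hx0)
      rwa [c3_inv, c3_cycle (Ne.symm a2) n2.symm a1, c3_cycle a1 a2 n2] at this
  refine (F1.union F2 n1 (Or.inl rfl) (Or.inr (Or.inl rfl)) (Or.inl rfl) (Or.inr (Or.inr hx0))).mono ?_
  intro x hx
  simp only [Finset.coe_insert, Finset.coe_union, Set.mem_insert_iff, Set.mem_union, Finset.mem_coe] at hx
  rcases hx with h | h | h
  · exact Or.inl (Or.inl h)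
  · exact Or.inr (Or.inr (Or.inr h))
  · exact Or.inl (Or.inr (Or.inr h))

variable {Y : Type} [Group Y] (ψ : Y →* Perm Ω)

/-- the stabiliser of a point -/
def stb (A : Subgroup Y) (u : Ω) : Subgroup Y := A ⊓ (MulAction.stabilizer (Perm Ω) u).comap ψ

open Classical in
/-- the orbit of a point -/
noncomputable def orb (A : Subgroup Y) (u : Ω) : Finset Ω := Finset.univ.filter fun x => ∃ a ∈ A, ψ a u = x

open Classical in
/-- the fixed points -/
noncomputable def fix (A : Subgroup Y) : Finset Ω := Finset.univ.filter fun x => ∀ a ∈ A, ψ a x = x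

variable {ψ}

theorem mem_stb {A : Subgroup Y} {u : Ω} {a : Y} : a ∈ stb ψ A u ↔ a ∈ A ∧ ψ a u = u := Iff.rfl

theorem stb_le (A : Subgroup Y) (u : Ω) : stb ψ A u ≤ A := inf_le_left

theorem mem_orb {A : Subgroup Y} {u x : Ω} : x ∈ orb ψ A u ↔ ∃ a ∈ A, ψ a u = x := by simp [orb]

theorem mem_fix {A : Subgroup Y} {x : Ω} : x ∈ fix ψ A ↔ ∀ a ∈ A, ψ a x = x := by simp [fix]

theorem self_mem_orb (A : Subgroup Y) (u : Ω) : u ∈ orb ψ A u := mem_orb.2 ⟨1, one_mem _, by simp⟩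

theorem orb_maps {A : Subgroup Y} {u x : Ω} (hx : x ∈ orb ψ A u) {a : Y} (ha : a ∈ A) : ψ a x ∈ orb ψ A u := by
  obtain ⟨b, hb, rfl⟩ := mem_orb.1 hx
  exact mem_orb.2 ⟨a * b, mul_mem ha hb, by rw [map_mul, mul_apply]⟩

theorem orb_mono {A B : Subgroup Y} (h : A ≤ B) (u : Ω) : orb ψ A u ⊆ orb ψ B u := by
  intro x hx
  obtain ⟨b, hb, rfl⟩ := mem_orb.1 hx
  exact mem_orb.2 ⟨b, h hb, rfl⟩

theorem fix_anti {A B : Subgroup Y} (h : A ≤ B) : fix ψ B ⊆ fix ψ A :=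
  fun _ hx => mem_fix.2 fun a ha => mem_fix.1 hx a (h ha)

theorem orb_eq {A : Subgroup Y} {u x : Ω} (hx : x ∈ orb ψ A u) : orb ψ A x = orb ψ A u := by
  obtain ⟨b, hb, rfl⟩ := mem_orb.1 hx
  ext y
  rw [mem_orb, mem_orb]
  constructor
  · rintro ⟨a, ha, rfl⟩
    exact ⟨a * b, mul_mem ha hb, by rw [map_mul, mul_apply]⟩
  · rintro ⟨a, ha, rfl⟩
    exact ⟨a * b⁻¹, mul_mem ha (inv_mem hb), by rw [map_mul, mul_apply, map_inv, inv_apply_self]⟩

/-- in an abelian group the stabiliser of a point fixes its orbit -/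
theorem fix_orb {A : Subgroup Y} (hA : ∀ a ∈ A, ∀ b ∈ A, a * b = b * a) {u x : Ω} (hx : x ∈ orb ψ A u) {a : Y}
    (ha : a ∈ A) (h : ψ a u = u) : ψ a x = x := by
  obtain ⟨b, hb, rfl⟩ := mem_orb.1 hx
  rw [← mul_apply, ← map_mul, hA a ha b hb, map_mul, mul_apply, h]

theorem move_orb {A : Subgroup Y} (hA : ∀ a ∈ A, ∀ b ∈ A, a * b = b * a) {u x : Ω} (hx : x ∈ orb ψ A u) {a : Y}
    (ha : a ∈ A) (h : ψ a u ≠ u) : ψ a x ≠ x := fun e =>
  h (fix_orb hA (by rw [orb_eq hx]; exact self_mem_orb A u) ha e)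

theorem orb_subset_fix {A : Subgroup Y} (hA : ∀ a ∈ A, ∀ b ∈ A, a * b = b * a) (u : Ω) :
    orb ψ A u ⊆ fix ψ (stb ψ A u) :=
  fun _ hx => mem_fix.2 fun _ ha => fix_orb hA hx ha.1 ha.2

theorem orb_of_fix {A : Subgroup Y} {u : Ω} (h : u ∈ fix ψ A) : orb ψ A u = {u} := by
  ext x
  rw [mem_orb, Finset.mem_singleton]
  constructor
  · rintro ⟨a, ha, rfl⟩
    exact mem_fix.1 h a ha
  · rintro rfl
    exact ⟨1, one_mem _, by simp⟩

theorem mem_fix_of_card {A : Subgroup Y} {u : Ω} (h : (orb ψ A u).card ≤ 1) : u ∈ fix ψ A :=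
  mem_fix.2 fun a ha => Finset.card_le_one.1 h _ (mem_orb.2 ⟨a, ha, rfl⟩) _ (self_mem_orb A u)

theorem not_mem_fix {A : Subgroup Y} {u x : Ω} (h : 2 ≤ (orb ψ A u).card) (hx : x ∈ orb ψ A u) : x ∉ fix ψ A := by
  intro h1
  rw [← orb_eq hx, orb_of_fix h1, Finset.card_singleton] at h
  omega

theorem card_eq (A : Subgroup Y) (u : Ω) : Nat.card A = (orb ψ A u).card * Nat.card (stb ψ A u) := by
  letI : MulAction A Ω := MulAction.compHom Ω (ψ.comp A.subtype)
  have h1 : Nat.card (MulAction.orbit A u) = (orb ψ A u).card := by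
    rw [← Set.ncard_coe_finset, ← Nat.card_coe_set_eq]
    refine Nat.card_congr (Equiv.setCongr ?_)
    ext x
    rw [Finset.mem_coe, mem_orb]
    constructor
    · rintro ⟨a, rfl⟩
      exact ⟨a, a.2, rfl⟩
    · rintro ⟨a, ha, rfl⟩
      exact ⟨⟨a, ha⟩, rfl⟩
  have h2 : MulAction.stabilizer A u = (stb ψ A u).subgroupOf A := by
    ext a
    rw [Subgroup.mem_subgroupOf, mem_stb, MulAction.mem_stabilizer_iff]
    exact ⟨fun h => ⟨a.2, h⟩, fun h => h.2⟩
  rw [← h1, Nat.card_congr (MulAction.orbitEquivQuotientStabilizer A u), h2,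
    ← Nat.card_congr (Subgroup.subgroupOfEquivOfLe (stb_le A u)).toEquiv]
  exact Subgroup.card_eq_card_quotient_mul_card_subgroup _

theorem dvd_card {A : Subgroup Y} {d : ℕ} (h : ∀ u, d ∣ (orb ψ A u).card) : d ∣ Fintype.card Ω := by
  classical
  have key : ∀ (n : ℕ) (S : Finset Ω), S.card = n → (∀ x ∈ S, orb ψ A x ⊆ S) → d ∣ S.card := by
    intro n
    induction n using Nat.strong_induction_on with
    | _ n ih =>
      intro S hS hc
      rcases S.eq_empty_or_nonempty with rfl | ⟨u, hu⟩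
      · simp
      have h1 := Finset.card_sdiff_add_card_eq_card (hc u hu)
      have h2 : 0 < (orb ψ A u).card := Finset.card_pos.2 ⟨u, self_mem_orb A u⟩
      rw [← h1]
      refine dvd_add (ih _ (by omega) _ rfl fun x hx y hy => ?_) (h u)
      rw [Finset.mem_sdiff] at hx ⊢
      refine ⟨hc x hx.1 hy, fun h3 => hx.2 ?_⟩
      rw [← orb_eq h3, orb_eq hy]
      exact self_mem_orb A x
  exact key _ Finset.univ rfl fun _ _ => Finset.subset_univ _

theorem card_orb_pow {A : Subgroup Y} {p r : ℕ} (hp : p.Prime) (h : Nat.card A = p ^ r) (u : Ω) :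
    ∃ j ≤ r, (orb ψ A u).card = p ^ j ∧ Nat.card (stb ψ A u) = p ^ (r - j) := by
  have h1 := card_eq (ψ := ψ) A u
  obtain ⟨j, hj, e⟩ := (Nat.dvd_prime_pow hp).1 (h ▸ h1 ▸ dvd_mul_right _ _ : (orb ψ A u).card ∣ p ^ r)
  refine ⟨j, hj, e, ?_⟩
  rw [h, e] at h1
  apply Nat.eq_of_mul_eq_mul_left (pow_pos hp.pos j)
  rw [← h1, ← pow_add, Nat.add_sub_cancel' hj]

/-- a point whose orbit length is not divisible by `p ^ (j + 1)` -/
theorem exists_small_orb {A : Subgroup Y} {p r j : ℕ} (hp : p.Prime) (h : Nat.card A = p ^ r)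
    (hn : ¬ p ^ (j + 1) ∣ Fintype.card Ω) : ∃ u, p ^ (r - j) ≤ Nat.card (stb ψ A u) ∧ (orb ψ A u).card ≤ p ^ j := by
  by_contra hc
  push Not at hc
  apply hn
  apply dvd_card (ψ := ψ) (A := A)
  intro u
  obtain ⟨i, hi, e1, e2⟩ := card_orb_pow (ψ := ψ) hp h u
  rw [e1]
  apply pow_dvd_pow
  by_contra h3
  have := hc u (by rw [e2]; exact Nat.pow_le_pow_right hp.pos (by omega))
  rw [e1] at this
  have := (Nat.pow_lt_pow_iff_right hp.one_lt).1 this
  omega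

end Cfsg.Agent.TwoF.Alt
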