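import Cfsg.Agent.TwoF.Gen.BCub
import Cfsg.Agent.TwoF.Alt.Orb
import Cfsg.Agent.H189.Emb
import Cfsg.Agent.StandardComponent.AltAut
import Cfsg.Agent.S0892
import Cfsg.Agent.S2116
import Cfsg.Agent.SporRec.TwoAn

/-!
# The frame for alternating groups of degree at least seven

`Fr p K ρ ψ`: the standing hypotheses together with the action `ψ : Y →* Perm (Fin n)`.
-/

set_option autoImplicit false

namespace Cfsg.Agent.TwoF.Alt

open Module Equiv Equiv.Perm Gen
open scoped commutatorElement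

section AxB

variable {k : Type*} [Field k] {Y : Type*} [Group Y] {V : Type*} [AddCommGroup V] [Module k V]
  {ρ : Representation k Y V} {p : ℕ} [Fact p.Prime] [CharP k p]

/-- **the `A × B` lemma** -/
theorem axb {P : Subgroup Y} [Finite P] (hP : IsPGroup p P) {x : Y} {m : ℕ} (hx : x ^ m = 1) (hm : ¬ p ∣ m)
    (hc : ∀ b ∈ P, b * x = x * b) {W : Submodule k V} (hW : Inv ρ P W) (hxW : ∀ v ∈ W, ρ x v ∈ W)
    (h : ∀ v ∈ W, v ∈ fx ρ P → ρ x v = v) : ∀ v ∈ W, ρ x v = v := by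
  have h1 : Inv ρ P (W.map (ρ x - 1)) := by
    rintro b hb _ ⟨v, hv, rfl⟩
    refine ⟨ρ b v, hW b hb v hv, ?_⟩
    show ρ x (ρ b v) - ρ b v = ρ b (ρ x v - v)
    rw [map_sub, ← rho_mul, ← rho_mul, hc b hb]
  by_contra hne
  have h2 : W.map (ρ x - 1) ≠ ⊥ := fun e => hne fun v hv => by
    have : (ρ x - 1) v ∈ W.map (ρ x - 1) := ⟨v, hv, rfl⟩
    rw [e, Submodule.mem_bot] at this
    exact sub_eq_zero.1 this
  obtain ⟨_, ⟨⟨v, hv, rfl⟩, h3⟩, h4⟩ := Submodule.exists_mem_ne_zero_of_ne_bot (inf_fx_ne_bot hP h1 h2)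
  exact h4 (sub_eq_zero.2 (eq_of_sub_one_sq hx hm (h _ (W.sub_mem (hxW v hv) hv) h3)))

/-- the `A × B` lemma on the whole space -/
theorem axb_top {P : Subgroup Y} [Finite P] (hP : IsPGroup p P) {x : Y} {m : ℕ} (hx : x ^ m = 1) (hm : ¬ p ∣ m)
    (hc : ∀ b ∈ P, b * x = x * b) (h : ∀ v ∈ fx ρ P, ρ x v = v) : ρ x = 1 :=
  LinearMap.ext fun v => axb hP hx hm hc (inv_top P) (fun _ _ => trivial) (fun v _ => h v) v trivial

end AxB

variable {p : ℕ} [Fact p.Prime] {Y : Type} [Group Y] {V : Type} [AddCommGroup V] [Module (ZMod p) V]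
  {K : Subgroup Y} {ρ : Representation (ZMod p) Y V} {n : ℕ} {ψ : Y →* Perm (Fin n)}

/-- the frame -/
structure Fr (p : ℕ) [Fact p.Prime] {Y : Type} [Group Y] {V : Type} [AddCommGroup V] [Module (ZMod p) V]
    (K : Subgroup Y) (ρ : Representation (ZMod p) Y V) {n : ℕ} (ψ : Y →* Perm (Fin n)) : Prop
    extends Stp p K ρ where
  deg : 7 ≤ n
  ker : ∀ y, ψ y = 1 ↔ y ∈ Subgroup.centralizer (K : Set Y)
  mem : ∀ y, y ∈ K ↔ sign (ψ y) = 1
  lift : ∀ σ : Perm (Fin n), sign σ = 1 → ∃ y ∈ K, ψ y = σ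
  two : n ≠ 7 → Nat.card ψ.ker ≤ 2
  six : Nat.card ψ.ker ∣ 6

theorem exists_fr [Finite Y] (hn : 7 ≤ n) {π : K →* alternatingGroup (Fin n)}
    {φ : Y →* MulAut (alternatingGroup (Fin n))} (H : Sit p K ρ π φ) : ∃ ψ : Y →* Perm (Fin n), Fr p K ρ ψ := by
  obtain ⟨θ, hθ⟩ := StandardComponent.AltAut.exists_autHom n hn
  have hu : ∀ σ τ : Perm (Fin n), (∀ x : alternatingGroup (Fin n), σ * x * σ⁻¹ = τ * x * τ⁻¹) → σ = τ := by
    obtain ⟨m, rfl⟩ : ∃ m, n = m + 2 := ⟨n - 2, by omega⟩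
    exact fun σ τ h => StandardComponent.AltAut.conj_unique (by omega) h
  have hc : ∀ a : alternatingGroup (Fin n), θ (MulAut.conj a) = a := fun a => hu _ _ fun x => (hθ _ x).symm
  have hK : ∀ x : K, θ (φ x) = π x := fun x => by rw [H.φ_coe, hc]
  have hk : ∀ y, θ (φ y) = 1 ↔ y ∈ Subgroup.centralizer (K : Set Y) := fun y => by
    rw [← H.φ_eq_one_iff]
    refine ⟨fun h => MulEquiv.ext fun x => Subtype.ext ?_, fun h => by rw [h, map_one]⟩
    rw [hθ, h]; simp
  have hcard : Nat.card (θ.comp φ).ker = Nat.card (Subgroup.center K) := by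
    rw [← H.card_centralizer, show (θ.comp φ).ker = Subgroup.centralizer (K : Set Y) from Subgroup.ext hk]
  have h2 : n ≠ 7 → Nat.card (θ.comp φ).ker ≤ 2 := fun h7 => by
    rw [hcard, ← H.ker_π]
    exact S0892.result n (by omega) (by omega) h7 π.ker H.ker_π.le (H.perfect.commutator_eq_top ▸ le_top)
      (QuotientGroup.quotientKerEquivOfSurjective π H.surj)
  refine ⟨θ.comp φ, H.toStp, hn, hk, fun y => ⟨fun hy => ?_, fun hy => ?_⟩, fun σ hσ => ?_, h2, ?_⟩
  · show sign (θ (φ y)) = 1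
    rw [hK ⟨y, hy⟩]
    exact mem_alternatingGroup.1 (π _).2
  · refine H.mem_inn_iff.1 ⟨⟨θ (φ y), mem_alternatingGroup.2 hy⟩, MulEquiv.ext fun x => Subtype.ext ?_⟩
    exact (hθ _ x).symm
  · obtain ⟨x, hx⟩ := H.surj ⟨σ, mem_alternatingGroup.2 hσ⟩
    exact ⟨x, x.2, (hK x).trans (congrArg Subtype.val hx)⟩
  · by_cases h7 : n = 7
    · rw [hcard]
      exact H.card_center_dvd' H.perfect (S2116.result n (Or.inr h7))
    · have h3 := h2 h7
      have h4 : 0 < Nat.card (θ.comp φ).ker := Nat.card_pos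
      interval_cases Nat.card (θ.comp φ).ker <;> norm_num

theorem row88_of_fr (hn : 7 ≤ n) (H : ∀ (Y : Type) [Group Y] [Finite Y] (V : Type) [AddCommGroup V]
    [Module (ZMod p) V] [Finite V] (K : Subgroup Y) (ρ : Representation (ZMod p) Y V) (ψ : Y →* Perm (Fin n)),
    Fr p K ρ ψ → G88 p ρ) : Row88 p (alternatingGroup (Fin n)) :=
  row88_of_sit fun Y _ _ V _ _ _ K ρ _ _ h => by
    obtain ⟨ψ, F⟩ := exists_fr hn h
    exact H Y V K ρ ψ F

theorem row89_of_fr (hn : 7 ≤ n) (H : ∀ (Y : Type) [Group Y] [Finite Y] (V : Type) [AddCommGroup V]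
    [Module (ZMod p) V] [Finite V] (K : Subgroup Y) (ρ : Representation (ZMod p) Y V) (ψ : Y →* Perm (Fin n)),
    Fr p K ρ ψ → G89r p K ρ) : Row89 p (alternatingGroup (Fin n)) :=
  row89_of_sit fun Y _ _ V _ _ _ K ρ _ _ h => by
    obtain ⟨ψ, F⟩ := exists_fr hn h
    exact H Y V K ρ ψ F

namespace Fr

variable (F : Fr p K ρ ψ)
include F

theorem ker_mem {z : Y} (h : ψ z = 1) : z ∈ K := F.cent ((F.ker z).1 h)

theorem ker_comm {z g : Y} (h : ψ z = 1) (hg : g ∈ K) : g * z = z * g := (F.ker z).1 h g hg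

theorem mem_of_eq {x : Y} {σ : Perm (Fin n)} (h : ψ x = σ) (hσ : sign σ = 1) : x ∈ K := (F.mem x).2 (h ▸ hσ)

theorem sign_of_not_mem {y : Y} (h : y ∉ K) : sign (ψ y) = -1 :=
  (Int.units_eq_one_or _).resolve_left fun e => h ((F.mem y).2 e)

/-- if `Y ≠ K` every permutation lifts -/
theorem lift_all {y : Y} (h : y ∉ K) (σ : Perm (Fin n)) : ∃ x, ψ x = σ := by
  rcases Int.units_eq_one_or (sign σ) with e | e
  · obtain ⟨x, -, hx⟩ := F.lift σ e
    exact ⟨x, hx⟩
  · obtain ⟨x, -, hx⟩ := F.lift (σ * (ψ y)⁻¹) (by rw [Perm.sign_mul, sign_inv, e, F.sign_of_not_mem h]; decide)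
    exact ⟨x * y, by rw [map_mul, hx, inv_mul_cancel_right]⟩

/-- a central involution acts as `-1` -/
theorem neg_one {z : Y} (hz : z ≠ 1) (h2 : z * z = 1) (hc : ∀ y, y * z = z * y) (v : V) : ρ z v = -v := by
  have h1 : Inv ρ ⊤ (LinearMap.range (ρ z - 1)) := by
    rintro b - _ ⟨v, rfl⟩
    refine ⟨ρ b v, ?_⟩
    show ρ z (ρ b v) - ρ b v = ρ b (ρ z v - v)
    rw [map_sub, ← rho_mul, ← rho_mul, hc b]
  rcases F.irr _ h1 with h | h
  · refine (hz (F.faithful ?_)).elim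
    rw [map_one]
    exact sub_eq_zero.1 (LinearMap.range_eq_bot.1 h)
  · obtain ⟨w, rfl⟩ : v ∈ LinearMap.range (ρ z - 1) := h ▸ trivial
    show ρ z (ρ z w - w) = -(ρ z w - w)
    rw [map_sub, ← rho_mul, h2, rho_one, neg_sub]

variable [Finite Y]

theorem eq_one {a : Y} {m : ℕ} (ha : a ^ p ^ m = 1) (h : ψ a = 1) : a = 1 :=
  F.eq_one_of_mem_centralizer ha ((F.ker a).1 h)

theorem eq_one' {a : Y} (ha : a ^ p = 1) (h : ψ a = 1) : a = 1 := F.eq_one (m := 1) (by rwa [pow_one]) h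

omit [Finite Y] in
theorem not_dvd : ¬ p ∣ Nat.card ψ.ker := F.not_dvd_card fun y hy => (F.ker y).1 hy

/-- elements of `K` whose images commute, one of them of order dividing `p` -/
theorem comm {g h : Y} (hh : h ∈ K) (hc : ψ g * ψ h = ψ h * ψ g) (hp : h ^ p = 1) : g * h = h * g := by
  have h1 : ψ (g * h * g⁻¹ * h⁻¹) = 1 := by
    rw [map_mul, map_mul, map_mul, hc, map_inv, map_inv]; group
  have h2 : Commute (g * h * g⁻¹ * h⁻¹) h := (F.ker_comm h1 hh).symm
  have h3 : (g * h * g⁻¹ * h⁻¹) ^ p = 1 := by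
    have := h2.mul_pow p
    rw [hp, mul_one, inv_mul_cancel_right, conj_pow, hp] at this
    rw [← this]; group
  have h4 := F.eq_one' h3 h1
  rwa [mul_inv_eq_one, mul_inv_eq_iff_eq_mul] at h4

omit F [Finite Y] in
theorem pow_card {x : Y} {m : ℕ} (h : ψ x ^ m = 1) : x ^ (m * Nat.card ψ.ker) = 1 := by
  have h1 : x ^ m ∈ ψ.ker := by rw [MonoidHom.mem_ker, map_pow, h]
  rw [pow_mul]
  exact congrArg Subtype.val (pow_card_eq_one' (x := (⟨_, h1⟩ : ψ.ker)))

omit [Finite Y] in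
theorem not_dvd_mul {m : ℕ} (hm : ¬ p ∣ m) : ¬ p ∣ m * Nat.card ψ.ker := fun h =>
  ((Nat.Prime.dvd_mul Fact.out).1 h).elim hm F.not_dvd

/-- **NT.** A `p'`-element commuting with a `p`-group acts non-trivially on its fixed space. -/
theorem nt {P : Subgroup Y} (hP : IsPGroup p P) {x : Y} {m : ℕ} (hx : ψ x ^ m = 1) (hm : ¬ p ∣ m) (h1 : x ≠ 1)
    (hc : ∀ b ∈ P, b * x = x * b) : ∃ v ∈ fx ρ P, ρ x v ≠ v := by
  by_contra h
  push Not at h
  exact h1 (F.faithful ((axb_top hP (pow_card hx) (F.not_dvd_mul hm) hc h).trans (map_one ρ).symm))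

/-- the projection of `K` -/
def pr : K →* alternatingGroup (Fin n) :=
  (ψ.comp K.subtype).codRestrict _ fun x => mem_alternatingGroup.2 ((F.mem x).1 x.2)

omit [Finite Y] in
theorem coe_pr (x : K) : (F.pr x : Perm (Fin n)) = ψ x := rfl

omit [Finite Y] in
theorem pr_surj : Function.Surjective F.pr := fun σ => by
  obtain ⟨y, hy, h⟩ := F.lift σ (mem_alternatingGroup.1 σ.2)
  exact ⟨⟨y, hy⟩, Subtype.ext h⟩

omit [Finite Y] in
/-- trivial centre: the inclusion of the alternating group -/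
theorem iota (hi : Function.Injective ψ) :
    ∃ ι : alternatingGroup (Fin n) →* Y, (∀ σ, ψ (ι σ) = σ) ∧ ∀ σ, ι σ ∈ K := by
  have hb : Function.Bijective F.pr :=
    ⟨fun a b h => Subtype.ext (hi (congrArg Subtype.val h)), F.pr_surj⟩
  refine ⟨K.subtype.comp (MulEquiv.ofBijective _ hb).symm.toMonoidHom, fun σ => ?_, fun σ => Subtype.prop _⟩
  exact congrArg Subtype.val ((MulEquiv.ofBijective _ hb).apply_symm_apply σ)

omit F [Finite Y] in
theorem inj_of_card (h : Nat.card ψ.ker = 1) : Function.Injective ψ :=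
  (MonoidHom.ker_eq_bot_iff ψ).1 (Subgroup.card_eq_one.1 h)

/-- in characteristic two the centre is trivial, except possibly in degree seven -/
theorem inj_two (hp : p = 2) (h7 : n ≠ 7) : Function.Injective ψ := by
  have h1 := F.two h7
  have h2 := F.not_dvd
  have h3 : 0 < Nat.card ψ.ker := Nat.card_pos
  subst hp
  exact inj_of_card (by omega)

omit [Finite Y] in
/-- centre of order two: the double cover; `z` acts as `-1` -/
theorem cover (h : Nat.card ψ.ker = 2) : ∃ C : SporRec.TwoAn.Cover (Fin n) K, (∀ g, C.π g = ψ g) ∧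
    ∀ v, ρ (C.z : Y) v = -v := by
  rw [Nat.card_eq_two_iff' (1 : ψ.ker)] at h
  obtain ⟨⟨z, hz⟩, hz1, hzu⟩ := h
  have hne : z ≠ 1 := fun e => hz1 (Subtype.ext e)
  have hk : ∀ x, ψ x = 1 → x = 1 ∨ x = z := fun x hx => by
    by_cases h1 : x = 1
    · exact Or.inl h1
    · exact Or.inr (congrArg Subtype.val (hzu ⟨x, hx⟩ fun e => h1 (congrArg Subtype.val e)))
  have hz' : ψ z = 1 := hz
  have hzz : z * z = 1 := (hk _ (by rw [map_mul, hz', mul_one])).resolve_right fun e => hne (mul_eq_left.1 e)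
  have hc : ∀ y, y * z = z * y := fun y => by
    rcases hk (y * z * y⁻¹) (by rw [map_mul, map_mul, hz', map_inv]; group) with e | e
    · exact (hne (by rw [mul_inv_eq_one, mul_eq_left] at e; exact e)).elim
    · exact mul_inv_eq_iff_eq_mul.1 e
  have hker : ∀ x : K, F.pr x = 1 ↔ x = 1 ∨ x = ⟨z, F.ker_mem hz'⟩ := fun x =>
    ⟨fun e => (hk x (congrArg Subtype.val e)).imp Subtype.ext Subtype.ext, by
      rintro (rfl | rfl)
      · exact map_one _
      · exact Subtype.ext hz'⟩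
  have hcov : SporadicRecognition.AltCover.IsCover F.pr ⟨z, F.ker_mem hz'⟩ :=
    { z_ne := fun e => hne (congrArg Subtype.val e)
      z_mul := Subtype.ext hzz
      z_comm := fun x => Subtype.ext (hc x)
      surj := F.pr_surj
      ker := hker
      nonsplit := fun s hs => by
        have h1 : ∀ x : K, ∃ w : K, (∀ g, g * w = w * g) ∧ x = s (F.pr x) * w := fun x =>
          ⟨(s (F.pr x))⁻¹ * x, fun g => Subtype.ext (F.ker_comm (congrArg Subtype.val
            (show F.pr ((s (F.pr x))⁻¹ * x) = 1 by rw [map_mul, map_inv, hs, inv_mul_cancel])) g.2), by group⟩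
        have h2 : commutator K ≤ s.range := by
          refine Subgroup.commutator_le.2 fun a _ b _ => ⟨⁅F.pr a, F.pr b⁆, ?_⟩
          obtain ⟨w, hw, e⟩ := h1 a
          obtain ⟨w', hw', e'⟩ := h1 b
          rw [map_commutatorElement]
          generalize s (F.pr a) = x at e
          generalize s (F.pr b) = y at e'
          rw [e, e', commutatorElement_def, commutatorElement_def]
          calc x * y * x⁻¹ * y⁻¹ = x * (y * w) * w⁻¹ * (x⁻¹ * w') * w'⁻¹ * y⁻¹ := by group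
            _ = x * (w * y) * w⁻¹ * (w' * x⁻¹) * w'⁻¹ * y⁻¹ := by rw [hw, hw']
            _ = x * w * y * (w⁻¹ * w') * x⁻¹ * w'⁻¹ * y⁻¹ := by group
            _ = _ := by rw [hw' w⁻¹]; group
        obtain ⟨x, hx⟩ := h2 (F.perfect.commutator_eq_top ▸ Subgroup.mem_top (⟨z, F.ker_mem hz'⟩ : K))
        have h3 := hs x
        rw [hx, (hker _).2 (Or.inr rfl)] at h3
        rw [← h3, map_one] at hx
        exact hne (congrArg Subtype.val hx).symm }
  exact ⟨SporRec.TwoAn.ofIsCover (by have := F.deg; omega) hcov, fun _ => rfl, F.neg_one hne hzz hc⟩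

end Fr

end Cfsg.Agent.TwoF.Alt
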