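import Cfsg.Agent.TwoF.Alt.Frame
import Cfsg.Agent.H189.AltTwo

/-!
# Recognition of the natural module

`Fr.nat_cod`: a vector with the relations of `e_1 - e_2` forces `c(3-cycle) ≤ 2` and `c(double transposition) ≤ 2`.
`exists_of_P3`: such a vector exists if the commutator space of a 3-cycle is fixed by the disjoint 3-cycles.
-/

set_option autoImplicit false

namespace Cfsg.Agent.TwoF.Alt

open Module Equiv Equiv.Perm Gen H189 H189.Cyc H189.Emb H189.NatMod

section Rel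

variable {α : Type} [Fintype α] [DecidableEq α] {k : Type*} [Field k] {V : Type*} [AddCommGroup V] [Module k V]

/-- the relations of the vector `e_(x 0) - e_(x 1)` -/
structure NRel (R : alternatingGroup α →* End k V) (e : V) (x1 x2 x3 x4 x5 : α) : Prop where
  h12 : x1 ≠ x2
  h34 : x3 ≠ x4
  h13 : x1 ≠ x3
  h14 : x1 ≠ x4
  h23 : x2 ≠ x3
  h24 : x2 ≠ x4
  h15 : x1 ≠ x5
  h25 : x2 ≠ x5
  fix : Full (NatMod.stab R e) {x | x ≠ x1 ∧ x ≠ x2}
  neg : R ⟨_, dt_mem h12 h34⟩ e = -e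
  sum : e + R ⟨_, c3_mem h12 h25⟩ e + R ⟨_, c3_mem h12 h25⟩ (R ⟨_, c3_mem h12 h25⟩ e) = 0

variable {R : alternatingGroup α →* End k V} {e : V} {x1 x2 x3 x4 x5 : α}

theorem NRel.swap (h : NRel R e x1 x2 x3 x4 x5) (h5 : 5 ≤ Fintype.card α) (i j : α) :
    E R e x1 x2 j i = -E R e x1 x2 i j :=
  E_swap h.h12 (by omega) h.fix h.h34 h.h13 h.h14 h.h23 h.h24 h.neg i j

theorem NRel.add (h : NRel R e x1 x2 x3 x4 x5) (h5 : 5 ≤ Fintype.card α) (i j l : α) :
    E R e x1 x2 i j + E R e x1 x2 j l = E R e x1 x2 i l := by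
  by_cases hij : i = j
  · rw [hij, E_self h.h12, zero_add]
  by_cases hjl : j = l
  · rw [hjl, E_self h.h12, add_zero]
  by_cases hil : i = l
  · rw [hil, E_self h.h12, h.swap h5, neg_add_cancel]
  have := E_sum h.h12 h5 h.fix h.h15 h.h25 h.sum hij hil hjl
  rwa [h.swap h5 i l, add_neg_eq_zero] at this

theorem NRel.range_le (h : NRel R e x1 x2 x3 x4 x5) (h5 : 5 ≤ Fintype.card α)
    (hs : Submodule.span k (Set.range fun σ => R σ e) = ⊤) (s : alternatingGroup α) {U : Submodule k V}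
    (hU : ∀ i, E R e x1 x2 ((s : Perm α) i) i ∈ U) : LinearMap.range (R s - 1) ≤ U := by
  rw [LinearMap.range_eq_map, ← hs, Submodule.map_span_le]
  rintro _ ⟨σ, rfl⟩
  show R s (R σ e) - R σ e ∈ U
  rw [← E_eq h.fix σ, act_E h.h12 (by omega) h.fix, ← h.add h5 _ ((σ : Perm α) x1),
    ← h.add h5 ((σ : Perm α) x1) ((σ : Perm α) x2) ((s : Perm α) _), h.swap h5 ((s : Perm α) ((σ : Perm α) x2))]
  have := U.sub_mem (hU ((σ : Perm α) x1)) (hU ((σ : Perm α) x2))
  convert this using 1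
  abel

theorem finrank_le_two {W : Submodule k V} {a b : V} (h : W ≤ Submodule.span k {a, b}) : finrank k W ≤ 2 := by
  classical
  have h1 := finrank_span_finset_le_card (R := k) ({a, b} : Finset V)
  have : FiniteDimensional k (Submodule.span k ({a, b} : Set V)) := FiniteDimensional.span_of_finite k (by simp)
  refine (Submodule.finrank_mono h).trans ?_
  rw [Set.finrank, Finset.coe_pair] at h1
  exact h1.trans Finset.card_le_two

theorem NRel.c3_le (h : NRel R e x1 x2 x3 x4 x5) (h5 : 5 ≤ Fintype.card α)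
    (hs : Submodule.span k (Set.range fun σ => R σ e) = ⊤) {a b c : α} (hab : a ≠ b) (hac : a ≠ c) (hbc : b ≠ c) :
    finrank k (LinearMap.range (R (cc a b c hab hbc) - 1)) ≤ 2 := by
  refine finrank_le_two (a := E R e x1 x2 b a) (b := E R e x1 x2 c b) (h.range_le h5 hs _ fun i => ?_)
  have m1 : E R e x1 x2 b a ∈ Submodule.span k {E R e x1 x2 b a, E R e x1 x2 c b} := Submodule.subset_span (by simp)
  have m2 : E R e x1 x2 c b ∈ Submodule.span k {E R e x1 x2 b a, E R e x1 x2 c b} := Submodule.subset_span (by simp)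
  show E R e x1 x2 (c3 a b c i) i ∈ _
  by_cases ha : i = a
  · rwa [ha, c3_fst hab hac]
  by_cases hb : i = b
  · rwa [hb, c3_snd hac hbc]
  by_cases hc : i = c
  · rw [hc, c3_trd, h.swap h5 c a, ← h.add h5 c b a]
    exact neg_mem (add_mem m2 m1)
  rw [c3_other ha hb hc, E_self h.h12]
  exact zero_mem _

theorem NRel.dt_le (h : NRel R e x1 x2 x3 x4 x5) (h5 : 5 ≤ Fintype.card α)
    (hs : Submodule.span k (Set.range fun σ => R σ e) = ⊤) {a b c d : α} (hab : a ≠ b) (hcd : c ≠ d)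
    (hac : a ≠ c) (had : a ≠ d) (hbc : b ≠ c) (hbd : b ≠ d) :
    finrank k (LinearMap.range (R (dt a b c d hab hcd) - 1)) ≤ 2 := by
  refine finrank_le_two (a := E R e x1 x2 b a) (b := E R e x1 x2 d c) (h.range_le h5 hs _ fun i => ?_)
  have m1 : E R e x1 x2 b a ∈ Submodule.span k {E R e x1 x2 b a, E R e x1 x2 d c} := Submodule.subset_span (by simp)
  have m2 : E R e x1 x2 d c ∈ Submodule.span k {E R e x1 x2 b a, E R e x1 x2 d c} := Submodule.subset_span (by simp)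
  show E R e x1 x2 (Equiv.swap a b (Equiv.swap c d i)) i ∈ _
  by_cases ha : i = a
  · rwa [ha, swap_apply_of_ne_of_ne hac had, swap_apply_left]
  by_cases hb : i = b
  · rw [hb, swap_apply_of_ne_of_ne hbc hbd, swap_apply_right, h.swap h5 b a]
    exact neg_mem m1
  by_cases hc : i = c
  · rwa [hc, swap_apply_left, swap_apply_of_ne_of_ne had.symm hbd.symm]
  by_cases hd : i = d
  · rw [hd, swap_apply_right, swap_apply_of_ne_of_ne hac.symm hbc.symm, h.swap h5 d c]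
    exact neg_mem m2
  rw [swap_apply_of_ne_of_ne hc hd, swap_apply_of_ne_of_ne ha hb, E_self h.h12]
  exact zero_mem _

/-- the vector from `P3` -/
theorem exists_of_P3 {p : ℕ} [Fact p.Prime] [CharP k p] (hp : ¬ p ∣ 3) (h : AltTwo.P3 R) (f : Fin 7 ↪ α)
    (hf : Function.Injective R) : ∃ e, e ≠ 0 ∧ NRel R e (f 0) (f 1) (f 3) (f 4) (f 2) := by
  have ne : ∀ i j : Fin 7, i ≠ j → f i ≠ f j := fun i j h => f.injective.ne h
  set t : alternatingGroup (Fin 7) := cc 0 1 2 (by decide) (by decide) with ht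
  set g : alternatingGroup (Fin 7) := dt 0 1 3 4 (by decide) (by decide) with hg
  set g' : alternatingGroup (Fin 7) := dt 0 1 5 6 (by decide) (by decide) with hg'
  set d : alternatingGroup (Fin 7) := dt 3 4 5 6 (by decide) (by decide) with hd
  set S : alternatingGroup (Fin 7) := cc 2 3 4 (by decide) (by decide) with hS
  have r1 : g * t = t * (t * g) := by decide
  have r2 : g * g = 1 := by decide
  have r3 : t ^ 3 = 1 := by decide
  have r4 : g' = g * d := by decide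
  have r5 : S * g' = g' * S := by decide
  have r6 : t * (t * t) = 1 := by decide
  let Q : Representation k (alternatingGroup (Fin 7)) V := R.comp (emb f)
  have hQ : ∀ x y v, Q (x * y) v = Q x (Q y v) := rho_mul Q
  have Qt : Q t = R (cc (f 0) (f 1) (f 2) (ne 0 1 (by decide)) (ne 1 2 (by decide))) := by
    show R (emb f t) = _
    rw [ht, emb_cc]
  have QS : Q S = R (cc (f 2) (f 3) (f 4) (ne 2 3 (by decide)) (ne 3 4 (by decide))) := by
    show R (emb f S) = _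
    rw [hS, emb_cc]
  have Mg : ∀ w, Q g (Q t w - w) = Q t (Q t (Q g w) + Q g w) - (Q t (Q g w) + Q g w) := fun w => by
    rw [map_sub, ← hQ, r1, hQ, hQ, map_add]; abel
  obtain ⟨w, hw⟩ : ∃ w, Q g (Q t w - w) ≠ Q t w - w := by
    by_contra hc
    push Not at hc
    have h1 : ∀ w, Q t w = w := fun w => by
      refine eq_of_sub_one_sq (ρ := Q) r3 hp (rho_injective Q t ?_)
      have h2 := hc (Q t w)
      rwa [← map_sub, ← hQ, r1, hQ, hQ, hc] at h2
    have h2 : emb f t = 1 := hf ((LinearMap.ext h1).trans (map_one R).symm)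
    exact absurd (emb_injective f (h2.trans (map_one _).symm)) (by decide)
  have fullt : ∀ w, Full (NatMod.stab R (Q t w - w)) {y | y ≠ f 0 ∧ y ≠ f 1 ∧ y ≠ f 2} := fun w => by
    rw [Qt]
    exact AltTwo.full_of_P3 h (ne 0 1 (by decide)) (ne 0 2 (by decide)) (ne 1 2 (by decide)) w
  have mem : ∀ (x : V) (i j l : Fin 7) (s : alternatingGroup (Fin 7)), (s : Perm (Fin 7)) i = i →
      (s : Perm (Fin 7)) j = j → (s : Perm (Fin 7)) l = l →
      Full (NatMod.stab R x) {y | y ≠ f i ∧ y ≠ f j ∧ y ≠ f l} → Q s x = x := by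
    intro x i j l s hi hj hl hx
    refine (NatMod.mem_stab (ρ := R) (σ := emb f s)).1 (mem_of_full hx (mem_alternatingGroup.1 (emb f s).2) ?_)
    intro y hy
    refine ⟨?_, ?_, ?_⟩ <;> rintro rfl <;> apply hy <;> rw [emb_apply]
    · rw [hi]
    · rw [hj]
    · rw [hl]
  set v := Q t w - w with hv
  have Fv : Full (NatMod.stab R v) {y | y ≠ f 0 ∧ y ≠ f 1 ∧ y ≠ f 2} := fullt w
  have g'v : Q g' v = Q g v := by rw [r4, hQ, mem v 0 1 2 d (by decide) (by decide) (by decide) Fv]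
  have he : v - Q g v = Q t (w - (Q t (Q g w) + Q g w)) - (w - (Q t (Q g w) + Q g w)) := by
    rw [hv, Mg, map_sub (Q t) w]; abel
  have hSe : Q S (v - Q g v) = v - Q g v := by
    have Fx : Full (NatMod.stab R (Q S v - v)) {y | y ≠ f 2 ∧ y ≠ f 3 ∧ y ≠ f 4} := by
      rw [QS]
      exact AltTwo.full_of_P3 h (ne 2 3 (by decide)) (ne 2 4 (by decide)) (ne 3 4 (by decide)) v
    have g'x := mem _ 2 3 4 g' (by decide) (by decide) (by decide) Fx
    rw [map_sub] at g'x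
    rw [map_sub, ← g'v, ← hQ, r5, hQ, sub_eq_iff_eq_add.1 g'x]
    abel
  refine ⟨v - Q g v, fun e => hw (sub_eq_zero.1 e).symm, ne 0 1 (by decide), ne 3 4 (by decide), ne 0 3 (by decide),
    ne 0 4 (by decide), ne 1 3 (by decide), ne 1 4 (by decide), ne 0 2 (by decide), ne 1 2 (by decide), ?_, ?_, ?_⟩
  · apply full_of_pair (y1 := f 3) (y2 := f 4) (ne 3 4 (by decide))
    rintro x ⟨x0, x1⟩ x3 x4
    by_cases x2 : x = f 2
    · rw [x2, ← c3_cycle (ne 2 3 (by decide)) (ne 2 4 (by decide)) (ne 3 4 (by decide))]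
      rw [QS] at hSe
      exact (NatMod.mem_stab (σ := cc (f 2) (f 3) (f 4) (ne 2 3 (by decide)) (ne 3 4 (by decide)))).2 hSe
    · rw [he]
      exact fullt _ _ ⟨ne _ _ (by decide), ne _ _ (by decide), ne _ _ (by decide)⟩ _
        ⟨ne _ _ (by decide), ne _ _ (by decide), ne _ _ (by decide)⟩ x ⟨x0, x1, x2⟩ (ne _ _ (by decide))
        (Ne.symm x3) (Ne.symm x4)
  · have h1 : R (emb f g) (v - Q g v) = -(v - Q g v) := by
      show Q g (v - Q g v) = _
      rw [map_sub, ← hQ, r2, rho_one, neg_sub]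
    rwa [hg, emb_dt] at h1
  · have h1 : v - Q g v + Q t (v - Q g v) + Q t (Q t (v - Q g v)) = 0 := by
      rw [he]
      generalize w - (Q t (Q g w) + Q g w) = u
      rw [map_sub, map_sub, ← hQ t t (Q t u), ← hQ (t * t) t u, mul_assoc, r6, rho_one]
      abel
    rwa [Qt] at h1

end Rel

variable {p : ℕ} [Fact p.Prime] {Y : Type} [Group Y] {V : Type} [AddCommGroup V] [Module (ZMod p) V]
  {K : Subgroup Y} {ρ : Representation (ZMod p) Y V} {n : ℕ} {ψ : Y →* Perm (Fin n)}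
  {ι : alternatingGroup (Fin n) →* Y}

/-- the relations may be assumed to span -/
theorem Fr.nat_span (F : Fr p K ρ ψ) (hi : Function.Injective ψ) (hι : ∀ σ, ψ (ι σ) = σ) {e : V} (he : e ≠ 0)
    {x1 x2 x3 x4 x5 : Fin n} (h : NRel (ρ.comp ι) e x1 x2 x3 x4 x5) :
    ∃ e, NRel (ρ.comp ι) e x1 x2 x3 x4 x5 ∧ Submodule.span (ZMod p) (Set.range fun σ => (ρ.comp ι) σ e) = ⊤ := by
  have hK : ∀ y ∈ K, ∃ σ, ι σ = y := fun y hy => ⟨⟨ψ y, mem_alternatingGroup.2 ((F.mem y).1 hy)⟩, hi (hι _)⟩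
  suffices H : ∃ e, e ≠ 0 ∧ NRel (ρ.comp ι) e x1 x2 x3 x4 x5 ∧
      ∀ y, ∃ σ, ρ y e = ρ (ι σ) e ∨ ρ y e = -ρ (ι σ) e by
    obtain ⟨e, he, h, H⟩ := H
    refine ⟨e, h, (F.irr _ fun y _ v hv => ?_).resolve_left fun h0 => he ?_⟩
    · refine Submodule.mem_comap.1 ((Submodule.span_le (p := Submodule.comap (ρ y) _)).2 ?_ hv)
      rintro _ ⟨σ, rfl⟩
      show ρ y (ρ (ι σ) e) ∈ Submodule.span (ZMod p) (Set.range fun σ => (ρ.comp ι) σ e)
      obtain ⟨τ, h1 | h1⟩ := H (y * ι σ) <;> rw [← rho_mul, h1]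
      · exact Submodule.subset_span ⟨τ, rfl⟩
      · exact neg_mem (Submodule.subset_span ⟨τ, rfl⟩)
    · rw [← Submodule.mem_bot (ZMod p), ← h0]
      exact Submodule.subset_span ⟨1, by simp⟩
  by_cases hY : ∀ y, y ∈ K
  · refine ⟨e, he, h, fun y => ?_⟩
    obtain ⟨σ, rfl⟩ := hK y (hY y)
    exact ⟨σ, Or.inl rfl⟩
  push Not at hY
  obtain ⟨y₀, hy₀⟩ := hY
  have h7 := F.deg
  obtain ⟨a, ha⟩ := exists_notMem ({x1, x2, x3, x4, x5} : Finset (Fin n))
    (lt_of_le_of_lt Finset.card_le_five (by simp; omega))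
  obtain ⟨b, hb⟩ := exists_notMem ({a, x1, x2, x3, x4, x5} : Finset (Fin n))
    (lt_of_le_of_lt Finset.card_le_six (by simp; omega))
  simp only [Finset.mem_insert, Finset.mem_singleton, not_or] at ha hb
  obtain ⟨a1, a2, a3, a4, a5⟩ := ha
  obtain ⟨ba, b1, b2, b3, b4, b5⟩ := hb
  obtain ⟨y, hy⟩ := F.lift_all hy₀ (Equiv.swap a b)
  have hyy : y * y = 1 := hi (by rw [map_mul, hy, swap_mul_self, map_one])
  have s1 : ∀ x, a ≠ x → b ≠ x → Equiv.swap a b x = x := fun x h1 h2 => swap_apply_of_ne_of_ne h1.symm h2.symm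
  have hsw : ∀ u v, a ≠ u → b ≠ u → a ≠ v → b ≠ v → Commute (Equiv.swap u v) (Equiv.swap a b) :=
    fun u v h1 h2 h3 h4 => by
      have := swap_apply_apply (Equiv.swap a b) u v
      rw [s1 u h1 h2, s1 v h3 h4] at this
      exact (mul_inv_eq_iff_eq_mul.1 this.symm).symm
  have hc : ∀ σ : alternatingGroup (Fin n), Commute (σ : Perm (Fin n)) (Equiv.swap a b) → ∀ v,
      (ρ.comp ι) σ (ρ y v) = ρ y ((ρ.comp ι) σ v) := fun σ hσ v => by
    show ρ (ι σ) (ρ y v) = ρ y (ρ (ι σ) v)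
    rw [← rho_mul, ← rho_mul, hi (show ψ (ι σ * y) = ψ (y * ι σ) by rw [map_mul, map_mul, hι, hy, hσ.eq])]
  have c1 := hc ⟨_, dt_mem h.h12 h.h34⟩ ((hsw _ _ a1 b1 a2 b2).mul_left (hsw _ _ a3 b3 a4 b4))
  have c2 := hc ⟨_, c3_mem h.h12 h.h25⟩ ((hsw _ _ a1 b1 a2 b2).mul_left (hsw _ _ a2 b2 a5 b5))
  have key : ∀ t : ZMod p, NRel (ρ.comp ι) (e + t • ρ y e) x1 x2 x3 x4 x5 := fun t => by
    refine { h with fix := ?_, neg := ?_, sum := ?_ }
    · intro u hu v hv w hw huv huw hvw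
      refine ⟨c3_mem huv hvw, ?_⟩
      have m : ∀ x, x ≠ x1 ∧ x ≠ x2 → Equiv.swap a b x ≠ x1 ∧ Equiv.swap a b x ≠ x2 := fun x hx =>
        ⟨fun e => hx.1 ((Equiv.swap a b).injective (e.trans (s1 _ a1 b1).symm)),
          fun e => hx.2 ((Equiv.swap a b).injective (e.trans (s1 _ a2 b2).symm))⟩
      obtain ⟨_, h1⟩ := h.fix u hu v hv w hw huv huw hvw
      obtain ⟨h2, h3⟩ := h.fix _ (m u hu) _ (m v hv) _ (m w hw) ((Equiv.swap a b).injective.ne huv)
        ((Equiv.swap a b).injective.ne huw) ((Equiv.swap a b).injective.ne hvw)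
      have h4 : ι ⟨_, c3_mem huv hvw⟩ * y = y * ι ⟨_, h2⟩ := hi (by
        rw [map_mul, map_mul, hι, hι, hy]
        show c3 u v w * _ = _ * c3 _ _ _
        rw [← conj_c3, swap_inv, ← mul_assoc, ← mul_assoc, swap_mul_self, one_mul])
      rw [map_add, map_smul, h1]
      show e + t • ρ (ι _) (ρ y e) = _
      rw [← rho_mul, h4, rho_mul]
      exact congrArg (fun x => e + t • ρ y x) h3
    · rw [map_add, map_smul, c1, h.neg, map_neg, smul_neg, neg_add]
    · have h1 := congrArg (fun x => t • ρ y x) h.sum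
      simp only [map_add, map_smul, c2, smul_add, map_zero, smul_zero] at h1 ⊢
      have h2 := h.sum
      linear_combination (norm := abel) h1 + h2
  have fin : ∀ e', (ρ y e' = e' ∨ ρ y e' = -e') → ∀ x, ∃ σ, ρ x e' = ρ (ι σ) e' ∨ ρ x e' = -ρ (ι σ) e' := by
    intro e' he' x
    by_cases hx : x ∈ K
    · obtain ⟨σ, rfl⟩ := hK x hx
      exact ⟨σ, Or.inl rfl⟩
    · obtain ⟨σ, hσ⟩ := hK (x * y) ((F.mem _).2 (by
        rw [map_mul, Perm.sign_mul, F.sign_of_not_mem hx, hy, sign_swap (Ne.symm ba)]; decide))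
      refine ⟨σ, ?_⟩
      rw [hσ, rho_mul]
      rcases he' with h1 | h1 <;> rw [h1]
      · exact Or.inl rfl
      · exact Or.inr (by rw [map_neg, neg_neg])
  by_cases h0 : e + ρ y e = 0
  · exact ⟨e, he, h, fin e (Or.inr (eq_neg_of_add_eq_zero_right h0))⟩
  · refine ⟨e + ρ y e, h0, by simpa using key 1, fin _ (Or.inl ?_)⟩
    rw [map_add, ← rho_mul, hyy, rho_one, add_comm]

/-- **the natural module** -/
theorem Fr.nat_cod [Finite V] (F : Fr p K ρ ψ) (hi : Function.Injective ψ) (hι : ∀ σ, ψ (ι σ) = σ) {e : V}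
    (he : e ≠ 0) {x1 x2 x3 x4 x5 : Fin n} (h : NRel (ρ.comp ι) e x1 x2 x3 x4 x5) :
    (∀ {a b c : Fin n} (hab : a ≠ b) (_ : a ≠ c) (hbc : b ≠ c), cod ρ (Subgroup.zpowers (ι (cc a b c hab hbc))) ≤ 2) ∧
      ∀ {a b c d : Fin n} (hab : a ≠ b) (hcd : c ≠ d), a ≠ c → a ≠ d → b ≠ c → b ≠ d →
        cod ρ (Subgroup.zpowers (ι (dt a b c d hab hcd))) ≤ 2 := by
  obtain ⟨e, h, hs⟩ := F.nat_span hi hι he h
  have h5 : 5 ≤ Fintype.card (Fin n) := by have := F.deg; simp; omega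
  exact ⟨fun hab hac hbc => cod_zpowers (ρ := ρ) _ ▸ h.c3_le h5 hs hab hac hbc,
    fun hab hcd hac had hbc hbd => cod_zpowers (ρ := ρ) _ ▸ h.dt_le h5 hs hab hcd hac had hbc hbd⟩

end Cfsg.Agent.TwoF.Alt
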