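import Cfsg.Agent.TwoF.Alt.Nat
import Cfsg.Agent.TwoF.Gen.BCov
import Cfsg.Agent.H189.FeitTits
import Cfsg.Agent.H189.AltOddDim

/-!
# Alternating groups, odd characteristic: the steps (helper10)

`B` an elementary abelian subgroup of `K`, `u` a point, `B' = stb ψ B u`, `q` the length of the orbit of `u`.
Lower bounds for `codOn ρ (fx ρ B') B`: `Fr.alpha` (`q - 1`, if `B` has `q - 1` fixed points), `Fr.beta` (`(q - 2) / 3`),
`Fr.beta_one`.
-/

set_option autoImplicit false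

namespace Cfsg.Agent.TwoF.Alt

open Module Equiv Equiv.Perm Gen H189 H189.Cyc H189.Emb H189.FeitTits

section Pts

variable {Ω : Type} [Fintype Ω] [DecidableEq Ω]

omit [Fintype Ω] [DecidableEq Ω] in
theorem exists_emb_card (S : Finset Ω) : ∃ f : Fin S.card ↪ Ω, ∀ x, x ∈ S ↔ ∃ i, f i = x :=
  ⟨S.equivFin.symm.toEmbedding.trans (Function.Embedding.subtype _), fun x =>
    ⟨fun h => ⟨S.equivFin ⟨x, h⟩, congrArg Subtype.val (S.equivFin.symm_apply_apply ⟨x, h⟩)⟩,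
      fun ⟨i, h⟩ => h ▸ (S.equivFin.symm i).2⟩⟩

omit [Fintype Ω] [DecidableEq Ω] in
theorem exists_emb_mem {S : Finset Ω} {m : ℕ} (h : m ≤ S.card) : ∃ f : Fin m ↪ Ω, ∀ i, f i ∈ S := by
  obtain ⟨f, hf⟩ := exists_emb_card S
  exact ⟨(Fin.castLEEmb h).trans f, fun i => (hf _).2 ⟨_, rfl⟩⟩

theorem sup_embP {m : ℕ} (f : Fin m ↪ Ω) (σ : Perm (Fin m)) {S : Set Ω} (h : ∀ i, f i ∈ S) : Sup (embP f σ) S :=
  fun x hx => embP_other f σ fun i e => hx (e ▸ h i)

theorem embP_ne_one {m : ℕ} (f : Fin m ↪ Ω) {σ : Perm (Fin m)} (h : σ ≠ 1) : embP f σ ≠ 1 := fun e =>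
  h (Equiv.ext fun i => f.injective (by rw [← embP_apply, e]; rfl))

theorem embP_mem_of_full {m : ℕ} (f : Fin m ↪ Ω) {σ : Perm (Fin m)} (hσ : sign σ = 1) {Γ : Subgroup (Perm Ω)}
    {S : Set Ω} (hΓ : Full Γ S) (h : ∀ i, f i ∈ S) : embP f σ ∈ Γ :=
  mem_of_full hΓ (by rw [sign_embP, hσ]) fun x hx => by
    by_contra e
    exact hx (sup_embP f σ h x e)

end Pts

section Lin

variable {k : Type} [Field k] {Y : Type} [Group Y] {V : Type} [AddCommGroup V] [Module k V]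
  {ρ : Representation k Y V}

theorem mem_fx_of_comm {B : Subgroup Y} {g : Y} (h : ∀ b ∈ B, b * g = g * b) {v : V} (hv : v ∈ fx ρ B) :
    ρ g v ∈ fx ρ B := fun b hb => by rw [← rho_mul, h b hb, rho_mul, hv b hb]

theorem comm_inv_of {B : Subgroup Y} {g : Y} (h : ∀ b ∈ B, b * g = g * b) : ∀ b ∈ B, b * g⁻¹ = g⁻¹ * b :=
  fun b hb => (Commute.inv_right (h b hb)).eq

theorem map_fx_of_comm {B : Subgroup Y} {g : Y} (h : ∀ b ∈ B, b * g = g * b) : (fx ρ B).map (ρ g) = fx ρ B := by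
  refine le_antisymm ?_ fun v hv => ⟨ρ g⁻¹ v, mem_fx_of_comm (comm_inv_of h) hv, rho_apply_inv ρ g v⟩
  rintro _ ⟨v, hv, rfl⟩
  exact mem_fx_of_comm h hv

theorem codOn_cj {B : Subgroup Y} {g : Y} (h : ∀ b ∈ B, b * g = g * b) (A : Subgroup Y) :
    codOn ρ (fx ρ B) (A.map (MulAut.conj g).toMonoidHom) = codOn ρ (fx ρ B) A := by
  have := codOn_conj (ρ := ρ) g (fx ρ B) A
  rwa [map_fx_of_comm h] at this

theorem inv_zpowers_of_comm {B : Subgroup Y} {g : Y} (h : ∀ b ∈ B, b * g = g * b) :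
    Inv ρ (Subgroup.zpowers g) (fx ρ B) := by
  rintro _ ⟨i, rfl⟩ v hv
  exact mem_fx_of_comm (fun b hb => (Commute.zpow_right (h b hb) i).eq) hv

variable [FiniteDimensional k V]

/-- the theorem of Feit and Tits for the codimension of the fixed space -/
theorem ft_cod {p : ℕ} [Fact p.Prime] [CharP k p] [Finite Y] {r : ℕ} (hr : 9 ≤ r)
    (π : Y →* alternatingGroup (Fin r)) (hπ : Function.Surjective π) (τ : alternatingGroup (Fin r))
    (h : ∀ g, π g = τ → ∃ m, g ^ m = 1 ∧ ¬ p ∣ m ∧ ρ g ≠ 1) : bd r p ≤ cod ρ ⊤ := by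
  let Q : Representation k Y (V ⧸ fx ρ ⊤) :=
    ρ.quotient (fx ρ ⊤) fun g v hv => inv_fx_self ⊤ g trivial v hv
  rw [cod_eq_finrank_quotient]
  refine feit_tits p hr π hπ Q fun g hg => ?_
  haveI := alt_simple hr
  haveI : ((MonoidHom.ker Q).map π).Normal := Subgroup.Normal.map inferInstance π hπ
  rcases Subgroup.Normal.eq_bot_or_eq_top (H := (MonoidHom.ker Q).map π) inferInstance with e | e
  · exact (Subgroup.mem_bot).1 (e ▸ Subgroup.mem_map_of_mem π hg)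
  · obtain ⟨x, hx, hxτ⟩ : τ ∈ (MonoidHom.ker Q).map π := e ▸ trivial
    obtain ⟨m, h1, h2, h3⟩ := h x hxτ
    refine (h3 (LinearMap.ext fun v => eq_of_sub_one_sq h1 h2 ?_)).elim
    have h4 : Q x ((fx ρ ⊤).mkQ v) = (fx ρ ⊤).mkQ v := by rw [hx]; rfl
    have h5 : ρ x v - v ∈ fx ρ ⊤ := (Submodule.Quotient.eq _).1 h4
    exact h5 x trivial

end Lin

variable {p : ℕ} [Fact p.Prime] {Y : Type} [Group Y] [Finite Y] {V : Type} [AddCommGroup V] [Module (ZMod p) V]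
  [Finite V] {K : Subgroup Y} {ρ : Representation (ZMod p) Y V} {n : ℕ} {ψ : Y →* Perm (Fin n)}

/-- an element of order five in characteristic three -/
theorem four_le {V : Type} [AddCommGroup V] [Module (ZMod 3) V] [Finite V] {ρ : Representation (ZMod 3) Y V}
    {w : Y} (hw : w ^ 5 = 1) {W : Submodule (ZMod 3) V} (hW : Inv ρ (Subgroup.zpowers w) W)
    (h : ∃ v ∈ W, ρ w v ≠ v) : 4 ≤ codOn ρ W (Subgroup.zpowers w) := by
  haveI : Fact (Nat.Prime 5) := ⟨by norm_num⟩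
  have hP : IsPGroup 5 (Subgroup.zpowers w) := elemAb_isPGroup (elemAb_zpowers hw)
  have h1 := pow_cod_modEq (ρ := resOn ρ hW) (s := 5) (by simp) (hP.to_subgroup ⊤)
  rw [cod_resOn, ← MonoidHom.range_eq_map, Subgroup.range_subtype, Nat.card_zmod] at h1
  have h2 : codOn ρ W (Subgroup.zpowers w) ≠ 0 := fun e => by
    obtain ⟨v, hv, hne⟩ := h
    exact hne (codOn_eq_zero_iff.1 e hv w (Subgroup.mem_zpowers w))
  by_contra h3
  generalize codOn ρ W (Subgroup.zpowers w) = c at h1 h2 h3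
  have h4 : c < 4 := by omega
  interval_cases c <;> simp_all [Nat.ModEq]

namespace Fr

variable (F : Fr p K ρ ψ)
include F

omit [Finite V] in
/-- an element supported on the fixed points of `B` centralises `B` -/
theorem cen {B : Subgroup Y} (hB : IsElementaryAbelian p B) (hK : B ≤ K) {g : Y} (hg : Sup (ψ g) (fix ψ B)) :
    ∀ b ∈ B, b * g = g * b := fun b hb =>
  (F.comm (hK hb) (hg.comm fun x hx => mem_fix.1 hx b hb) (hB.2 b hb)).symm

omit [Finite V] [Finite Y] in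
theorem le_K (hp : p ≠ 2) {B : Subgroup Y} (hB : IsElementaryAbelian p B) : B ≤ K := fun b hb => by
  have h1 : b ^ p = 1 := hB.2 b hb
  have h2 : sign (ψ b) ^ p = 1 := by rw [← map_pow, ← map_pow, h1, map_one, map_one]
  rw [F.mem]
  rcases Int.units_eq_one_or (sign (ψ b)) with e | e
  · exact e
  · rw [e, ((Fact.out : p.Prime).odd_of_ne_two hp).neg_one_pow] at h2
    exact absurd h2 (by decide)

/-- **FT.** -/
theorem ft (hp : p ≠ 2) {B : Subgroup Y} (hB : IsElementaryAbelian p B) (hK : B ≤ K) {Γ : Subgroup Y}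
    {S : Finset (Fin n)} (hΓ : Full (Γ.map ψ) S) (hS : S ⊆ fix ψ B) (hr : 9 ≤ S.card) :
    bd S.card p ≤ codOn ρ (fx ρ B) Γ := by
  obtain ⟨f, hf⟩ := exists_emb_card S
  have hf' : ∀ i, f i ∈ S := fun i => (hf _).2 ⟨i, rfl⟩
  generalize S.card = r at f hr hf hf'
  let G : Subgroup (Y × alternatingGroup (Fin r)) :=
    { carrier := {x | x.1 ∈ Γ ∧ ψ x.1 = embP f x.2}
      mul_mem' := fun {a b} ha hb => ⟨mul_mem ha.1 hb.1, by
        rw [Prod.fst_mul, Prod.snd_mul, map_mul, Subgroup.coe_mul, map_mul, ha.2, hb.2]⟩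
      one_mem' := ⟨one_mem _, by rw [Prod.fst_one, Prod.snd_one, map_one, Subgroup.coe_one, map_one]⟩
      inv_mem' := fun {a} ha => ⟨inv_mem ha.1, by
        rw [Prod.fst_inv, Prod.snd_inv, map_inv, Subgroup.coe_inv, map_inv, ha.2]⟩ }
  have hc : ∀ g : G, ∀ b ∈ B, b * g.1.1 = g.1.1 * b := fun g =>
    F.cen hB hK (g.2.2 ▸ sup_embP f _ fun i => hS (hf' i))
  let j : G →* Y := (MonoidHom.fst _ _).comp G.subtype
  let σ : Representation (ZMod p) G (fx ρ B) :=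
    Representation.subrepresentation (ρ.comp j) (fx ρ B) fun g v hv => mem_fx_of_comm (hc g) hv
  let π : G →* alternatingGroup (Fin r) := (MonoidHom.snd _ _).comp G.subtype
  have hπ : Function.Surjective π := fun s => by
    obtain ⟨x, hx, e⟩ := embP_mem_of_full f (mem_alternatingGroup.1 s.2) hΓ hf'
    exact ⟨⟨(x, s), hx, e⟩, rfl⟩
  let e : Fin 4 ↪ Fin r := Fin.castLEEmb (by omega)
  have h1 := ft_cod (ρ := σ) (p := p) hr π hπ (emb e AltOddDim.Z1) fun g hg => by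
    have h2 : (g.1.2 : Perm (Fin r)) ^ 2 = 1 := by
      have : g.1.2 = emb e AltOddDim.Z1 := hg
      rw [this, ← Subgroup.coe_pow, ← map_pow, show AltOddDim.Z1 ^ 2 = 1 by decide, map_one, Subgroup.coe_one]
    have h3 : ψ g.1.1 ^ 2 = 1 := by rw [g.2.2, ← map_pow, h2, map_one]
    have h4 : ¬ p ∣ 2 := fun h => hp ((Nat.prime_dvd_prime_iff_eq Fact.out Nat.prime_two).1 h)
    refine ⟨2 * Nat.card ψ.ker, Subtype.ext (Prod.ext (pow_card h3) (Subtype.ext ?_)), F.not_dvd_mul h4, fun h5 => ?_⟩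
    · show (g.1.2 : Perm (Fin r)) ^ (2 * Nat.card ψ.ker) = 1
      rw [pow_mul, h2, one_pow]
    · have h6 : g.1.1 ≠ 1 := fun h => by
        have h7 := g.2.2
        rw [h, map_one, show g.1.2 = emb e AltOddDim.Z1 from hg, coe_emb] at h7
        exact embP_ne_one f (embP_ne_one e (by decide)) h7.symm
      obtain ⟨v, hv, hne⟩ := F.nt (elemAb_isPGroup hB) h3 h4 h6 (hc g)
      exact hne (congrArg Subtype.val (LinearMap.congr_fun h5 ⟨v, hv⟩))
  refine h1.trans ?_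
  rw [cod_eq_codOn_range (ρ := ρ) (B := (⊤ : Subgroup G).map j) (fx ρ B).subtype (fx ρ B).injective_subtype
    (by rintro _ ⟨b, hb, rfl⟩; exact ⟨b, hb, fun _ => rfl⟩) (fun b hb => ⟨_, ⟨b, hb, rfl⟩, fun _ => rfl⟩),
    Submodule.range_subtype]
  exact codOn_mono le_rfl (by rintro _ ⟨g, -, rfl⟩; exact g.2.1)

end Fr

/-- a lift of order five -/
theorem Fr.exists_five {K : Subgroup Y} (F : Fr p K ρ ψ) {x : Y} (h : ψ x ^ 5 = 1) :
    (x ^ 6) ^ 5 = 1 ∧ ψ (x ^ 6) = ψ x := by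
  refine ⟨?_, by rw [map_pow, show 6 = 5 + 1 from rfl, pow_succ, h, one_mul]⟩
  obtain ⟨c, hc⟩ := F.six
  rw [← pow_mul, show 6 * 5 = 5 * Nat.card ψ.ker * c by rw [mul_assoc, ← hc, mul_comm], pow_mul, Fr.pow_card h, one_pow]

/-- five points in characteristic three -/
theorem Fr.ft_five {V : Type} [AddCommGroup V] [Module (ZMod 3) V] [Finite V] {ρ : Representation (ZMod 3) Y V}
    (F : Fr 3 K ρ ψ) {B : Subgroup Y} (hB : IsElementaryAbelian 3 B) (hK : B ≤ K) {Γ : Subgroup Y}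
    {S : Finset (Fin n)} (hΓ : Full (Γ.map ψ) S) (hS : S ⊆ fix ψ B) (hr : 5 ≤ S.card) :
    4 ≤ codOn ρ (fx ρ B) Γ := by
  obtain ⟨f, hf⟩ := exists_emb_mem hr
  obtain ⟨x, hx, e⟩ := embP_mem_of_full f (σ := finRotate 5) (by decide) hΓ hf
  have h1 : ψ x ^ 5 = 1 := by rw [e, ← map_pow, show finRotate 5 ^ 5 = 1 by decide, map_one]
  obtain ⟨h2, h3⟩ := F.exists_five h1
  have hc := F.cen hB hK (g := x ^ 6) (by rw [h3, e]; exact sup_embP f _ fun i => hS (hf i))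
  have h4 : x ^ 6 ≠ 1 := fun h => by
    rw [h, map_one, e] at h3
    exact embP_ne_one f (by decide) h3.symm
  refine (four_le h2 (inv_zpowers_of_comm hc) (F.nt (elemAb_isPGroup hB) (m := 5) (by rw [h3, h1]) (by norm_num)
    h4 hc)).trans (codOn_mono le_rfl ?_)
  exact Subgroup.zpowers_le.2 (pow_mem hx 6)

namespace Fr

variable (F : Fr p K ρ ψ) {B : Subgroup Y} (hB : IsElementaryAbelian p B) (hK : B ≤ K) (u : Fin n)
include F hB hK

/-- **the step with many fixed points** -/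
theorem alpha (hp : p ≠ 2) (hd : p ∣ (orb ψ B u).card) (hf : (orb ψ B u).card - 1 ≤ (fix ψ B).card) :
    (orb ψ B u).card - 1 ≤ codOn ρ (fx ρ (stb ψ B u)) B := by
  have hc : ∀ a ∈ B, ∀ b ∈ B, a * b = b * a := fun a ha b hb => elemAb_comm hB ha hb
  have hB' : IsElementaryAbelian p (stb ψ B u) := elemAb_of_le hB (stb_le B u)
  have hK' : stb ψ B u ≤ K := (stb_le B u).trans hK
  have hp3 : 3 ≤ p := by
    have := (Fact.out : p.Prime).two_le
    omega
  have hq : 3 ≤ (orb ψ B u).card := hp3.trans (Nat.le_of_dvd (Finset.card_pos.2 ⟨u, self_mem_orb B u⟩) hd)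
  obtain ⟨T, hT, hTc⟩ := Finset.exists_subset_card_eq hf
  set P := (orb ψ B u).erase u with hP
  have hPc : P.card = (orb ψ B u).card - 1 := Finset.card_erase_of_mem (self_mem_orb B u)
  have hd' : ∀ x ∈ P, x ∉ T := fun x hx h => not_mem_fix (by omega) (Finset.mem_of_mem_erase hx) (hT h)
  have huT : u ∉ T := fun h => not_mem_fix (by omega) (self_mem_orb B u) (hT h)
  obtain ⟨σ, hσ, h1, h2⟩ := exists_move hd' (by omega) (by omega)
  obtain ⟨g, -, hg⟩ := F.lift σ hσ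
  have hO := orb_subset_fix (ψ := ψ) hc u
  have hT' : T ⊆ fix ψ (stb ψ B u) := hT.trans (fix_anti (stb_le B u))
  have hgc := F.cen hB' hK' (g := g) (hg ▸ h1.mono (Finset.coe_subset.2
    (Finset.union_subset ((Finset.erase_subset _ _).trans hO) hT')))
  have hfull : Full ((B ⊔ B.map (MulAut.conj g).toMonoidHom).map ψ) (insert u (P ∪ P.image σ) : Finset (Fin n)) := by
    refine gen_alpha (B := B.map ψ) (T := T) ?_ (fun x => ?_) ?_ huT hd' (Finset.card_pos.1 (by omega)) h1 h2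
      (Subgroup.map_mono le_sup_left) ?_
    · rintro _ ⟨a, ha, rfl⟩ _ ⟨b, hb, rfl⟩
      rw [← map_mul, ← map_mul, hc a ha b hb]
    · rw [hP, Finset.mem_erase, mem_orb]
      exact and_congr_right fun _ => ⟨fun ⟨a, ha, e⟩ => ⟨_, ⟨a, ha, rfl⟩, e⟩, fun ⟨_, ⟨a, ha, rfl⟩, e⟩ => ⟨a, ha, e⟩⟩
    · rintro _ ⟨a, ha, rfl⟩ x hx
      exact mem_fix.1 (hT hx) a ha
    · rintro _ ⟨a, ha, rfl⟩
      exact ⟨g * a * g⁻¹, Subgroup.mem_sup_right ⟨a, ha, rfl⟩, by rw [map_mul, map_mul, map_inv, hg]⟩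
  have hS : (insert u (P ∪ P.image σ) : Finset (Fin n)) ⊆ fix ψ (stb ψ B u) := by
    refine Finset.insert_subset (hO (self_mem_orb B u)) (Finset.union_subset ((Finset.erase_subset _ _).trans hO) ?_)
    intro x hx
    obtain ⟨y, hy, rfl⟩ := Finset.mem_image.1 hx
    exact hT' (h2 y hy)
  have hSc : (insert u (P ∪ P.image σ) : Finset (Fin n)).card = 2 * (orb ψ B u).card - 1 := by
    rw [Finset.card_insert_of_notMem, Finset.card_union_of_disjoint, Finset.card_image_of_injective _ σ.injective]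
    · omega
    · rw [Finset.disjoint_left]
      intro x hx hx'
      obtain ⟨y, hy, rfl⟩ := Finset.mem_image.1 hx'
      exact hd' _ hx (h2 y hy)
    · rw [Finset.mem_union, not_or]
      refine ⟨Finset.notMem_erase _ _, fun h => ?_⟩
      obtain ⟨y, hy, e⟩ := Finset.mem_image.1 h
      exact huT (e ▸ h2 y hy)
  have hle := codOn_sup_le (ρ := ρ) (fx ρ (stb ψ B u)) B (B.map (MulAut.conj g).toMonoidHom)
  rw [codOn_cj hgc] at hle
  by_cases h5 : 5 ≤ (orb ψ B u).card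
  · have h6 := F.ft hp hB' hK' hfull hS (by omega)
    rw [hSc, bd, if_neg] at h6
    · omega
    · intro h
      have h7 : p ∣ 2 * (orb ψ B u).card - (2 * (orb ψ B u).card - 1) := Nat.dvd_sub (hd.mul_left 2) h
      rw [show 2 * (orb ψ B u).card - (2 * (orb ψ B u).card - 1) = 1 by omega] at h7
      exact absurd (Nat.le_of_dvd one_pos h7) (by omega)
  · have h6 : p = 3 ∧ (orb ψ B u).card = 3 := by
      have h7 := Nat.le_of_dvd (by omega) hd
      have h8 := (Fact.out : p.Prime).odd_of_ne_two hp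
      have h9 : p ≠ 4 := fun e => by rw [e] at h8; exact absurd h8 (by decide)
      have h10 : p = 3 := by omega
      subst h10
      omega
    obtain ⟨rfl, h7⟩ := h6
    have h8 := F.ft_five hB' hK' hfull hS (by omega)
    omega

omit [Finite V] F hK in
theorem exists_moves (h : 2 ≤ (orb ψ B u).card) : ∃ b ∈ B, ψ b ^ p = 1 ∧ (∀ x ∈ orb ψ B u, ψ b x ∈ orb ψ B u) ∧
    ∀ x ∈ orb ψ B u, ψ b x ≠ x := by
  have h1 := not_mem_fix h (self_mem_orb B u)
  rw [mem_fix] at h1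
  push Not at h1
  obtain ⟨b, hb, hne⟩ := h1
  refine ⟨b, hb, ?_, fun x hx => orb_maps hx hb, fun x hx => move_orb (fun a ha b hb => elemAb_comm hB ha hb) hx hb hne⟩
  rw [← map_pow, show b ^ p = 1 from hB.2 b hb, map_one]

/-- **the step without fixed points** -/
theorem beta (hp : p ≠ 2) (hq : 9 ≤ (orb ψ B u).card) :
    (orb ψ B u).card - 2 ≤ 3 * codOn ρ (fx ρ (stb ψ B u)) B := by
  have hc : ∀ a ∈ B, ∀ b ∈ B, a * b = b * a := fun a ha b hb => elemAb_comm hB ha hb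
  have hB' : IsElementaryAbelian p (stb ψ B u) := elemAb_of_le hB (stb_le B u)
  have hK' : stb ψ B u ≤ K := (stb_le B u).trans hK
  have hO := orb_subset_fix (ψ := ψ) hc u
  obtain ⟨b, hb, b1, b2, b3⟩ := exists_moves (ψ := ψ) hB u (by omega)
  have hp' : 5 ≤ p ∨ (p = 3 ∧ 7 ≤ (orb ψ B u).card) := by
    have h7 := (Fact.out : p.Prime).two_le
    have h8 := (Fact.out : p.Prime).odd_of_ne_two hp
    have h9 : p ≠ 4 := fun e => by rw [e] at h8; exact absurd h8 (by decide)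
    omega
  obtain ⟨h, g, h1, h2, g1, g2, H⟩ := gen_beta Fact.out b1 b2 b3 hp' ⟨u, self_mem_orb B u⟩
  obtain ⟨h', -, hh⟩ := F.lift h h1
  obtain ⟨g', -, hg⟩ := F.lift g g1
  have ch := F.cen hB' hK' (g := h') (hh ▸ h2.mono (Finset.coe_subset.2 hO))
  have cg := F.cen hB' hK' (g := g') (hg ▸ g2.mono (Finset.coe_subset.2 hO))
  set Γ := (B ⊔ B.map (MulAut.conj h').toMonoidHom) ⊔ B.map (MulAut.conj g').toMonoidHom with hΓ
  have m1 : ψ b ∈ Γ.map ψ := ⟨b, Subgroup.mem_sup_left (Subgroup.mem_sup_left hb), rfl⟩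
  have m2 : h * ψ b * h⁻¹ ∈ Γ.map ψ := ⟨h' * b * h'⁻¹, Subgroup.mem_sup_left (Subgroup.mem_sup_right ⟨b, hb, rfl⟩),
    by rw [map_mul, map_mul, map_inv, hh]⟩
  have m3 : g * ψ b * g⁻¹ ∈ Γ.map ψ := ⟨g' * b * g'⁻¹, Subgroup.mem_sup_right ⟨b, hb, rfl⟩,
    by rw [map_mul, map_mul, map_inv, hg]⟩
  have hfull := H (Γ.map ψ) (fun γ hγ => mul_mem (mul_mem m1 hγ) (inv_mem m1))
    (fun γ hγ => mul_mem (mul_mem m3 hγ) (inv_mem m3)) (by
      have := mul_mem m1 (inv_mem m2)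
      rwa [show ψ b * (h * ψ b * h⁻¹)⁻¹ = ψ b * h * (ψ b)⁻¹ * h⁻¹ by group] at this)
  have h3 := F.ft hp hB' hK' hfull hO hq
  have h4 := le_bd (orb ψ B u).card p
  have h5 := codOn_sup_le (ρ := ρ) (fx ρ (stb ψ B u)) B (B.map (MulAut.conj h').toMonoidHom)
  have h6 := codOn_sup_le (ρ := ρ) (fx ρ (stb ψ B u)) (B ⊔ B.map (MulAut.conj h').toMonoidHom)
    (B.map (MulAut.conj g').toMonoidHom)
  rw [codOn_cj ch] at h5
  rw [codOn_cj cg, ← hΓ] at h6
  omega

/-- the step is not trivial -/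
theorem beta_one (hp : 5 ≤ p) (hq : 2 ≤ (orb ψ B u).card) : 1 ≤ codOn ρ (fx ρ (stb ψ B u)) B := by
  have hc : ∀ a ∈ B, ∀ b ∈ B, a * b = b * a := fun a ha b hb => elemAb_comm hB ha hb
  have hB' : IsElementaryAbelian p (stb ψ B u) := elemAb_of_le hB (stb_le B u)
  have hK' : stb ψ B u ≤ K := (stb_le B u).trans hK
  have hO := orb_subset_fix (ψ := ψ) hc u
  obtain ⟨b, hb, b1, b2, b3⟩ := exists_moves (ψ := ψ) hB u hq
  obtain ⟨h, h1, h2, z, z1, z2, e⟩ := exists_first Fact.out b1 b2 b3 (Or.inl hp) (self_mem_orb B u)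
  obtain ⟨h', -, hh⟩ := F.lift h h1
  have ch := F.cen hB' hK' (g := h') (hh ▸ h2.mono (Finset.coe_subset.2 hO))
  have e' : ψ (b * h' * b⁻¹ * h'⁻¹) = c3 u z (ψ b u) := by rw [map_mul, map_mul, map_mul, map_inv, map_inv, hh, e]
  have hu := (b3 u (self_mem_orb B u)).symm
  obtain ⟨v, hv, hne⟩ := F.nt (elemAb_isPGroup hB') (x := b * h' * b⁻¹ * h'⁻¹) (m := 3)
    (by rw [e', c3_pow_three z1.symm hu z2]) (fun h => absurd (Nat.le_of_dvd (by norm_num) h) (by omega))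
    (fun h => c3_ne_one z1.symm hu (by rw [← e', h, map_one])) fun a ha => by
      have c1 : Commute a b := hc a (stb_le B u ha) b hb
      have c2 : Commute a h' := ch a ha
      exact (((c1.mul_right c2).mul_right c1.inv_right).mul_right c2.inv_right).eq
  by_contra h0
  have h3 : fx ρ (stb ψ B u) ≤ fx ρ B := codOn_eq_zero_iff.1 (by omega)
  apply hne
  have h4 := mem_fx_of_comm (comm_inv_of ch) hv
  rw [rho_mul, rho_mul, rho_mul, h3 h4 _ (inv_mem hb), rho_apply_inv, h3 hv b hb]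

end Fr

end Cfsg.Agent.TwoF.Alt
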