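import Mathlib
import Cfsg.Agent.H189.Cyc

/-!
# TwoF, alternating groups: permutation lemmas (helper10)

`Full Γ Y`: `Γ` contains all 3-cycles on `Y`.  `gen_beta`: three conjugates of a fixed point free element of order `p` on `O`
give the alternating group of `O`; `gen_alpha`: two orbits meeting in one point.
-/

set_option autoImplicit false
set_option linter.unusedSectionVars false

namespace Cfsg.Agent.TwoF.Alt

open Equiv Equiv.Perm Cfsg.Agent.H189.Cyc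

variable {Ω : Type} [Fintype Ω] [DecidableEq Ω]

theorem apply_inv_self (σ : Perm Ω) (x : Ω) : σ (σ⁻¹ x) = x := σ.apply_symm_apply x

theorem inv_apply_self (σ : Perm Ω) (x : Ω) : σ⁻¹ (σ x) = x := σ.symm_apply_apply x

/-- `σ` normalises `Γ` -/
def Nrm (Γ : Subgroup (Perm Ω)) (σ : Perm Ω) : Prop := ∀ γ ∈ Γ, σ * γ * σ⁻¹ ∈ Γ

theorem full_image {Γ : Subgroup (Perm Ω)} {Y : Set Ω} (h : Full Γ Y) {σ : Perm Ω} (hσ : Nrm Γ σ) :
    Full Γ (σ '' Y) := by
  rintro _ ⟨a, ha, rfl⟩ _ ⟨b, hb, rfl⟩ _ ⟨c, hc, rfl⟩ hab hac hbc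
  rw [← conj_c3]
  exact hσ _ (h a ha b hb c hc (fun e => hab (by rw [e])) (fun e => hac (by rw [e])) (fun e => hbc (by rw [e])))

/-- three distinct points -/
def Three (Y : Set Ω) : Prop := ∃ a ∈ Y, ∃ b ∈ Y, ∃ c ∈ Y, a ≠ b ∧ a ≠ c ∧ b ≠ c

theorem Three.two {Y : Set Ω} (h : Three Y) (y : Ω) : ∃ a ∈ Y, ∃ b ∈ Y, a ≠ b ∧ a ≠ y ∧ b ≠ y := by
  obtain ⟨a, ha, b, hb, c, hc, h1, h2, h3⟩ := h
  by_cases e1 : a = y
  · exact ⟨b, hb, c, hc, h3, by rw [← e1]; exact h1.symm, by rw [← e1]; exact h2.symm⟩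
  by_cases e2 : b = y
  · exact ⟨a, ha, c, hc, h2, e1, by rw [← e2]; exact h3.symm⟩
  exact ⟨a, ha, b, hb, h1, e1, e2⟩

theorem Three.image {Y : Set Ω} (h : Three Y) (σ : Perm Ω) : Three (σ '' Y) := by
  obtain ⟨a, ha, b, hb, c, hc, h1, h2, h3⟩ := h
  exact ⟨_, ⟨a, ha, rfl⟩, _, ⟨b, hb, rfl⟩, _, ⟨c, hc, rfl⟩, σ.injective.ne h1, σ.injective.ne h2, σ.injective.ne h3⟩

/-- one common point is enough -/
theorem full_union_one {Γ : Subgroup (Perm Ω)} {Y Z : Set Ω} (hY : Full Γ Y) (hZ : Full Γ Z) (tY : Three Y)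
    (tZ : Three Z) {y : Ω} (h1 : y ∈ Y) (h2 : y ∈ Z) : Full Γ (Y ∪ Z) := by
  by_cases h : ∃ y' ∈ Y, y' ∈ Z ∧ y' ≠ y
  · obtain ⟨y', a1, a2, a3⟩ := h
    exact hY.union hZ a3 a1 h1 a2 h2
  push Not at h
  obtain ⟨a, ha, b, hb, hab, hay, hby⟩ := tY.two y
  apply full_of_pair hab
  intro x hx hxa hxb
  by_cases hxY : x ∈ Y
  · exact hY a ha b hb x hxY hab hxa.symm hxb.symm
  have hxZ : x ∈ Z := hx.resolve_left hxY
  have hxy : x ≠ y := fun e => hxY (e ▸ h1)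
  obtain ⟨d, hd, hdy, hdx⟩ : ∃ d ∈ Z, d ≠ y ∧ d ≠ x := by
    obtain ⟨c, hc, d, hd, hcd, hcy, hdy⟩ := tZ.two y
    by_cases e : c = x
    · exact ⟨d, hd, hdy, by rw [← e]; exact hcd.symm⟩
    · exact ⟨c, hc, hcy, e⟩
  have had : a ≠ d := fun e => hay (h a ha (e ▸ hd))
  have hbd : b ≠ d := fun e => hby (h b hb (e ▸ hd))
  have m1 := hY a ha b hb y h1 hab hay hby
  have m2 := hZ y h2 x hxZ d hd hxy.symm hdy.symm hdx.symm
  have m3 := mul_mem (mul_mem m2 m1) (inv_mem m2)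
  rwa [conj_c3, c3_other hay hxa.symm had, c3_other hby hxb.symm hbd, c3_fst hxy.symm hdy.symm] at m3

/-- the block through two points -/
def blk (Γ : Subgroup (Perm Ω)) (y1 y2 : Ω) : Set Ω := {x | x = y1 ∨ x = y2 ∨ c3 y1 y2 x ∈ Γ}

theorem full_blk (Γ : Subgroup (Perm Ω)) {y1 y2 : Ω} (h : y1 ≠ y2) : Full Γ (blk Γ y1 y2) := by
  apply full_of_pair h
  rintro x (h1 | h1 | h1) h2 h3
  · exact absurd h1 h2
  · exact absurd h1 h3
  · exact h1

theorem blk_inv {Γ : Subgroup (Perm Ω)} {y1 y2 : Ω} (h : y1 ≠ y2) (t : Three (blk Γ y1 y2)) {σ : Perm Ω}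
    (hσ : Nrm Γ σ) {s : Ω} (hs : s ∈ blk Γ y1 y2) (hs' : σ s ∈ blk Γ y1 y2) {x : Ω} (hx : x ∈ blk Γ y1 y2) :
    σ x ∈ blk Γ y1 y2 := by
  have F := full_union_one (full_blk Γ h) (full_image (full_blk Γ h) hσ) t (t.image σ) hs' ⟨s, hs, rfl⟩
  by_cases e1 : σ x = y1
  · exact Or.inl e1
  by_cases e2 : σ x = y2
  · exact Or.inr (Or.inl e2)
  exact Or.inr (Or.inr (F y1 (Or.inl (Or.inl rfl)) y2 (Or.inl (Or.inr (Or.inl rfl))) _ (Or.inr ⟨x, hx, rfl⟩) h
    (Ne.symm e1) (Ne.symm e2)))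

/-- supported in `S` -/
def Sup (σ : Perm Ω) (S : Set Ω) : Prop := ∀ x, x ∉ S → σ x = x

theorem Sup.mul {σ τ : Perm Ω} {S : Set Ω} (h : Sup σ S) (h' : Sup τ S) : Sup (σ * τ) S :=
  fun x hx => by rw [mul_apply, h' x hx, h x hx]

theorem Sup.inv {σ : Perm Ω} {S : Set Ω} (h : Sup σ S) : Sup σ⁻¹ S :=
  fun x hx => by rw [Perm.inv_eq_iff_eq, h x hx]

theorem Sup.mem {σ : Perm Ω} {S : Set Ω} (h : Sup σ S) {x : Ω} (hx : x ∈ S) : σ x ∈ S := by
  by_contra h1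
  have := h _ h1
  rw [σ.injective this] at h1
  exact h1 hx

theorem Sup.mono {σ : Perm Ω} {S T : Set Ω} (h : Sup σ S) (hS : S ⊆ T) : Sup σ T :=
  fun x hx => h x fun h1 => hx (hS h1)

theorem sup_swap {S : Set Ω} {a b : Ω} (ha : a ∈ S) (hb : b ∈ S) : Sup (swap a b) S :=
  fun _ hx => swap_apply_of_ne_of_ne (fun e => hx (e ▸ ha)) (fun e => hx (e ▸ hb))

theorem sup_c3 {S : Set Ω} {a b c : Ω} (ha : a ∈ S) (hb : b ∈ S) (hc : c ∈ S) : Sup (c3 a b c) S :=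
  (sup_swap ha hb).mul (sup_swap hb hc)

theorem Sup.comm {σ τ : Perm Ω} {S : Set Ω} (h : Sup σ S) (h' : ∀ x ∈ S, τ x = x) : σ * τ = τ * σ := by
  ext x
  rw [mul_apply, mul_apply]
  by_cases hx : x ∈ S
  · rw [h' x hx, h' _ (h.mem hx)]
  · rw [h x hx]
    apply h
    intro h1
    have := h' _ h1
    rw [τ.injective this] at h1
    exact hx h1

/-- conjugating an element supported in `S` by an element preserving the complement -/
theorem Sup.conj {σ τ : Perm Ω} {S : Set Ω} (h : Sup σ S) (h' : ∀ x ∈ S, τ x ∈ S) : Sup (τ * σ * τ⁻¹) S := by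
  intro x hx
  rw [mul_apply, mul_apply, h, apply_inv_self]
  intro h1
  have := h' _ h1
  rw [apply_inv_self] at this
  exact hx this

theorem pow_ne_of_prime {b : Perm Ω} {p : ℕ} (hp : p.Prime) (hb : b ^ p = 1) {x : Ω} (hx : b x ≠ x) {k : ℕ}
    (h0 : 0 < k) (hk : k < p) : (b ^ k) x ≠ x := by
  intro h
  have h1 : ∀ m : ℕ, (b ^ (k * m)) x = x := by
    intro m
    rw [pow_mul]
    exact Function.IsFixedPt.perm_pow h m
  have hc : Nat.Coprime k p := (Nat.coprime_of_lt_prime h0.ne' hk hp).symm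
  obtain ⟨m, -, hm⟩ := Nat.exists_mul_mod_eq_one_of_coprime hc hp.one_lt
  have h2 := h1 m
  rw [← Nat.mod_add_div (k * m) p, hm, pow_add, pow_mul, hb, one_pow, mul_one, pow_one] at h2
  exact hx h2

/-- the first 3-cycle -/
theorem exists_first {b : Perm Ω} {p : ℕ} (hp : p.Prime) (hb : b ^ p = 1) {O : Finset Ω} (hO : ∀ x ∈ O, b x ∈ O)
    (hf : ∀ x ∈ O, b x ≠ x) (hc : 5 ≤ p ∨ (p = 3 ∧ 7 ≤ O.card)) {x : Ω} (hx : x ∈ O) :
    ∃ h : Perm Ω, sign h = 1 ∧ Sup h O ∧ ∃ z, z ≠ x ∧ z ≠ b x ∧ b * h * b⁻¹ * h⁻¹ = c3 x z (b x) := by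
  have ne : ∀ y ∈ O, ∀ k, 0 < k → k < p → (b ^ k) y ≠ y := fun y hy k h0 hk => pow_ne_of_prime hp hb (hf y hy) h0 hk
  rcases hc with hc | ⟨rfl, hc⟩
  · have n1 : b x ≠ x := hf x hx
    have n2 : b (b x) ≠ x := ne x hx 2 (by omega) (by omega)
    have n3 : b (b (b x)) ≠ x := ne x hx 3 (by omega) (by omega)
    have n4 : b (b x) ≠ b x := b.injective.ne n1
    have n5 : b (b (b x)) ≠ b x := b.injective.ne n2
    have n6 : b (b (b x)) ≠ b (b x) := b.injective.ne n4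
    refine ⟨c3 x (b x) (b (b x)), sign_c3 n1.symm n4.symm, sup_c3 hx (hO _ hx) (hO _ (hO _ hx)), b (b (b x)), n3, n5, ?_⟩
    rw [conj_c3, c3_inv]
    ext y
    rw [mul_apply]
    by_cases e1 : y = x
    · rw [e1, c3_trd, c3_snd n5.symm n6.symm, c3_fst n3.symm n1.symm]
    by_cases e2 : y = b x
    · rw [e2, c3_snd n2 n1, c3_other n1.symm n2.symm n3.symm, c3_trd]
    by_cases e3 : y = b (b x)
    · rw [e3, c3_fst n4 n2, c3_fst n4.symm n5.symm, c3_other n2 n6.symm n4]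
    by_cases e4 : y = b (b (b x))
    · rw [e4, c3_other n6 n5 n3, c3_trd, c3_snd n1.symm n5]
    rw [c3_other e3 e2 e1, c3_other e2 e3 e4, c3_other e1 e4 e2]
  · have b3 : ∀ y, b (b (b y)) = y := fun y => by
      have := congrArg (fun σ : Perm Ω => σ y) hb
      simpa [pow_succ] using this
    have n1 : ∀ y ∈ O, b y ≠ y := hf
    have n2 : ∀ y ∈ O, b (b y) ≠ y := fun y hy => ne y hy 2 (by omega) (by omega)
    obtain ⟨y, hy, hy'⟩ : ∃ y ∈ O, y ∉ ({x, b x, b (b x)} : Finset Ω) := by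
      apply Finset.exists_mem_notMem_of_card_lt_card
      exact lt_of_le_of_lt Finset.card_le_three (by omega)
    obtain ⟨w, hw, hw'⟩ : ∃ w ∈ O, w ∉ ({x, b x, b (b x)} ∪ {y, b y, b (b y)} : Finset Ω) := by
      apply Finset.exists_mem_notMem_of_card_lt_card
      have a1 : ({x, b x, b (b x)} : Finset Ω).card ≤ 3 := Finset.card_le_three
      have a2 : ({y, b y, b (b y)} : Finset Ω).card ≤ 3 := Finset.card_le_three
      have := Finset.card_union_le ({x, b x, b (b x)} : Finset Ω) {y, b y, b (b y)}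
      omega
    simp only [Finset.mem_union, Finset.mem_insert, Finset.mem_singleton, not_or] at hy' hw'
    obtain ⟨-, w1, w2, w3⟩ := hw'
    have c1 : b w ≠ y := fun e => w3 (by rw [← e, b3])
    have c2 : b (b w) ≠ y := fun e => w2 (by rw [← e, b3])
    have d1 : (swap y w).Disjoint (swap (b y) (b w)) := disjoint_swap_swap (by
      simp only [List.nodup_cons, List.mem_cons, List.not_mem_nil, or_false, not_or, List.nodup_nil, and_true,
        not_false_eq_true]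
      exact ⟨⟨Ne.symm w1, (n1 y hy).symm, c1.symm⟩, ⟨w2, (n1 w hw).symm⟩, b.injective.ne (Ne.symm w1)⟩)
    have d2 : (swap y w).Disjoint (swap (b (b y)) (b (b w))) := disjoint_swap_swap (by
      simp only [List.nodup_cons, List.mem_cons, List.not_mem_nil, or_false, not_or, List.nodup_nil, and_true,
        not_false_eq_true]
      exact ⟨⟨Ne.symm w1, (n2 y hy).symm, c2.symm⟩, ⟨w3, (n2 w hw).symm⟩,
        b.injective.ne (b.injective.ne (Ne.symm w1))⟩)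
    set τ := swap y w * swap (b y) (b w) * swap (b (b y)) (b (b w)) with hτ
    have hbτ : b * τ * b⁻¹ = τ := by
      have e : b * τ * b⁻¹ = (b * swap y w * b⁻¹) * (b * swap (b y) (b w) * b⁻¹) *
          (b * swap (b (b y)) (b (b w)) * b⁻¹) := by rw [hτ]; group
      rw [e, ← swap_apply_apply, ← swap_apply_apply, ← swap_apply_apply, b3, b3, hτ, mul_assoc, ← d2.commute.eq,
        ← mul_assoc, ← d1.commute.eq]
    have m1 : b x ≠ x := n1 x hx
    have m2 : b (b x) ≠ x := n2 x hx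
    have m3 : b (b x) ≠ b x := b.injective.ne m1
    refine ⟨swap x (b x) * τ, ?_, ?_, b (b x), m2, m3, ?_⟩
    · rw [hτ, Perm.sign_mul, Perm.sign_mul, Perm.sign_mul, sign_swap m1.symm, sign_swap (Ne.symm w1),
        sign_swap (b.injective.ne (Ne.symm w1)), sign_swap (b.injective.ne (b.injective.ne (Ne.symm w1)))]
      decide
    · exact (sup_swap hx (hO _ hx)).mul (((sup_swap hy hw).mul (sup_swap (hO _ hy) (hO _ hw))).mul
        (sup_swap (hO _ (hO _ hy)) (hO _ (hO _ hw))))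
    · have e : b * (swap x (b x) * τ) * b⁻¹ * (swap x (b x) * τ)⁻¹ =
          (b * swap x (b x) * b⁻¹) * (b * τ * b⁻¹) * τ⁻¹ * (swap x (b x))⁻¹ := by group
      rw [e, hbτ, ← swap_apply_apply, mul_inv_cancel_right, swap_inv]
      ext t
      rw [mul_apply]
      by_cases e1 : t = x
      · rw [e1, swap_apply_left, swap_apply_left, c3_fst m2.symm m1.symm]
      by_cases e2 : t = b x
      · rw [e2, swap_apply_right, swap_apply_of_ne_of_ne m1.symm m2.symm, c3_trd]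
      by_cases e3 : t = b (b x)
      · rw [e3, swap_apply_of_ne_of_ne m2 m3, swap_apply_right, c3_snd m1.symm m3]
      rw [swap_apply_of_ne_of_ne e1 e2, swap_apply_of_ne_of_ne e2 e3, c3_other e1 e3 e2]

/-- **three conjugates of a fixed point free element of order `p`** -/
theorem gen_beta {b : Perm Ω} {p : ℕ} (hp : p.Prime) (hb : b ^ p = 1) {O : Finset Ω} (hO : ∀ x ∈ O, b x ∈ O)
    (hf : ∀ x ∈ O, b x ≠ x) (hc : 5 ≤ p ∨ (p = 3 ∧ 7 ≤ O.card)) (hne : O.Nonempty) :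
    ∃ h g : Perm Ω, sign h = 1 ∧ Sup h O ∧ sign g = 1 ∧ Sup g O ∧
      ∀ Γ : Subgroup (Perm Ω), Nrm Γ b → Nrm Γ (g * b * g⁻¹) → b * h * b⁻¹ * h⁻¹ ∈ Γ → Full Γ O := by
  classical
  let rep : Ω → Ω := fun x => Quotient.out (Quotient.mk (SameCycle.setoid b) x)
  have hrep : ∀ x, SameCycle b (rep x) x := fun x => Quotient.mk_out (s := SameCycle.setoid b) x
  have hrep2 : ∀ x y, SameCycle b x y → rep x = rep y := fun x y h => by
    simp only [rep]
    rw [Quotient.sound (s := SameCycle.setoid b) h]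
  have hpow : ∀ (S : Set Ω), (∀ x ∈ S, b x ∈ S) → ∀ x y, SameCycle b x y → x ∈ S → y ∈ S := by
    intro S hS x y h hx
    obtain ⟨n, -, rfl⟩ := h.exists_pow_eq'
    clear h
    induction n with
    | zero => exact hx
    | succ n ih => rw [pow_succ', mul_apply]; exact hS _ ih
  set R := O.image rep with hR
  have hRO : ∀ r ∈ R, r ∈ O := by
    intro r hr
    obtain ⟨x, hx, rfl⟩ := Finset.mem_image.1 hr
    exact hpow O hO x _ (hrep x).symm hx
  have hRR : ∀ r ∈ R, ∀ r' ∈ R, SameCycle b r r' → r = r' := by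
    intro r hr r' hr' h
    obtain ⟨x, -, rfl⟩ := Finset.mem_image.1 hr
    obtain ⟨y, -, rfl⟩ := Finset.mem_image.1 hr'
    exact hrep2 _ _ (((hrep x).symm.trans h).trans (hrep y))
  obtain ⟨x0, hx0⟩ := hne
  set x := rep x0 with hxdef
  have hxR : x ∈ R := Finset.mem_image.2 ⟨x0, hx0, rfl⟩
  have hx : x ∈ O := hRO x hxR
  have h3 : 3 ≤ p := by omega
  have n1 : b x ≠ x := hf x hx
  have n2 : b (b x) ≠ x := pow_ne_of_prime hp hb n1 (k := 2) (by omega) (by omega)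
  have n3 : b (b x) ≠ b x := b.injective.ne n1
  have s1 : SameCycle b x (b x) := ⟨1, by simp⟩
  have s2 : SameCycle b x (b (b x)) := ⟨2, by rw [zpow_two, mul_apply]⟩
  have r1 : b x ∉ R := fun h => n1 (hRR _ hxR _ h s1).symm
  have r2 : b (b x) ∉ R := fun h => n2 (hRR _ hxR _ h s2).symm
  obtain ⟨h, h1, h2, z, z1, z2, hz⟩ := exists_first hp hb hO hf hc hx
  obtain ⟨g0, hg0, hg0'⟩ := Finset.exists_cycleOn R
  have g0fix : ∀ y, y ∉ R → g0 y = y := fun y hy => by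
    by_contra e
    exact hy (hg0' (mem_support.2 e))
  obtain ⟨g, g1, g2, g3, g4⟩ : ∃ g : Perm Ω, sign g = 1 ∧ Sup g O ∧ (∀ r ∈ R, g r = g0 r) ∧
      ∀ y, y ∉ R → g y = y ∨ g y = b x ∨ g y = b (b x) := by
    have hs : Sup g0 O := fun y hy => g0fix y fun h => hy (hRO y h)
    rcases Int.units_eq_one_or (sign g0) with e | e
    · exact ⟨g0, e, hs, fun _ _ => rfl, fun y hy => Or.inl (g0fix y hy)⟩
    · refine ⟨g0 * swap (b x) (b (b x)), by rw [Perm.sign_mul, e, sign_swap n3.symm]; decide,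
        hs.mul (sup_swap (hO _ hx) (hO _ (hO _ hx))), fun r hr => ?_, fun y hy => ?_⟩
      · rw [mul_apply, swap_apply_of_ne_of_ne (ne_of_mem_of_not_mem hr r1) (ne_of_mem_of_not_mem hr r2)]
      · rw [mul_apply]
        by_cases e1 : y = b x
        · rw [e1, swap_apply_left, g0fix _ r2]; exact Or.inr (Or.inr rfl)
        by_cases e2 : y = b (b x)
        · rw [e2, swap_apply_right, g0fix _ r1]; exact Or.inr (Or.inl rfl)
        rw [swap_apply_of_ne_of_ne e1 e2, g0fix _ hy]; exact Or.inl rfl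
  refine ⟨h, g, h1, h2, g1, g2, fun Γ hb1 hb2 hm => ?_⟩
  rw [hz] at hm
  have hm' : c3 x (b x) z ∈ Γ := by
    have := inv_mem hm
    rwa [c3_inv, c3_cycle z2.symm n1 z1, c3_cycle z1 z2 n1.symm] at this
  have mx : x ∈ blk Γ x (b x) := Or.inl rfl
  have mb : b x ∈ blk Γ x (b x) := Or.inr (Or.inl rfl)
  have t : Three (blk Γ x (b x)) := ⟨x, mx, b x, mb, z, Or.inr (Or.inr hm'), n1.symm, z1.symm, z2.symm⟩
  have i1 : ∀ y ∈ blk Γ x (b x), b y ∈ blk Γ x (b x) := fun y hy => blk_inv n1.symm t hb1 mx mb hy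
  have mbb := i1 _ mb
  have gm : ∀ y, y ∉ R → y ∈ blk Γ x (b x) → g y ∈ blk Γ x (b x) := by
    intro y hy hy'
    rcases g4 y hy with e | e | e <;> rw [e]
    exacts [hy', mb, mbb]
  have i2 : ∀ y ∈ blk Γ x (b x), (g * b * g⁻¹) y ∈ blk Γ x (b x) := fun y hy =>
    blk_inv n1.symm t hb2 (gm _ r1 mb) (by
      rw [mul_apply, mul_apply, inv_apply_self]; exact gm _ r2 mbb) hy
  have i3 : ∀ r ∈ R, r ∈ blk Γ x (b x) → g0 r ∈ blk Γ x (b x) := by
    intro r hr hr'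
    have sc : SameCycle b r (b⁻¹ r) := ⟨-1, by simp⟩
    have a1 : b⁻¹ r ∉ R := fun h => hf r (hRO r hr) (by
      have := hRR _ hr _ h sc
      nth_rewrite 1 [this]
      exact apply_inv_self b r)
    have := i2 _ (gm _ a1 (hpow _ i1 _ _ sc hr'))
    rwa [mul_apply, mul_apply, inv_apply_self, apply_inv_self, g3 r hr] at this
  have i4 : ∀ r ∈ R, r ∈ blk Γ x (b x) := by
    intro r hr
    obtain ⟨n, -, rfl⟩ := hg0.exists_pow_eq hxR hr
    have : ∀ n : ℕ, (g0 ^ n) x ∈ R ∧ (g0 ^ n) x ∈ blk Γ x (b x) := by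
      intro n
      induction n with
      | zero => exact ⟨hxR, mx⟩
      | succ n ih =>
        rw [pow_succ', mul_apply]
        exact ⟨hg0.1.mapsTo ih.1, i3 _ ih.1 ih.2⟩
    exact (this n).2
  refine (full_blk Γ n1.symm).mono fun y hy => ?_
  exact hpow _ i1 _ _ (hrep y) (i4 _ (Finset.mem_image.2 ⟨y, hy, rfl⟩))

theorem inv_mem_of_maps (σ : Perm Ω) (S : Set Ω) (hS : ∀ x ∈ S, σ x ∈ S) {x : Ω} (hx : x ∈ S) : σ⁻¹ x ∈ S := by
  have h1 : ∀ n : ℕ, (σ ^ n) x ∈ S := by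
    intro n
    induction n with
    | zero => exact hx
    | succ n ih => rw [pow_succ', mul_apply]; exact hS _ ih
  have h2 : σ⁻¹ = σ ^ (orderOf σ - 1) := by
    rw [inv_eq_iff_mul_eq_one, ← pow_succ', Nat.sub_add_cancel (orderOf_pos σ), pow_orderOf_eq_one]
  rw [h2]
  exact h1 _

theorem not_mem_of_maps (σ : Perm Ω) (S : Set Ω) (hS : ∀ x ∈ S, σ x ∈ S) (x : Ω) (hx : x ∉ S) : σ x ∉ S := by
  intro h
  have := inv_mem_of_maps σ S hS h
  rw [inv_apply_self] at this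
  exact hx this

/-- the commutator of two permutations whose orbits `P ∪ {u}`, `Q ∪ {u}` meet in one point -/
theorem comm_three {a b : Perm Ω} {P Q : Set Ω} {u : Ω} (hP : u ∉ P) (hQ : u ∉ Q) (hPQ : ∀ x ∈ P, x ∉ Q)
    (a1 : ∀ x, x = u ∨ x ∈ P → a x = u ∨ a x ∈ P) (a2 : ∀ x ∈ Q, a x = x)
    (b1 : ∀ x, x = u ∨ x ∈ Q → b x = u ∨ b x ∈ Q) (b2 : ∀ x ∈ P, b x = x)
    (hc : ∀ x, x ≠ u → x ∉ P → x ∉ Q → a (b x) = b (a x)) (ha : a u ≠ u) (hb : b u ≠ u) :
    a * b * a⁻¹ * b⁻¹ = c3 u (a u) (b u) := by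
  have au : a u ∈ P := (a1 u (Or.inl rfl)).resolve_left ha
  have bu : b u ∈ Q := (b1 u (Or.inl rfl)).resolve_left hb
  have ab : a u ≠ b u := fun e => hPQ _ au (e ▸ bu)
  have out := @not_mem_of_maps Ω _ _
  rw [mul_inv_eq_iff_eq_mul, mul_inv_eq_iff_eq_mul]
  ext x
  simp only [mul_apply]
  by_cases e : x = u
  · rw [e, a2 _ bu, b2 _ au, c3_snd hb.symm ab]
  by_cases eP : x ∈ P
  · rw [b2 _ eP]
    rcases a1 x (Or.inr eP) with h | h
    · rw [h, c3_trd]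
    · rw [b2 _ h, c3_other (ne_of_mem_of_not_mem h hP) (a.injective.ne e) (ne_of_mem_of_not_mem bu (hPQ _ h)).symm]
  by_cases eQ : x ∈ Q
  · rw [a2 _ eQ]
    rcases b1 x (Or.inr eQ) with h | h
    · rw [h, c3_fst ha.symm hb.symm]
    · rw [a2 _ h, c3_other (ne_of_mem_of_not_mem h hQ) (ne_of_mem_of_not_mem h (hPQ _ au)) (b.injective.ne e)]
  rw [hc x e eP eQ]
  have o1 : a x ∉ {y | y = u ∨ y ∈ P} := out a _ a1 x (by rintro (h | h); exacts [e h, eP h])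
  have o2 : a x ∉ Q := fun h => eQ (by rw [← a.injective (a2 _ h)]; exact h)
  have o3 : b (a x) ∉ {y | y = u ∨ y ∈ Q} := out b _ b1 _ (by rintro (h | h); exacts [o1 (Or.inl h), o2 h])
  have o4 : b (a x) ∉ P := fun h => o1 (Or.inr (by rw [← b.injective (b2 _ h)]; exact h))
  rw [c3_other (fun e => o3 (Or.inl e)) (fun e => o4 (e ▸ au)) (fun e => o3 (Or.inr (e ▸ bu)))]

/-- an even permutation moving `P` into `T` -/
theorem exists_move {P T : Finset Ω} (hd : ∀ x ∈ P, x ∉ T) (hc : P.card ≤ T.card) (h2 : 2 ≤ P.card) :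
    ∃ σ : Perm Ω, sign σ = 1 ∧ Sup σ (P ∪ T : Finset Ω) ∧ ∀ x ∈ P, σ x ∈ T := by
  classical
  obtain ⟨j⟩ : Nonempty (P ↪ T) := Function.Embedding.nonempty_of_card_le (by simpa using hc)
  let g : {x // x ∉ T} → Ω := fun x => if h : x.1 ∈ P then (j ⟨x.1, h⟩ : Ω) else x.1
  have hg : Function.Injective g := by
    rintro ⟨x, hx⟩ ⟨y, hy⟩ h
    simp only [g] at h
    split_ifs at h with h1 h2 h2
    · have := j.injective (Subtype.ext h)
      exact Subtype.ext (congrArg (fun t : P => (t : Ω)) this)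
    · exact absurd (h ▸ (j ⟨x, h1⟩).2) hy
    · exact absurd (h ▸ (j ⟨y, h2⟩).2) hx
    · exact Subtype.ext h
  obtain ⟨σ, hσ⟩ := Equiv.Perm.exists_extending_pair (fun x : {x // x ∉ T} => (x : Ω)) g Subtype.val_injective hg
  have s1 : Sup σ (P ∪ T : Finset Ω) := by
    intro x hx
    simp only [Finset.coe_union, Set.mem_union, Finset.mem_coe, not_or] at hx
    have := hσ ⟨x, hx.2⟩
    simpa [g, hx.1] using this
  have s2 : ∀ x ∈ P, σ x ∈ T := by
    intro x hx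
    have := hσ ⟨x, hd x hx⟩
    simp only [g, dif_pos hx] at this
    rw [this]
    exact (j ⟨x, hx⟩).2
  rcases Int.units_eq_one_or (sign σ) with e | e
  · exact ⟨σ, e, s1, s2⟩
  · obtain ⟨a, ha, b, hb, hab⟩ := Finset.one_lt_card.1 h2
    refine ⟨σ * swap a b, by rw [Perm.sign_mul, e, sign_swap hab]; decide,
      s1.mul (sup_swap (by simp [ha]) (by simp [hb])), fun x hx => ?_⟩
    rw [mul_apply]
    exact s2 _ ((sup_swap (S := (P : Set Ω)) ha hb).mem hx)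

end Cfsg.Agent.TwoF.Alt
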