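import Cfsg.Agent.TwoF.Alt.Frame
import Cfsg.Agent.OddOrderLocal.Rank

/-!
# Elementary abelian 2-groups of permutations
-/

set_option autoImplicit false

namespace Cfsg.Agent.TwoF.Alt

open Equiv Equiv.Perm Gen H189.Cyc

variable {Ω : Type} [Fintype Ω] [DecidableEq Ω] {Y : Type} [Group Y] {ψ : Y →* Perm Ω} {A : Subgroup Y} {r : ℕ}
  {a b : Y} {u v : Ω}

/-- the involution `a` is not a transposition -/
def Big (ψ : Y →* Perm Ω) (a : Y) : Prop := ∃ u x, ψ a u ≠ u ∧ ψ a x ≠ x ∧ x ≠ u ∧ x ≠ ψ a u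

omit [Fintype Ω] [DecidableEq Ω] in
theorem app_app (ha : a * a = 1) (u : Ω) : ψ a (ψ a u) = u := by
  rw [← Perm.mul_apply, ← map_mul, ha, map_one, Perm.one_apply]

omit [Fintype Ω] [DecidableEq Ω] in
theorem app_comm (h : a * b = b * a) (u : Ω) : ψ a (ψ b u) = ψ b (ψ a u) := by
  rw [← Perm.mul_apply, ← map_mul, h, map_mul, Perm.mul_apply]

omit [Fintype Ω] in
theorem big_or_swap (ha : a * a = 1) (hu : ψ a u ≠ u) : Big ψ a ∨ ψ a = swap u (ψ a u) := by
  by_cases h : Big ψ a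
  · exact Or.inl h
  refine Or.inr (Equiv.ext fun x => ?_)
  by_cases h1 : x = u
  · rw [h1, swap_apply_left]
  by_cases h2 : x = ψ a u
  · rw [h2, swap_apply_right, app_app ha]
  rw [swap_apply_of_ne_of_ne h1 h2]
  by_contra h3
  exact h ⟨u, x, hu, h3, h1, h2⟩

omit [Fintype Ω] [DecidableEq Ω] in
theorem exists_moved {σ : Perm Ω} (h : σ ≠ 1) : ∃ u, σ u ≠ u := not_forall.1 fun e => h (Equiv.ext e)

theorem big_of_even (ha : a * a = 1) (h1 : ψ a ≠ 1) (hs : sign (ψ a) = 1) : Big ψ a := by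
  obtain ⟨u, hu⟩ := exists_moved h1
  refine (big_or_swap ha hu).resolve_right fun e => ?_
  rw [e, sign_swap hu.symm] at hs
  exact absurd hs (by decide)

theorem dvd_card_of_inv {d : ℕ} (S : Finset Ω) (hS : ∀ x ∈ S, orb ψ A x ⊆ S) (h : ∀ u ∈ S, d ∣ (orb ψ A u).card) :
    d ∣ S.card := by
  induction S using Finset.strongInduction with
  | H S ih =>
    rcases S.eq_empty_or_nonempty with rfl | ⟨u, hu⟩
    · simp
    rw [← Finset.card_sdiff_add_card_eq_card (hS u hu)]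
    refine dvd_add (ih _ (Finset.sdiff_ssubset (hS u hu) ⟨u, self_mem_orb A u⟩) (fun x hx y hy => ?_)
      fun x hx => h x (Finset.mem_sdiff.1 hx).1) (h u hu)
    rw [Finset.mem_sdiff] at hx ⊢
    refine ⟨hS x hx.1 hy, fun h3 => hx.2 ?_⟩
    rw [← orb_eq h3, orb_eq hy]
    exact self_mem_orb A x

theorem two_le_orb (hb : b ∈ A) (hu : ψ b u ≠ u) : 2 ≤ (orb ψ A u).card :=
  Finset.one_lt_card.2 ⟨_, mem_orb.2 ⟨b, hb, rfl⟩, _, self_mem_orb A u, hu⟩

theorem exists_of_two_le (h : 2 ≤ (orb ψ A u).card) : ∃ b ∈ A, ψ b u ≠ u := by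
  by_contra hc
  push Not at hc
  exact not_mem_fix h (self_mem_orb A u) (mem_fix.2 hc)

/-- an elementary abelian group of order `2 ^ r` that acts faithfully -/
structure EA (ψ : Y →* Perm Ω) (A : Subgroup Y) (r : ℕ) : Prop where
  el : IsElementaryAbelian 2 A
  inj : ∀ a ∈ A, ψ a = 1 → a = 1
  card : Nat.card A = 2 ^ r

namespace EA

variable (E : EA ψ A r)
include E

omit [Fintype Ω] [DecidableEq Ω] in
theorem comm : ∀ a ∈ A, ∀ b ∈ A, a * b = b * a := fun _ ha _ hb => elemAb_comm E.el ha hb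

omit [Fintype Ω] [DecidableEq Ω] in
theorem sq (ha : a ∈ A) : a * a = 1 := (pow_two a).symm.trans (E.el.2 a ha)

omit [Fintype Ω] [DecidableEq Ω] in
theorem of_le {B : Subgroup Y} {s : ℕ} (h : B ≤ A) (hc : Nat.card B = 2 ^ s) : EA ψ B s :=
  ⟨⟨⟨⟨fun a b => Subtype.ext (E.comm a (h a.2) b (h b.2))⟩⟩, fun a ha => E.el.2 a (h ha)⟩,
    fun a ha => E.inj a (h ha), hc⟩

theorem stab (u : Ω) : ∃ j ≤ r, (orb ψ A u).card = 2 ^ j ∧ EA ψ (stb ψ A u) (r - j) :=
  (card_orb_pow Nat.prime_two E.card u).imp fun _ h => ⟨h.1, h.2.1, E.of_le (stb_le A u) h.2.2⟩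

omit [Fintype Ω] [DecidableEq Ω] in
theorem exists_ne (h : 0 < r) : ∃ a ∈ A, ∃ u, ψ a u ≠ u := by
  have : Finite A := Nat.finite_of_card_ne_zero (by rw [E.card]; positivity)
  have h1 : A ≠ ⊥ := fun e => by
    have := E.card
    rw [e, Subgroup.card_bot] at this
    have := Nat.one_lt_two_pow h.ne'
    omega
  obtain ⟨⟨a, ha⟩, h2⟩ := Subgroup.ne_bot_iff_exists_ne_one.1 h1
  exact ⟨a, ha, exists_moved fun e => h2 (Subtype.ext (E.inj a ha e))⟩

theorem fix_stb (h : 2 ≤ (orb ψ A u).card) : (orb ψ A u).card + (fix ψ A).card ≤ (fix ψ (stb ψ A u)).card := by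
  rw [← Finset.card_union_of_disjoint (Finset.disjoint_left.2 fun x hx => not_mem_fix h hx)]
  exact Finset.card_le_card (Finset.union_subset (orb_subset_fix E.comm u) (fix_anti (stb_le A u)))

omit E in
/-- the rank -/
theorem rk (E : EA ψ A r) : 2 * r + (fix ψ A).card ≤ Fintype.card Ω := by
  induction r using Nat.strong_induction_on generalizing A with
  | _ r ih =>
    rcases Nat.eq_zero_or_pos r with rfl | h
    · simpa using Finset.card_le_univ _
    obtain ⟨a, ha, u, hu⟩ := E.exists_ne h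
    obtain ⟨j, hj, e, E'⟩ := E.stab u
    have h1 := two_le_orb ha hu
    have h2 := E.fix_stb h1
    have h3 : j ≠ 0 := fun e' => by rw [e, e'] at h1; omega
    have h4 := ih _ (by omega) E'
    have h5 : 2 * j ≤ 2 ^ j := by
      obtain ⟨i, rfl⟩ := Nat.exists_eq_succ_of_ne_zero h3
      have := Nat.lt_two_pow_self (n := i)
      rw [pow_succ]; omega
    omega

theorem exists_big (h : 2 ≤ r) : ∃ a ∈ A, Big ψ a := by
  by_contra hc
  have h1 : Function.Injective ((sign.comp ψ).comp A.subtype) := (injective_iff_map_eq_one _).2 fun a ha => by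
    by_contra h2
    exact hc ⟨a, a.2, big_of_even (E.sq a.2) (fun e => h2 (Subtype.ext (E.inj a a.2 e))) ha⟩
  have h2 := Nat.card_le_card_of_injective _ h1
  rw [E.card, Nat.card_eq_fintype_card, Fintype.card_units_int] at h2
  have := Nat.pow_le_pow_right (n := 2) (by norm_num) h
  omega

theorem of_two (h : (orb ψ A u).card = 2) : 1 ≤ r ∧ EA ψ (stb ψ A u) (r - 1) := by
  obtain ⟨j, hj, e, E'⟩ := E.stab u
  obtain rfl : j = 1 := Nat.pow_right_injective le_rfl (e.symm.trans h)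
  exact ⟨hj, E'⟩

theorem orb_swap (ha : a ∈ A) (huv : u ≠ v) (h : ψ a = swap u v) : (orb ψ A u).card = 2 := by
  have h1 : ψ a u ≠ u := by rw [h, swap_apply_left]; exact huv.symm
  refine le_antisymm ((Finset.card_le_card (t := {u, v}) fun x hx => ?_).trans Finset.card_le_two) (two_le_orb ha h1)
  have h2 := move_orb E.comm hx ha h1
  rw [h] at h2
  by_contra h3
  simp only [Finset.mem_insert, Finset.mem_singleton, not_or] at h3
  exact h2 (swap_apply_of_ne_of_ne h3.1 h3.2)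

/-- an odd involution gives an orbit of length two -/
theorem orb_odd (ha : a ∈ A) (hs : sign (ψ a) ≠ 1) : ∃ u, (orb ψ A u).card = 2 := by
  by_contra hc
  push Not at hc
  have h1 : 4 ∣ (ψ a).support.card := dvd_card_of_inv (ψ := ψ) (A := A) _
    (fun x hx y hy => mem_support.2 (move_orb E.comm hy ha (mem_support.1 hx))) fun x hx => by
      obtain ⟨j, -, e, -⟩ := E.stab x
      have h2 := two_le_orb ha (mem_support.1 hx)
      have h3 := hc x
      rw [e] at h2 h3 ⊢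
      rcases j with _ | _ | j
      · omega
      · omega
      · exact ⟨2 ^ j, by ring⟩
  have h2 : ψ a ^ 2 = 1 := by rw [← map_pow, E.el.2 a ha, map_one]
  rw [sign_of_pow_two_eq_one h2, card_fixedPoints, sum_cycleType, Nat.sub_sub_self (Finset.card_le_univ _)] at hs
  obtain ⟨m, e⟩ := h1
  rw [e, show 4 * m / 2 = 2 * m by omega, pow_mul] at hs
  exact hs (by simp)

/-- an even group with an orbit of length two has smaller rank -/
theorem rk_even (hs : ∀ a ∈ A, sign (ψ a) = 1) (h : (orb ψ A u).card = 2) : 2 * (r + 1) ≤ Fintype.card Ω := by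
  obtain ⟨b, hb, hu⟩ := exists_of_two_le h.ge
  have h1 : orb ψ A u = {u, ψ b u} := (Finset.eq_of_subset_of_card_le (Finset.insert_subset (self_mem_orb A u)
    (Finset.singleton_subset_iff.2 (mem_orb.2 ⟨b, hb, rfl⟩))) (by rw [h, Finset.card_pair hu.symm])).symm
  have h2 : IsElementaryAbelian 2 (A.map ψ ⊔ Subgroup.zpowers (swap u (ψ b u)) : Subgroup (Perm Ω)) := by
    refine OddOrderLocal.Rank.elemAb_sup (elemAb_map E.el ψ) (elemAb_zpowers (by rw [pow_two, swap_mul_self])) ?_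
    rintro _ ⟨a, ha, rfl⟩ _ ⟨m, rfl⟩
    refine Commute.zpow_right ?_ m
    show _ * _ = _
    rw [← mul_inv_eq_iff_eq_mul, ← swap_apply_apply, app_comm (E.comm a ha b hb)]
    have h3 : ψ a u ∈ orb ψ A u := mem_orb.2 ⟨a, ha, rfl⟩
    rw [h1, Finset.mem_insert, Finset.mem_singleton] at h3
    rcases h3 with e | e
    · rw [e]
    · rw [e, app_app (E.sq hb), swap_comm]
  obtain ⟨s, e⟩ := IsPGroup.iff_card.1 (elemAb_isPGroup h2)
  have h3 := rk (ψ := MonoidHom.id _) ⟨h2, fun _ _ e => e, e⟩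
  have h4 : Nat.card (A.map ψ) = 2 ^ r := by
    rw [← E.card]
    exact (Nat.card_congr (Equiv.ofBijective (ψ.subgroupMap A) ⟨(injective_iff_map_eq_one _).2 fun a ha =>
      Subtype.ext (E.inj a a.2 (congrArg Subtype.val ha)), ψ.subgroupMap_surjective A⟩)).symm
  by_contra hc
  have h5 := Subgroup.eq_of_le_of_card_ge (le_sup_left : A.map ψ ≤ A.map ψ ⊔ Subgroup.zpowers (swap u (ψ b u)))
    (by rw [e, h4]; exact Nat.pow_le_pow_right (by norm_num) (by omega))
  obtain ⟨a, ha, e'⟩ : swap u (ψ b u) ∈ A.map ψ := h5 ▸ Subgroup.mem_sup_right (Subgroup.mem_zpowers _)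
  have := hs a ha
  rw [e', sign_swap hu.symm] at this
  exact absurd this (by decide)

/-- a moved point that is fixed by a large involution -/
theorem pair (h : 3 ≤ r) : (∃ b ∈ A, ∃ u, ψ b u ≠ u ∧ ∃ a ∈ A, ψ a u = u ∧ Big ψ a) ∨
    ∀ u, 2 ≤ (orb ψ A u).card → (orb ψ A u).card = 2 ^ r := by
  refine or_iff_not_imp_right.2 fun hc => ?_
  push Not at hc
  obtain ⟨u, h1, h2⟩ := hc
  obtain ⟨b, hb, hu⟩ := exists_of_two_le h1
  obtain ⟨j, hj, e, E'⟩ := E.stab u
  obtain ⟨a, ha, x, hx⟩ := E'.exists_ne (Nat.sub_pos_of_lt (hj.lt_of_ne fun e' => h2 (e' ▸ e)))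
  rcases big_or_swap (E.sq ha.1) hx with h3 | h3
  · exact ⟨b, hb, u, hu, a, ha.1, ha.2, h3⟩
  · obtain ⟨c, hc, h4⟩ := (E.of_two (E.orb_swap ha.1 hx.symm h3)).2.exists_big (by omega)
    exact ⟨a, ha.1, x, hx, c, hc.1, hc.2, h4⟩

/-- the three cases -/
theorem cases (h : 0 < r) (h3 : 3 ≤ Fintype.card Ω) : (∃ a ∈ A, Big ψ a ∧ ∃ w, ψ a w = w) ∨
    (r ≤ 2 ∧ ∃ a ∈ A, ∃ u w, ψ a u ≠ u ∧ ψ a w = w) ∨ (2 ^ r ∣ Fintype.card Ω ∧ ∃ a ∈ A, Big ψ a) := by
  by_cases h1 : ∃ a ∈ A, ∃ u w, ψ a u ≠ u ∧ ψ a w = w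
  · by_cases h2 : r ≤ 2
    · exact Or.inr (Or.inl ⟨h2, h1⟩)
    obtain ⟨a, ha, u, w, hu, hw⟩ := h1
    rcases big_or_swap (E.sq ha) hu with h4 | h4
    · exact Or.inl ⟨a, ha, h4, w, hw⟩
    · obtain ⟨c, hc, h5⟩ := (E.of_two (E.orb_swap ha hu.symm h4)).2.exists_big (by omega)
      exact Or.inl ⟨c, hc.1, h5, u, hc.2⟩
  refine Or.inr (Or.inr ⟨dvd_card (ψ := ψ) (A := A) fun w => ?_, ?_⟩)
  · obtain ⟨j, hj, e, E'⟩ := E.stab w
    rcases hj.eq_or_lt with rfl | hj
    · rw [e]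
    · obtain ⟨a, ha, u, hu⟩ := E'.exists_ne (Nat.sub_pos_of_lt hj)
      exact (h1 ⟨a, ha.1, u, w, hu, ha.2⟩).elim
  · obtain ⟨a, ha, u, hu⟩ := E.exists_ne h
    refine ⟨a, ha, (big_or_swap (E.sq ha) hu).resolve_right fun e => ?_⟩
    obtain ⟨w, -, hw⟩ := Finset.exists_mem_notMem_of_card_lt_card (s := {u, ψ a u}) (t := Finset.univ)
      (Finset.card_le_two.trans_lt (by rw [Finset.card_univ]; omega))
    simp only [Finset.mem_insert, Finset.mem_singleton, not_or] at hw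
    exact h1 ⟨a, ha, u, w, hu, by rw [e, swap_apply_of_ne_of_ne hw.1 hw.2]⟩

/-- a fixed point in odd degree -/
theorem exists_fix (h : ¬ 2 ∣ Fintype.card Ω) : ∃ w, w ∈ fix ψ A :=
  (exists_small_orb (ψ := ψ) (j := 0) Nat.prime_two E.card (by simpa using h)).imp fun _ h => mem_fix_of_card h.2

end EA

end Cfsg.Agent.TwoF.Alt
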