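import Cfsg.Agent.TwoF.Gen.ASmall
import Cfsg.Agent.StdAlt.Six.AutLemmas
import Cfsg.Agent.Mrg.Omega.TwoF.AltRk

/-!
# TwoF, `A₆`: elementary abelian 2-subgroups of `Aut A₆`
-/

set_option autoImplicit false

namespace Cfsg.Agent.TwoF.Alt.Six

open Gen Equiv Cfsg.Agent.StdAlt.Six

/-- conjugation by a permutation -/
def θ : Perm (Fin 6) →* MulAut A6 := MulAut.conjNormal

theorem θ_val (σ : Perm (Fin 6)) (x : A6) : (θ σ x : Perm (Fin 6)) = σ * x * σ⁻¹ := rfl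

theorem ns_iff {α : MulAut A6} : NS α ↔ α ∈ θ.range :=
  ⟨fun ⟨σ, h⟩ => ⟨σ, MulEquiv.ext fun x => Subtype.ext (h x).symm⟩, fun ⟨σ, h⟩ => ⟨σ, fun x => h ▸ θ_val σ x⟩⟩

theorem cent_aux : ∀ σ : Perm (Fin 6), σ * c0 * σ⁻¹ = c0 → σ * f0 * σ⁻¹ = f0 → σ * d0 * σ⁻¹ = d0 → σ = 1 := by
  decide +kernel

theorem θ_inj : Function.Injective θ := (injective_iff_map_eq_one θ).2 fun σ h =>
  cent_aux σ (by rw [← show (C0 : Perm (Fin 6)) = c0 from rfl, ← θ_val, h]; rfl)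
    (by rw [← show (F0 : Perm (Fin 6)) = f0 from rfl, ← θ_val, h]; rfl)
    (by rw [← show (D0 : Perm (Fin 6)) = d0 from rfl, ← θ_val, h]; rfl)

theorem θ_coe (x : A6) : θ x = MulAut.conj x := MulEquiv.ext fun _ => Subtype.ext rfl

theorem conj_inj : Function.Injective (MulAut.conj : A6 →* MulAut A6) := fun x y h =>
  Subtype.ext (θ_inj (by rw [θ_coe, θ_coe, h]))

theorem fix_of_comm {α : MulAut A6} {x : A6} (h : α * MulAut.conj x = MulAut.conj x * α) : α x = x :=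
  conj_inj (MulEquiv.ext fun y => by
    have h1 := congrArg (fun β : MulAut A6 => β (α⁻¹ y)) h
    simpa using h1)

/-- an involution induced by a permutation that commutes with an automorphism of the other kind is inner -/
theorem inner_of_comm {α β : MulAut A6} (hα : ¬ NS α) (hβ : NS β) (h2 : β * β = 1) (h : α * β = β * α) :
    ∃ x : A6, β = MulAut.conj x := by
  obtain ⟨σ, rfl⟩ := ns_iff.1 hβ
  rcases Int.units_eq_one_or (Perm.sign σ) with h1 | h1
  · exact ⟨⟨σ, Perm.mem_alternatingGroup.2 h1⟩, θ_coe ⟨σ, Perm.mem_alternatingGroup.2 h1⟩⟩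
  · refine (hα (ns_of_odd h1 (θ_inj (by rw [map_mul, h2, map_one])) fun x hx => ?_)).elim
    have h3 : θ σ x = x := Subtype.ext (by rw [θ_val, ← hx, mul_inv_cancel_right])
    have h4 : θ σ (α x) = α x := by
      have := congrArg (fun β : MulAut A6 => β x) h
      simp only [MulAut.mul_apply, h3] at this
      exact this.symm
    have h5 := congrArg Subtype.val h4
    rw [θ_val, mul_inv_eq_iff_eq_mul] at h5
    exact h5.symm

theorem not_ns_conj {α : MulAut A6} (hα : ¬ NS α) (w : A6) : ¬ NS (MulAut.conj w * α * (MulAut.conj w)⁻¹) :=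
  not_ns_mul_right (not_ns_mul_left (NS.conj w) hα) (NS.conj w).inv

theorem conj_apply' (α : MulAut A6) (w x : A6) :
    (MulAut.conj w * α * (MulAut.conj w)⁻¹) (w * x * w⁻¹) = w * α x * w⁻¹ := by
  simp [mul_assoc]

/-- an automorphism of the other kind fixes no four-group pointwise -/
theorem eq_of_fix {α : MulAut A6} (hα : ¬ NS α) {x y : A6} (hx : x * x = 1) (hx1 : x ≠ 1) (hy : y * y = 1)
    (hy1 : y ≠ 1) (hxy : y * x = x * y) (h1 : α x = x) (h2 : α y = y) : y = x := by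
  by_contra hne
  obtain ⟨w, hw⟩ := exists_conj_Z0 hx hx1
  have h3 := conj_apply' α w x
  have h4 := conj_apply' α w y
  rw [h1, hw] at h3
  rw [h2] at h4
  have h5 := not_ns_conj hα w
  generalize MulAut.conj w * α * (MulAut.conj w)⁻¹ = β at h3 h4 h5
  have h6 : ∀ a : A6, β (a * Z0) = a * Z0 → β a = a := fun a h => by rwa [map_mul, h3, mul_left_inj] at h
  rcases cases_inv (w := w * y * w⁻¹) (by rw [← hw, conj_mul, conj_mul, hxy]) (by rw [conj_mul, hy]; simp)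
    (fun e => hy1 (conj_eq_one_iff.1 e)) (fun e => hne (by rwa [← hw, mul_left_inj, mul_right_inj] at e)) with
    h | h | h | h <;> rw [h] at h4
  · exact h5 (ns_of_a0 h3 (Or.inl h4))
  · exact h5 (ns_of_a0 h3 (Or.inl (h6 _ h4)))
  · exact h5 (ns_of_b0 h3 (Or.inl h4))
  · exact h5 (ns_of_b0 h3 (Or.inl (h6 _ h4)))

theorem exists_t {α : MulAut A6} (hα : ¬ NS α) (h2 : α * α = 1) {x : A6} (hx : x * x = 1) (hx1 : x ≠ 1)
    (h1 : α x = x) : ∃ t : A6, t * t = 1 ∧ t * x = x * t ∧ α t * t⁻¹ * (α t * t⁻¹) = x := by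
  obtain ⟨w, hw⟩ := exists_conj_Z0 hx hx1
  have h3 := conj_apply' α w x
  rw [h1, hw] at h3
  obtain ⟨f, h4, h5, -, -⟩ := exists_f h3 (not_ns_conj hα w) fun y => by
    rw [← MulAut.mul_apply, conj_mul, h2]; simp
  have h6 := conj_apply' α w (w⁻¹ * A0 * w)
  rw [show w * (w⁻¹ * A0 * w) * w⁻¹ = A0 by group] at h6
  rw [h6] at h4
  have h7 : x = w⁻¹ * Z0 * w := by rw [← hw]; group
  refine ⟨w⁻¹ * A0 * w, ?_, ?_, ?_⟩
  · calc w⁻¹ * A0 * w * (w⁻¹ * A0 * w) = w⁻¹ * (A0 * A0) * w := by group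
      _ = 1 := by rw [A0_sq]; group
  · rw [h7]
    calc w⁻¹ * A0 * w * (w⁻¹ * Z0 * w) = w⁻¹ * (A0 * Z0) * w := by group
      _ = _ := by rw [A0_Z0]; group
  · have h8 : α (w⁻¹ * A0 * w) * (w⁻¹ * A0 * w)⁻¹ = w⁻¹ * f⁻¹ * w := by rw [h4]; group
    rw [h8, h7]
    calc w⁻¹ * f⁻¹ * w * (w⁻¹ * f⁻¹ * w) = w⁻¹ * (f * f)⁻¹ * w := by group
      _ = _ := by rw [h5, inv_eq_of_mul_eq_one_right Z0_sq]

theorem card_inv : Fintype.card {x : A6 // x * x = 1 ∧ x ≠ 1} = 45 := by decide +kernel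

theorem exists_fix {α : MulAut A6} (h2 : α * α = 1) : ∃ x : A6, x * x = 1 ∧ x ≠ 1 ∧ α x = x := by
  have := Fact.mk Nat.prime_two
  obtain ⟨x, hx⟩ := Perm.exists_fixed_point_of_prime (p := 2) (n := 1) (by rw [card_inv]; norm_num)
    (σ := Perm.subtypePerm (p := fun x : A6 => x * x = 1 ∧ x ≠ 1) α.toEquiv fun x => by
      change α x * α x = 1 ∧ α x ≠ 1 ↔ _
      rw [← map_mul, map_eq_one_iff _ α.injective, map_ne_one_iff _ α.injective])
    (by
      ext x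
      exact congrArg (fun β : MulAut A6 => ((β x : A6) : Perm (Fin 6)) _ : MulAut A6 → ℕ) h2)
  exact ⟨x, x.2.1, x.2.2, congrArg Subtype.val hx⟩

theorem sq_of {Y : Type*} [Group Y] {E : Subgroup Y} (hE : IsElementaryAbelian 2 E) {a : Y} (ha : a ∈ E) :
    a * a = 1 := by rw [← sq]; exact hE.2 a ha

theorem card_le_four {E : Subgroup (MulAut A6)} (hE : IsElementaryAbelian 2 E) {α : MulAut A6} (ha : α ∈ E)
    (hα : ¬ NS α) : Nat.card E ≤ 4 := by
  classical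
  have h1 : ∀ β ∈ E, NS β → ∃ x : A6, β = MulAut.conj x ∧ x * x = 1 ∧ α x = x := fun β hb hβ => by
    obtain ⟨x, rfl⟩ := inner_of_comm hα hβ (sq_of hE hb) (elemAb_comm hE ha hb)
    exact ⟨x, rfl, conj_inj (by rw [map_mul, sq_of hE hb, map_one]), fix_of_comm (elemAb_comm hE ha hb)⟩
  obtain ⟨γ, hγ⟩ : ∃ γ : MulAut A6, ∀ β ∈ E, NS β → β = 1 ∨ β = γ := by
    by_cases h : ∃ γ ∈ E, NS γ ∧ γ ≠ 1
    · obtain ⟨γ, h2, h3, h4⟩ := h
      obtain ⟨x, rfl, h5, h6⟩ := h1 γ h2 h3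
      refine ⟨MulAut.conj x, fun β hb hβ => or_iff_not_imp_left.2 fun h7 => ?_⟩
      obtain ⟨y, rfl, h8, h9⟩ := h1 β hb hβ
      rw [eq_of_fix hα h5 (fun e => h4 (by rw [e, map_one])) h8 (fun e => h7 (by rw [e, map_one]))
        (conj_inj (by rw [map_mul, map_mul, elemAb_comm hE hb h2])) h6 h9]
    · exact ⟨1, fun β hb hβ => Or.inl (by by_contra h2; exact h ⟨β, hb, hβ, h2⟩)⟩
  have h2 : (E : Set (MulAut A6)) ⊆ ({1, γ, α⁻¹, γ * α⁻¹} : Finset (MulAut A6)) := fun β hb => by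
    simp only [Finset.coe_insert, Finset.coe_singleton, Set.mem_insert_iff, Set.mem_singleton_iff]
    by_cases h : NS β
    · rcases hγ β hb h with h3 | h3
      · exact Or.inl h3
      · exact Or.inr (Or.inl h3)
    · rcases hγ _ (mul_mem hb ha) (NS.mul_of_not h hα) with h3 | h3
      · exact Or.inr (Or.inr (Or.inl (eq_inv_of_mul_eq_one_left h3)))
      · exact Or.inr (Or.inr (Or.inr (eq_mul_inv_of_mul_eq h3)))
  refine (Nat.card_mono (Finset.finite_toSet _) h2).trans ?_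
  rw [Nat.card_coe_set_eq, Set.ncard_coe_finset]
  exact Finset.card_le_four

theorem card_le_eight (E : Subgroup (MulAut A6)) (hE : IsElementaryAbelian 2 E) : Nat.card E ≤ 8 := by
  by_cases h : ∃ α ∈ E, ¬ NS α
  · obtain ⟨α, ha, hα⟩ := h
    exact (card_le_four hE ha hα).trans (by norm_num)
  · have h1 : E ≤ θ.range := fun α ha => ns_iff.1 (by by_contra h1; exact h ⟨α, ha, h1⟩)
    rw [← Subgroup.map_comap_eq_self h1, Subgroup.card_map_of_injective θ_inj]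
    exact Omega.TwoF.AltRk.card_le _ fun x hx => θ_inj (by rw [map_mul, sq_of hE hx, map_one])

theorem row88 : Row88 2 A6 := row88_of_rank card_le_eight

end Cfsg.Agent.TwoF.Alt.Six
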