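import Cfsg.Agent.TwoF.Gen.ASmall
import Cfsg.Agent.TwoF.Gen.BPerm

/-!
# TwoF, `A₆`: irreducible `𝔽₂ S₆`-modules

`S₆ = Sp₄(2)`: either `(0 2)(1 3)` has codimension at most two, or every non-trivial 2-subgroup has codimension at
least eight (`six`).  The proof is the trichotomy of the 0-Hecke algebra on the fixed vectors of a Sylow 2-subgroup.
-/

set_option autoImplicit false

namespace Cfsg.Agent.TwoF.Alt.Six

open Module Gen Equiv

abbrev G := Perm (Fin 6)

/-- a product of transpositions -/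
def W (l : List (Fin 6 × Fin 6)) : G := l.foldr (fun x g => swap x.1 x.2 * g) 1

def t : G := W [(4, 5)]
def s : G := W [(0, 1), (2, 3), (4, 5)]
def c : G := W [(0, 1), (1, 2)]
def d : G := W [(0, 2), (2, 4), (1, 3), (3, 5)]
def z : G := W [(0, 2), (1, 3)]

def code (g : G) : ℕ :=
  (g 0).val + 6 * ((g 1).val + 6 * ((g 2).val + 6 * ((g 3).val + 6 * ((g 4).val + 6 * (g 5).val))))

theorem code_lt (g : G) : code g < 46656 := by
  unfold code; omega

theorem code_inj {g h : G} (e : code g = code h) : g = h := by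
  unfold code at e
  ext i
  fin_cases i <;> simp only [Fin.zero_eta, Fin.mk_one, Fin.reduceFinMk] <;> omega

def key (x g : G) : ℕ := code (g * x * g⁻¹)

def keyB (g : G) : ℕ := key t g + 46656 * key s g

theorem comm_of_key {x g h : G} (e : key x g = key x h) : h⁻¹ * g * x = x * (h⁻¹ * g) := by
  have h1 := code_inj e
  calc h⁻¹ * g * x = h⁻¹ * (g * x * g⁻¹) * g := by group
    _ = x * (h⁻¹ * g) := by rw [h1]; group

/-- insert or delete -/
def tog (a : ℕ) (l : List ℕ) : List ℕ :=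
  List.rec (motive := fun _ => List ℕ) [a] (fun b l r => cond (Nat.beq a b) l (b :: r)) l

/-- every entry occurs an even number of times -/
def ev (l : List ℕ) : Bool := (l.foldr tog []).isEmpty

theorem sum_tog {V : Type*} [AddCommGroup V] (h2 : ∀ x : V, x + x = 0) (F : ℕ → V) (a : ℕ) (l : List ℕ) :
    ((tog a l).map F).sum = F a + (l.map F).sum := by
  induction l with
  | nil => rfl
  | cons b l ih =>
    change ((cond (Nat.beq a b) l (b :: tog a l)).map F).sum = _
    cases h : Nat.beq a b with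
    | true => rw [cond_true, Nat.eq_of_beq_eq_true h, List.map_cons, List.sum_cons, ← add_assoc, h2, zero_add]
    | false => rw [cond_false, List.map_cons, List.sum_cons, ih, List.map_cons, List.sum_cons, add_left_comm]

theorem sum_ev {V α : Type*} [AddCommGroup V] (h2 : ∀ x : V, x + x = 0) (f : α → V) (k : α → ℕ)
    (hk : ∀ g h, k g = k h → f g = f h) (L : List α) (h : ev (L.map k) = true) : (L.map f).sum = 0 := by
  classical
  let F : ℕ → V := fun n => if h : ∃ g, k g = n then f h.choose else 0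
  have hF : ∀ g, F (k g) = f g := fun g => by
    have h1 : ∃ g', k g' = k g := ⟨g, rfl⟩
    simp only [F, dif_pos h1]
    exact hk _ _ h1.choose_spec
  have h1 : ∀ l : List ℕ, ((l.foldr tog []).map F).sum = (l.map F).sum := fun l => by
    induction l with
    | nil => rfl
    | cons a l ih => rw [List.foldr_cons, sum_tog h2, ih, List.map_cons, List.sum_cons]
  have h3 := h1 (L.map k)
  rw [List.isEmpty_iff.1 h, List.map_map] at h3
  rw [show f = F ∘ k from funext fun g => (hF g).symm, ← h3]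
  rfl

/-- all products -/
def pl (A B : List G) : List G := A.flatMap fun a => B.map (a * ·)

def BL : List G :=
  List.map W [[], [(4, 5)], [(2, 3)], [(2, 3), (4, 5)], [(0, 1)], [(0, 1), (4, 5)], [(0, 1), (2, 3)],
    [(0, 1), (2, 3), (4, 5)], [(0, 2), (1, 3)], [(0, 2), (1, 3), (4, 5)], [(0, 2), (1, 3), (2, 3)],
    [(0, 2), (1, 3), (2, 3), (4, 5)], [(0, 3), (1, 2), (2, 3)], [(0, 3), (1, 2), (2, 3), (4, 5)],
    [(0, 3), (1, 2)], [(0, 3), (1, 2), (4, 5)]]

def E1 : List G := [1, c, c * c]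
def E2 : List G := [1, d, d * d]
def T1 : List G := [c, c * c]
def T2 : List G := [d, d * d]

/-- the Sylow 2-subgroup -/
def B : Subgroup G := Subgroup.centralizer {t} ⊓ Subgroup.centralizer {s}

theorem mem_B {g : G} : g ∈ B ↔ g * t = t * g ∧ g * s = s * g := by
  simp only [B, Subgroup.mem_inf, Subgroup.mem_centralizer_singleton_iff]

theorem BL_all : ∀ g : G, (g * t = t * g ∧ g * s = s * g) ↔ g ∈ BL := by decide +kernel
theorem BL_nodup : BL.Nodup := by decide +kernel
theorem P1_all : ∀ g : G, g * t = t * g → ev ((pl [g] E1 ++ E1).map keyB) = true := by decide +kernel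
theorem P2_all : ∀ g : G, g * s = s * g → ev ((pl [g] E2 ++ E2).map keyB) = true := by decide +kernel
theorem braid : ev ((pl E1 (pl E2 (pl E1 E2)) ++ pl E2 (pl E1 (pl E2 E1))).map keyB) = true := by decide +kernel
theorem cell : ev ((pl T1 (pl T2 (pl T1 T2)) ++ pl BL [c * d * c * d]).map keyB) = true := by decide +kernel
theorem c_t : c * t = t * c ∧ c * c * t = t * (c * c) := by decide +kernel
theorem d_s : d * s = s * d ∧ d * d * s = s * (d * d) := by decide +kernel

theorem gen_all : ∀ i : Fin 5, swap i.castSucc i.succ * t = t * swap i.castSucc i.succ ∨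
    swap i.castSucc i.succ = d * swap 1 2 * d⁻¹ := by decide +kernel

theorem s12 : swap 1 2 * t = t * swap 1 2 := by decide +kernel

theorem mem_BL {g : G} : g ∈ BL.toFinset ↔ g ∈ B := by rw [List.mem_toFinset, mem_B, BL_all]

theorem card_B : Nat.card B = 2 ^ 4 := by
  rw [Nat.subtype_card BL.toFinset fun _ => mem_BL, List.toFinset_card_of_nodup BL_nodup]
  rfl

theorem B_two : IsPGroup 2 B := IsPGroup.of_card card_B

theorem exists_conj_le {A : Subgroup G} (hA : IsPGroup 2 A) : ∃ g : G, A.map (MulAut.conj g).toMonoidHom ≤ B := by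
  have h1 : ¬ 2 ∣ B.index := by
    have h2 := B.card_mul_index
    rw [card_B, Nat.card_perm, Nat.card_eq_fintype_card, Fintype.card_fin] at h2
    norm_num [Nat.factorial] at h2
    omega
  obtain ⟨Q, hQ⟩ := hA.exists_le_sylow
  obtain ⟨g, hg⟩ := MulAction.exists_smul_eq G Q (B_two.toSylow h1)
  refine ⟨g, (Subgroup.map_mono hQ).trans (le_of_eq ?_)⟩
  exact congrArg (fun P : Sylow 2 G => (P : Subgroup G)) hg

/-- certificate that `z g v - g v` lies in the span of two vectors -/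
def crt (x : G) (R : List G) (y₁ y₂ : G) (e : List (Fin 6 × Fin 6) × Bool × Bool × List (List (Fin 6 × Fin 6))) :
    Bool :=
  ev (([z * W e.1, W e.1] ++ (cond e.2.1 [z * y₁, y₁] [] ++ (cond e.2.2.1 [z * y₂, y₂] [] ++
    pl (e.2.2.2.map W) R))).map (key x))

def C1 : List (List (Fin 6 × Fin 6) × Bool × Bool × List (List (Fin 6 × Fin 6))) :=
  [([], false, false, []),
   ([(3, 4)], true, false, []),
   ([(3, 5)], true, false, [[(1, 2), (3, 4)], [(1, 2), (3, 5)]]),
   ([(2, 4)], false, true, []),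
   ([(2, 5)], false, true, [[(3, 4)], [(3, 5)], [(1, 4)], [(1, 5)], [(1, 2), (3, 4)], [(1, 2), (3, 5)]]),
   ([(1, 4)], true, false, []),
   ([(1, 5)], true, false, [[(1, 2), (3, 4)], [(1, 2), (3, 5)]]),
   ([(0, 4)], false, true, []),
   ([(0, 5)], false, true, [[(3, 4)], [(3, 5)], [(1, 4)], [(1, 5)], [(1, 2), (3, 4)], [(1, 2), (3, 5)]]),
   ([(2, 4), (3, 5)], true, true, [[(3, 5)], [(1, 5)], [(1, 2), (3, 4)], [(1, 2), (3, 5)]]),
   ([(1, 4), (3, 5)], false, false, []),
   ([(1, 4), (2, 5)], true, true, [[], [(3, 5)], [(1, 3)], [(1, 5)], [(1, 2), (3, 4)], [(1, 2), (3, 5)]]),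
   ([(0, 4), (3, 5)], true, true, [[], [(3, 5)], [(1, 3)], [(1, 5)], [(1, 2), (3, 4)], [(1, 2), (3, 5)]]),
   ([(0, 4), (2, 5)], false, false, []),
   ([(0, 4), (1, 5)], true, true, [[(3, 5)], [(1, 5)], [(1, 2), (3, 4)], [(1, 2), (3, 5)]])]

def C2 : List (List (Fin 6 × Fin 6) × Bool × Bool × List (List (Fin 6 × Fin 6))) :=
  [([], false, false, []),
   ([(3, 4)], true, false, []),
   ([(3, 5)], true, false, [[(3, 5)], [(2, 5)], [(1, 4)], [(0, 4)]]),
   ([(1, 2)], false, false, []),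
   ([(1, 3)], false, false, []),
   ([(1, 4)], true, false, []),
   ([(1, 5)], true, false, [[(3, 5)], [(2, 5)], [(1, 4)], [(0, 4)]]),
   ([(1, 2), (3, 4)], false, true, []),
   ([(1, 2), (3, 5)], false, true, []),
   ([(1, 3), (3, 4)], true, true, [[(3, 4)], [(1, 4)]]),
   ([(1, 3), (3, 5)], true, true, [[(2, 5)], [(1, 4)], [(1, 5)], [(0, 4)]]),
   ([(1, 4), (2, 4)], false, true, [[(3, 5)], [(2, 4)], [(1, 5)], [(0, 4)]]),
   ([(1, 4), (3, 4)], true, true, [[(3, 4)], [(1, 4)]]),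
   ([(1, 5), (2, 5)], false, true, [[(3, 5)], [(2, 4)], [(1, 5)], [(0, 4)]]),
   ([(1, 5), (3, 5)], true, true, [[(2, 5)], [(1, 4)], [(1, 5)], [(0, 4)]])]

theorem C1_ok : ∀ e ∈ C1, crt t E2 (W [(3, 4)]) (W [(2, 4)]) e = true := by decide +kernel
theorem C2_ok : ∀ e ∈ C2, crt s E1 (W [(3, 4)]) (W [(1, 2), (3, 4)]) e = true := by decide +kernel
theorem C1_all : ∀ g : G, ∃ e ∈ C1, key t g = key t (W e.1) := by decide +kernel
theorem C2_all : ∀ g : G, ∃ e ∈ C2, key s g = key s (W e.1) := by decide +kernel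

variable {V : Type} [AddCommGroup V] [Module (ZMod 2) V] {ρ : Representation (ZMod 2) G V}

theorem add_self (x : V) : x + x = 0 := by
  rw [← two_smul (ZMod 2) x, show (2 : ZMod 2) = 0 from rfl, zero_smul]

theorem eq_of_add {x y : V} (h : x + y = 0) : x = y := by
  rw [← add_zero x, ← add_self y, ← add_assoc, h, zero_add]

/-- the sum of the operators in a list -/
def S (ρ : Representation (ZMod 2) G V) (L : List G) : Module.End (ZMod 2) V := (L.map ρ).sum

theorem S_append (L M : List G) : S ρ (L ++ M) = S ρ L + S ρ M := by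
  unfold S; rw [List.map_append, List.sum_append]

theorem S_cons (g : G) (L : List G) : S ρ (g :: L) = ρ g + S ρ L := by
  unfold S; rw [List.map_cons, List.sum_cons]

theorem S_nil : S ρ [] = 0 := rfl

theorem S_pl (L M : List G) : S ρ (pl L M) = S ρ L * S ρ M := by
  induction L with
  | nil => rw [S_nil, zero_mul]; rfl
  | cons a L ih =>
    rw [show pl (a :: L) M = M.map (a * ·) ++ pl L M from rfl, S_append, ih, S_cons, add_mul]
    congr 1
    unfold S
    rw [← List.sum_map_mul_left, List.map_map]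
    congr 1
    exact List.map_congr_left fun g _ => map_mul ρ a g

theorem S_apply (L : List G) (v : V) : S ρ L v = (L.map fun g => ρ g v).sum := by
  induction L with
  | nil => rfl
  | cons a L ih => rw [S_cons, LinearMap.add_apply, ih, List.map_cons, List.sum_cons]

theorem rho_eq {g h : G} {v : V} (e : ρ (h⁻¹ * g) v = v) : ρ g v = ρ h v := by
  conv_rhs => rw [← e, ← rho_mul, mul_inv_cancel_left]

theorem S_evB {v : V} (hv : v ∈ fx ρ B) {L : List G} (h : ev (L.map keyB) = true) : S ρ L v = 0 := by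
  rw [S_apply]
  refine sum_ev add_self _ _ (fun g h e => rho_eq (hv _ (mem_B.2 ?_))) L h
  have h1 : key t g < 46656 := code_lt _
  have h2 : key t h < 46656 := code_lt _
  unfold keyB at e
  exact ⟨comm_of_key (by omega), comm_of_key (by omega)⟩

theorem S_ev {x : G} {v : V} (hv : ∀ g, g * x = x * g → ρ g v = v) {L : List G} (h : ev (L.map (key x)) = true) :
    S ρ L v = 0 := by
  rw [S_apply]
  exact sum_ev add_self _ _ (fun g h e => rho_eq (hv _ (comm_of_key e))) L h

theorem fix_E {v : V} (hv : v ∈ fx ρ B) {g : G} {E : List G} (h : ev ((pl [g] E ++ E).map keyB) = true) :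
    ρ g (S ρ E v) = S ρ E v := by
  have h1 := S_evB hv h
  rw [S_append, S_pl, S_cons, S_nil, add_zero] at h1
  exact eq_of_add h1

theorem E_fix {x y : G} {v : V} (hv : ∀ g, g * x = x * g → ρ g v = v) (h : y * x = x * y ∧ y * y * x = x * (y * y)) :
    S ρ [1, y, y * y] v = v := by
  rw [S_apply]
  simp only [List.map_cons, List.map_nil, List.sum_cons, List.sum_nil, add_zero]
  rw [hv _ h.1, hv _ h.2, add_self, add_zero, rho_one]

theorem eq_zero_of_fix (hf : Function.Injective ρ) (hi : Irr ρ ⊤) {v : V} (h1 : ∀ g, g * t = t * g → ρ g v = v)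
    (h2 : ∀ g, g * s = s * g → ρ g v = v) : v = 0 := by
  have h3 : fx ρ ⊤ = ⊥ := hi.fx_eq_bot hf (by rw [Subgroup.normalizer_eq_top]) top_ne_bot
  have h4 : v ∈ fx ρ ⊤ := by
    intro g _
    have h5 : (stab ρ v).toSubmonoid = ⊤ := by
      rw [eq_top_iff, ← Perm.mclosure_swap_castSucc_succ 5, Submonoid.closure_le]
      rintro _ ⟨i, rfl⟩
      rcases gen_all i with h | h
      · exact h1 _ h
      · have h6 : d ∈ stab ρ v := h2 _ d_s.1
        change swap i.castSucc i.succ ∈ stab ρ v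
        rw [h]
        exact mul_mem (mul_mem h6 (h1 _ s12)) (inv_mem h6)
    exact (h5 ▸ Submonoid.mem_top g : g ∈ (stab ρ v).toSubmonoid)
  rw [h3] at h4
  exact h4

variable [Finite V]

theorem nat_type (hi : Irr ρ ⊤) {x y₁ y₂ : G} {R : List G} {v : V} (h0 : v ≠ 0)
    (hv : ∀ g, g * x = x * g → ρ g v = v) (hR : S ρ R v = 0)
    {C : List (List (Fin 6 × Fin 6) × Bool × Bool × List (List (Fin 6 × Fin 6)))}
    (h1 : ∀ e ∈ C, crt x R y₁ y₂ e = true) (h2 : ∀ g : G, ∃ e ∈ C, key x g = key x (W e.1)) :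
    cod ρ (Subgroup.zpowers z) ≤ 2 := by
  classical
  let U : Submodule (ZMod 2) V := Submodule.span _ (({S ρ [z * y₁, y₁] v, S ρ [z * y₂, y₂] v} : Finset V) : Set V)
  have hU1 : S ρ [z * y₁, y₁] v ∈ U := Submodule.subset_span (by simp)
  have hU2 : S ρ [z * y₂, y₂] v ∈ U := Submodule.subset_span (by simp)
  have h3 : ∀ g, (ρ z - 1) (ρ g v) ∈ U := fun g => by
    obtain ⟨e, he, h4⟩ := h2 g
    have h5 := S_ev hv (h1 e he)
    rw [S_append, S_append, S_append, S_pl] at h5
    simp only [LinearMap.add_apply, Module.End.mul_apply, hR, map_zero, add_zero] at h5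
    have h6 : (ρ z - 1) (ρ g v) = S ρ [z * W e.1, W e.1] v := by
      rw [rho_eq (hv _ (comm_of_key h4)), S_cons, S_cons, S_nil, add_zero, LinearMap.add_apply, rho_mul,
        LinearMap.sub_apply, Module.End.one_apply, sub_eq_iff_eq_add, add_assoc, add_self, add_zero]
    rw [h6, eq_of_add h5]
    refine add_mem ?_ ?_
    · cases e.2.1
      · exact zero_mem _
      · exact hU1
    · cases e.2.2.1
      · exact zero_mem _
      · exact hU2
  have h4 : Submodule.span (ZMod 2) (Set.range fun g => ρ g v) = ⊤ := by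
    refine (hi _ fun b _ w hw => ?_).resolve_left fun e => h0 ?_
    · refine Submodule.mem_comap.1 (Submodule.span_le.2 ?_ hw)
      rintro _ ⟨g, rfl⟩
      exact Submodule.subset_span ⟨b * g, rho_mul ρ b g v⟩
    · rw [← Submodule.mem_bot (ZMod 2), ← e]
      exact Submodule.subset_span ⟨1, rho_one ρ v⟩
  have h5 : LinearMap.range (ρ z - 1) ≤ U := by
    rw [LinearMap.range_eq_map, ← h4, Submodule.map_span_le]
    rintro _ ⟨g, rfl⟩
    exact h3 g
  rw [cod_zpowers]
  exact (Submodule.finrank_mono h5).trans ((finrank_span_finset_le_card _).trans Finset.card_le_two)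

omit [Finite V] in
theorem indep {w : V} (h : S ρ BL w ≠ 0) : LinearIndependent (ZMod 2) fun u : B => ρ u w := by
  classical
  rw [Fintype.linearIndependent_iff]
  by_contra hn
  let τ : Representation (ZMod 2) B (B → ZMod 2) :=
    { toFun := fun b => LinearMap.funLeft _ _ fun u => b⁻¹ * u
      map_one' := by ext f u; simp
      map_mul' := fun a b => by ext f u; simp [mul_assoc] }
  let L : (B → ZMod 2) →ₗ[ZMod 2] V := Fintype.linearCombination (ZMod 2) fun u : B => ρ u w
  have hL : ∀ f, L f = ∑ u : B, f u • ρ u w := fun f => Fintype.linearCombination_apply _ _ f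
  obtain ⟨f, hf, h0, h1⟩ := Lib.PGroupFixedVector.exists_mem_ne_zero_fixed_rep B_two τ (LinearMap.ker L)
    (fun b f hf => by
      rw [LinearMap.mem_ker, hL] at hf ⊢
      have h2 := congrArg (ρ b) hf
      rw [map_sum, map_zero] at h2
      rw [← h2, ← Equiv.sum_comp (Equiv.mulLeft b)]
      refine Finset.sum_congr rfl fun u _ => ?_
      rw [map_smul, ← rho_mul]
      simp [τ])
    (fun e => hn fun f hf => congrFun ((Submodule.mem_bot _).1 (e ▸ (LinearMap.mem_ker.2 ((hL f).trans hf)))))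
  have h2 : ∀ u, f u = f 1 := fun u => by
    have := congrFun (h1 u) u
    simpa [τ] using this.symm
  rw [LinearMap.mem_ker, hL] at hf
  simp only [h2, ← Finset.smul_sum] at hf
  refine h ?_
  rw [S_apply, ← List.sum_toFinset _ BL_nodup, Finset.sum_subtype _ fun _ => mem_BL]
  exact (smul_eq_zero.1 hf).resolve_left fun e => h0 (funext fun u => (h2 u).trans e)

theorem eight {w : V} (h : S ρ BL w ≠ 0) {A : Subgroup G} (hA : IsPGroup 2 A) (h1 : A ≠ ⊥) : 8 ≤ cod ρ A := by
  classical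
  obtain ⟨g, hg⟩ := exists_conj_le hA
  rw [← cod_conj g]
  have h2 : A.map (MulAut.conj g).toMonoidHom ≠ ⊥ := fun e =>
    h1 ((Subgroup.map_eq_bot_iff_of_injective _ (MulAut.conj g).injective).1 e)
  have h3 := hA.map (MulAut.conj g).toMonoidHom
  generalize A.map (MulAut.conj g).toMonoidHom = A' at hg h2 h3
  have hi := indep h
  have h4 := orbit_bound (ρ := ρ) hi.iSupIndep_span_singleton
    ((MulAction.toPermHom B B).comp (Subgroup.inclusion hg)) (fun a u v hv => by
      obtain ⟨r, rfl⟩ := Submodule.mem_span_singleton.1 hv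
      rw [map_smul, ← rho_mul]
      exact Submodule.smul_mem _ _ (Submodule.mem_span_singleton_self _))
    Finset.univ (fun _ _ _ => Finset.mem_univ _) 2 (fun u _ => le_card_range_of_isPGroup h3 _ (by
      obtain ⟨⟨a, ha⟩, h5⟩ := (Subgroup.ne_bot_iff_exists_ne_one).1 h2
      exact ⟨⟨a, ha⟩, fun e => h5 (Subtype.ext (mul_eq_right.1 (congrArg Subtype.val e : a * u = u)))⟩))
    (U := ⊤) fun _ _ => le_top
  rw [codOn_top, Finset.sum_congr rfl fun u _ => finrank_span_singleton (hi.ne_zero u), Finset.sum_const,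
    Finset.card_univ, ← Nat.card_eq_fintype_card, card_B] at h4
  simp only [smul_eq_mul] at h4
  omega

/-- the trichotomy -/
theorem six (hf : Function.Injective ρ) (hi : Irr ρ ⊤) :
    cod ρ (Subgroup.zpowers z) ≤ 2 ∨ ∀ A : Subgroup G, IsPGroup 2 A → A ≠ ⊥ → 8 ≤ cod ρ A := by
  have ht : (⊤ : Submodule (ZMod 2) V) ≠ ⊥ := fun e =>
    (top_ne_bot : (⊤ : Subgroup G) ≠ ⊥) (eq_bot_of_fx_eq_top hf (eq_top_iff.2 (e ▸ bot_le)))
  obtain ⟨v, ⟨-, hv⟩, h0⟩ := (Submodule.ne_bot_iff _).1 (inf_fx_ne_bot B_two (inv_top B) ht)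
  have f1 : ∀ v ∈ fx ρ B, ∀ g, g * t = t * g → ρ g (S ρ E1 v) = S ρ E1 v := fun v hv g h => fix_E hv (P1_all g h)
  have f2 : ∀ v ∈ fx ρ B, ∀ g, g * s = s * g → ρ g (S ρ E2 v) = S ρ E2 v := fun v hv g h => fix_E hv (P2_all g h)
  have m1 : ∀ v ∈ fx ρ B, S ρ E1 v ∈ fx ρ B := fun v hv g h => f1 v hv g (mem_B.1 h).1
  have m2 : ∀ v ∈ fx ρ B, S ρ E2 v ∈ fx ρ B := fun v hv g h => f2 v hv g (mem_B.1 h).2
  have n1 : ∀ v ∈ fx ρ B, S ρ E1 v ≠ 0 → S ρ E2 (S ρ E1 v) = 0 → cod ρ (Subgroup.zpowers z) ≤ 2 :=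
    fun v hv h1 h2 => nat_type hi h1 (f1 v hv) h2 C1_ok C1_all
  have n2 : ∀ v ∈ fx ρ B, S ρ E2 v ≠ 0 → S ρ E1 (S ρ E2 v) = 0 → cod ρ (Subgroup.zpowers z) ≤ 2 :=
    fun v hv h1 h2 => nat_type hi h1 (f2 v hv) h2 C2_ok C2_all
  have hb : S ρ E1 (S ρ E2 (S ρ E1 (S ρ E2 v))) = S ρ E2 (S ρ E1 (S ρ E2 (S ρ E1 v))) := by
    have h1 := S_evB hv braid
    rw [S_append, S_pl, S_pl, S_pl, S_pl, S_pl, S_pl] at h1
    exact eq_of_add h1
  have hz : S ρ E1 (S ρ E2 (S ρ E1 (S ρ E2 v))) = 0 :=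
    eq_zero_of_fix hf hi (f1 _ (m2 _ (m1 _ (m2 _ hv)))) (hb ▸ f2 _ (m1 _ (m2 _ (m1 _ hv))))
  by_contra hn
  rw [not_or] at hn
  have k1 : ∀ v ∈ fx ρ B, S ρ E2 (S ρ E1 v) = 0 → S ρ E1 v = 0 := fun v hv h => by
    by_contra h1; exact hn.1 (n1 v hv h1 h)
  have k2 : ∀ v ∈ fx ρ B, S ρ E1 (S ρ E2 v) = 0 → S ρ E2 v = 0 := fun v hv h => by
    by_contra h1; exact hn.1 (n2 v hv h1 h)
  have e2 : S ρ E2 v = 0 := k2 v hv (k1 _ (m2 _ hv) (k2 _ (m1 _ (m2 _ hv)) hz))
  have e1 : S ρ E1 v = 0 := k1 v hv (k2 _ (m1 _ hv) (k1 _ (m2 _ (m1 _ hv)) (hb ▸ hz)))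
  have t1 : S ρ T1 v = v := by
    rw [show E1 = 1 :: T1 from rfl, S_cons, LinearMap.add_apply, rho_one] at e1
    exact (eq_of_add e1).symm
  have t2 : S ρ T2 v = v := by
    rw [show E2 = 1 :: T2 from rfl, S_cons, LinearMap.add_apply, rho_one] at e2
    exact (eq_of_add e2).symm
  have h1 := S_evB hv cell
  rw [S_append, S_pl, S_pl, S_pl, S_pl] at h1
  simp only [LinearMap.add_apply, Module.End.mul_apply, t1, t2] at h1
  exact hn.2 fun A hA h2 => eight (fun e => h0 ((eq_of_add h1).trans e)) hA h2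

end Cfsg.Agent.TwoF.Alt.Six
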