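import Cfsg.Agent.TwoF.Alt.Bnd
import Cfsg.Agent.TwoF.Alt.Pts

/-!
# Characteristic two, not the natural module: from elements of odd order to 2-groups
-/

set_option autoImplicit false

namespace Cfsg.Agent.TwoF.Alt

open Module Equiv Equiv.Perm Gen H189 H189.Cyc H189.Emb

theorem inj4 {α : Type} {a b c d : α} (h1 : a ≠ b) (h2 : a ≠ c) (h3 : a ≠ d) (h4 : b ≠ c) (h5 : b ≠ d) (h6 : c ≠ d) :
    Function.Injective ![a, b, c, d] := fun i j e => by
  fin_cases i <;> fin_cases j <;> simp_all [eq_comm]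

theorem inj5 {α : Type} {w a b c d : α} (h0 : Function.Injective ![a, b, c, d]) (h1 : a ≠ w) (h2 : b ≠ w) (h3 : c ≠ w)
    (h4 : d ≠ w) : Function.Injective ![w, a, b, c, d] :=
  Fin.cons_injective_iff.2 ⟨by
    rintro ⟨i, e⟩
    fin_cases i <;> simp_all, h0⟩

variable {Y : Type} [Group Y] [Finite Y] {V : Type} [AddCommGroup V] [Module (ZMod 2) V] [Finite V]
  {K : Subgroup Y} {ρ : Representation (ZMod 2) Y V} {n : ℕ} {ψ : Y →* Perm (Fin n)} {A B : Subgroup Y} {a b : Y}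
  {u w x : Fin n} {N : ℕ}

omit [Finite Y] in
theorem zp_fix (h : ψ a u = u) : ∀ y ∈ Subgroup.zpowers a, ψ y u = u := fun _ hy =>
  (Subgroup.zpowers_le.2 (show a ∈ stb ψ ⊤ u from ⟨trivial, h⟩) hy).2

omit [Finite Y] in
theorem zp_comm (h : a * b = b * a) : ∀ y ∈ Subgroup.zpowers a, y * b = b * y := fun _ hy =>
  Subgroup.mem_centralizer_singleton_iff.1 (Subgroup.zpowers_le.2 (Subgroup.mem_centralizer_singleton_iff.2 h) hy)

omit [Finite Y] in
theorem ne_fix (hu : ψ b u ≠ u) (hw : ψ b w = w) : u ≠ w ∧ ψ b u ≠ w :=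
  ⟨fun e => hu (e ▸ hw), fun e => hu (by rw [(ψ b).injective (e.trans hw.symm), hw])⟩

omit [Finite Y] in
theorem Lf.big {f : Fin 4 ↪ Fin n} (h : Lf ψ f (Equiv.swap 0 2 * Equiv.swap 1 3) a) : Big ψ a :=
  ⟨f 0, f 1, by rw [h, embP_apply]; exact f.injective.ne (by decide),
    by rw [h, embP_apply]; exact f.injective.ne (by decide), f.injective.ne (by decide),
    by rw [h, embP_apply]; exact f.injective.ne (by decide)⟩

namespace T2

variable (T : T2 K ρ ψ)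
include T

omit [Finite Y] [Finite V] in
theorem ea (hA : IsElementaryAbelian 2 A) {r : ℕ} (h : Nat.card A = 2 ^ r) : EA ψ A r :=
  ⟨hA, fun _ _ e => T.inj (e.trans (map_one ψ).symm), h⟩

omit [Finite Y] in
/-- `b` inverts a 3-cycle that commutes with `B` -/
theorem step (hB : B ≤ A) (hb : b ∈ A) (h2 : b * b = 1) (hc : ∀ y ∈ B, y * b = b * y) (hu : ψ b u ≠ u)
    (hw : ψ b w = w) (hBu : ∀ y ∈ B, ψ y u = u) (hBw : ∀ y ∈ B, ψ y w = w) :
    ∃ c, ψ c = c3 u (ψ b u) w ∧ c ^ 3 = 1 ∧ (∀ y ∈ B, y * c = c * y) ∧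
      cod ρ (B ⊔ Subgroup.zpowers c) + cod ρ B ≤ 2 * cod ρ A := by
  obtain ⟨h3, h4⟩ := ne_fix hu hw
  obtain ⟨c, -, e⟩ := T.lift _ (sign_c3 hu.symm h4)
  have h5 : c ^ 3 = 1 := T.pow (by rw [e, c3_pow_three hu.symm h3 h4])
  have h6 : ∀ y ∈ B, y * c = c * y := fun y hy => T.comm (by
    rw [← mul_inv_eq_iff_eq_mul, e, conj_c3, app_comm (hc y hy), hBu y hy, hBw y hy])
  have h7 : b * c * b⁻¹ = c⁻¹ := T.inj (by
    rw [map_mul, map_mul, map_inv, map_inv, e, conj_c3, app_app h2, hw, c3_inv, c3_cycle h4.symm h3.symm hu])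
  refine ⟨c, e, h5, h6, sm hB h6 fun H h8 h9 => sup_le (hB.trans h8) (Subgroup.zpowers_le.2 ?_)⟩
  have h10 := inv_mem (mul_mem (h9 b hb) (inv_mem (h8 hb)))
  rwa [show c * b * c⁻¹ * b⁻¹ = c * (b * c * b⁻¹)⁻¹ by group, h7, inv_inv,
    inv_eq_of_mul_eq_one_right ((pow_three' c).symm.trans h5)] at h10

theorem step1 (hP : IsElementaryAbelian 2 B) (hB : B ≤ A) (hb : b ∈ A) (h2 : b * b = 1)
    (hc : ∀ y ∈ B, y * b = b * y) (hu : ψ b u ≠ u) (hw : ψ b w = w) (hBu : ∀ y ∈ B, ψ y u = u)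
    (hBw : ∀ y ∈ B, ψ y w = w) : cod ρ B + 1 ≤ cod ρ A := by
  obtain ⟨c, e, h3, h4, h5⟩ := T.step hB hb h2 hc hu hw hBu hBw
  obtain ⟨v, hv, h6⟩ := T.nt (elemAb_isPGroup hP) (x := c) (m := 3) (by rw [← map_pow, h3, map_one]) (by decide)
    (fun h => c3_ne_one hu.symm (ne_fix hu hw).1 (by rw [← e, h, map_one])) h4
  have h7 : codOn ρ (fx ρ B) (Subgroup.zpowers c) ≠ 0 := fun h => h6 (mem_fx_zpowers.1 (codOn_eq_zero_iff.1 h hv))
  rw [cod_sup_eq] at h5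
  omega

omit [Finite Y] in
theorem stepX (hX : XL ρ ψ N) (hB : B ≤ A) (hb : b ∈ A) (h2 : b * b = 1)
    (hc : ∀ y ∈ B, y * b = b * y) (hu : ψ b u ≠ u) (hw : ψ b w = w) (hBu : ∀ y ∈ B, ψ y u = u)
    (hBw : ∀ y ∈ B, ψ y w = w) : N + cod ρ B ≤ 2 * cod ρ A := by
  obtain ⟨c, e, -, -, h5⟩ := T.step hB hb h2 hc hu hw hBu hBw
  have h6 := hX c _ _ _ hu.symm (ne_fix hu hw).1 (ne_fix hu hw).2 e
  have h7 := cod_mono (ρ := ρ) (le_sup_right : Subgroup.zpowers c ≤ B ⊔ Subgroup.zpowers c)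
  omega

omit [Finite Y] in
theorem k1 (hX : XL ρ ψ N) (ha : a ∈ A) (hb : b ∈ A) (h1 : a * a = 1) (h2 : b * b = 1) (hc : a * b = b * a)
    (hu : ψ b u ≠ u) (hw : ψ b w = w) (hau : ψ a u = u) (haw : ψ a w = w) :
    4 * cod ρ (Subgroup.zpowers a) + N ≤ 4 * cod ρ A := by
  obtain ⟨c, e, h3, h4, h5⟩ := T.step (Subgroup.zpowers_le.2 ha) hb h2 (zp_comm hc) hu hw (zp_fix hau) (zp_fix haw)
  have h6 := hX c _ _ _ hu.symm (ne_fix hu hw).1 (ne_fix hu hw).2 e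
  have h7 := half (ρ := ρ) h1 h3 (by decide) (h4 a (Subgroup.mem_zpowers a))
  rw [cod_sup_eq] at h5
  omega

omit [Finite Y] in
/-- an involution with a fixed point inverts a 3-cycle -/
theorem xfix (hX : XL ρ ψ N) (h2 : b * b = 1) (hu : ψ b u ≠ u) (hw : ψ b w = w) :
    N ≤ 2 * cod ρ (Subgroup.zpowers b) :=
  (Nat.le_add_right _ _).trans (T.stepX (B := ⊥) hX bot_le (Subgroup.mem_zpowers b) h2
    (fun y hy => by rw [Subgroup.mem_bot.1 hy, one_mul, mul_one]) hu hw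
    (fun y hy => by rw [Subgroup.mem_bot.1 hy, map_one, Perm.one_apply])
    (fun y hy => by rw [Subgroup.mem_bot.1 hy, map_one, Perm.one_apply]))

omit [Finite Y] in
/-- a large involution with a fixed point inverts a 5-cycle -/
theorem good (hY : YL ρ ψ N) (h2 : a * a = 1) (hb : Big ψ a) (hw : ψ a w = w) :
    N ≤ 2 * cod ρ (Subgroup.zpowers a) := by
  obtain ⟨u, x, hu, hx, h3, h4⟩ := hb
  have h5 : u ≠ ψ a x := fun e => h4 (by rw [e, app_app h2])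
  let f : Fin 5 ↪ Fin n := ⟨![w, u, x, ψ a x, ψ a u], inj5
    (inj4 h3.symm h5 hu.symm hx.symm h4 ((ψ a).injective.ne h3)) (ne_fix hu hw).1 (ne_fix hx hw).1 (ne_fix hx hw).2
    (ne_fix hu hw).2⟩
  obtain ⟨s, hs⟩ := T.lf f s5 (by decide +kernel)
  refine (hY f s hs).trans (cod_le_of_inverts (Odd.of_dvd_nat (by decide : Odd 5)
    (orderOf_dvd_of_pow_eq_one (hs.pow T (by decide +kernel)))) (T.inj ?_))
  rw [map_mul, map_mul, map_inv, map_inv, hs, conj_embP (g := f) (τ := swap 1 4 * swap 2 3), ← map_inv]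
  · exact congrArg (embP f) (by decide +kernel)
  · intro i
    rw [(by decide +kernel : ∀ i : Fin 5, (swap 1 4 * swap 2 3 : Perm (Fin 5)) i = ![0, 4, 3, 2, 1] i)]
    fin_cases i
    · exact hw
    · rfl
    · rfl
    · exact app_app h2 x
    · exact app_app h2 u

omit [Finite Y] [Finite V] in
/-- the commutator with a 3-cycle -/
theorem dtc (h2 : a * a = 1) (hu : ψ a u ≠ u) (hx : ψ a x ≠ x) (h3 : x ≠ u) (h4 : x ≠ ψ a u) :
    ∃ (f : Fin 4 ↪ Fin n) (g : Y), (∀ i, f i = ![u, ψ a u, x, ψ a x] i) ∧ Lf ψ f (c3 0 1 2) g ∧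
      Lf ψ f (swap 0 2 * swap 1 3) (a * g * a⁻¹ * g⁻¹) := by
  have h5 : u ≠ ψ a x := fun e => h4 (by rw [e, app_app h2])
  let f : Fin 4 ↪ Fin n := ⟨![u, ψ a u, x, ψ a x], inj4 hu.symm h3.symm h5 h4.symm ((ψ a).injective.ne h3.symm) hx.symm⟩
  obtain ⟨g, hg⟩ := T.lf f (c3 0 1 2) (by decide +kernel)
  refine ⟨f, g, fun _ => rfl, hg, ?_⟩
  rw [Lf, map_mul, map_mul, map_mul, map_inv, map_inv, hg, conj_embP (g := f) (τ := swap 0 1 * swap 2 3), ← map_inv,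
    ← map_mul]
  · exact congrArg (embP f) (by decide +kernel)
  · intro i
    rw [(by decide +kernel : ∀ i : Fin 4, (swap 0 1 * swap 2 3 : Perm (Fin 4)) i = ![1, 0, 3, 2] i)]
    fin_cases i
    · rfl
    · exact app_app h2 u
    · rfl
    · exact app_app h2 x

omit [Finite Y] in
theorem big4 (hY : YL ρ ψ N) (h2 : a * a = 1) (hb : Big ψ a) : N ≤ 4 * cod ρ (Subgroup.zpowers a) := by
  obtain ⟨u, x, hu, hx, h3, h4⟩ := hb
  obtain ⟨f, g, -, -, hd⟩ := T.dtc h2 hu hx h3 h4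
  obtain ⟨w, -, hw⟩ := Finset.exists_mem_notMem_of_card_lt_card (s := Finset.univ.map f) (t := Finset.univ)
    (by have := T.deg; simp; omega)
  have h5 := T.good hY ((pow_two _).symm.trans (hd.pow T (by decide +kernel))) hd.big
    (hd.sup (S := Finset.univ) (by simp) w hw)
  have h6 := cod_zpowers_commutator_le (ρ := ρ) a g
  omega

omit [Finite Y] in
/-- `b` fixes five points, four of which are moved by `a` -/
theorem k2 {M : ℕ} (hX : XL ρ ψ N) (hY : YL ρ ψ M) (ha : a ∈ A) (hb : b ∈ A) (h1 : a * a = 1) (h2 : b * b = 1)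
    {O : Finset (Fin n)} (hO : 5 ≤ O.card) (h3 : ∀ x ∈ O, ψ a x ≠ x ∧ ψ a x ∈ O ∧ ψ b x = x) (hu : ψ b u ≠ u) :
    3 * N + 2 * M ≤ 8 * cod ρ A := by
  obtain ⟨y, hy⟩ := Finset.card_pos.1 (show 0 < O.card by omega)
  obtain ⟨x, hx, h4⟩ := Finset.exists_mem_notMem_of_card_lt_card (s := {y, ψ a y}) (t := O)
    (Finset.card_le_two.trans_lt (by omega))
  simp only [Finset.mem_insert, Finset.mem_singleton, not_or] at h4
  obtain ⟨f, g, hf, hg, hd⟩ := T.dtc h1 (h3 y hy).1 (h3 x hx).1 h4.1 h4.2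
  have hfO : ∀ z ∈ Finset.univ.map f, z ∈ O := fun z hz => by
    obtain ⟨i, -, rfl⟩ := Finset.mem_map.1 hz
    rw [hf]
    fin_cases i
    exacts [hy, (h3 y hy).2.1, hx, (h3 x hx).2.1]
  obtain ⟨w, hw, h5⟩ := Finset.exists_mem_notMem_of_card_lt_card (s := Finset.univ.map f) (t := O) (by simp; omega)
  have s1 := hd.sup (S := Finset.univ) (by simp)
  have s2 := hg.sup (S := Finset.univ) (by simp)
  have hdd := (pow_two _).symm.trans (hd.pow T (i := 2) (by decide +kernel))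
  have h6 := T.good hY hdd hd.big (s1 w h5)
  have h7 := T.xfix hX h2 hu (h3 w hw).2.2
  have h8 := T.k1 (A := Subgroup.zpowers b ⊔ Subgroup.zpowers (a * g * a⁻¹ * g⁻¹)) hX
    (Subgroup.mem_sup_right (Subgroup.mem_zpowers _)) (Subgroup.mem_sup_left (Subgroup.mem_zpowers _)) hdd h2
    (T.comm (s1.comm fun z hz => (h3 z (hfO z hz)).2.2)) hu (h3 w hw).2.2
    (s1 u fun hz => hu (h3 u (hfO u hz)).2.2) (s1 w h5)
  have h9 := sm (ρ := ρ) (Q := Subgroup.zpowers b ⊔ Subgroup.zpowers (a * g * a⁻¹ * g⁻¹)) (g := g)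
    (Subgroup.zpowers_le.2 hb) (zp_comm (T.comm (s2.comm fun z hz => (h3 z (hfO z hz)).2.2)).symm)
    fun H e1 e2 => sup_le (Subgroup.zpowers_le.2 (e1 hb)) (Subgroup.zpowers_le.2 (by
      have := mul_mem (e1 ha) (inv_mem (e2 a ha))
      rwa [show a * (g * a * g⁻¹)⁻¹ = a * g * a⁻¹ * g⁻¹ by group] at this))
  omega

end T2

end Cfsg.Agent.TwoF.Alt
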