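import Cfsg.Agent.TwoF.Alt.Nat
import Cfsg.Agent.TwoF.Alt.Has

/-!
# Characteristic two, trivial centre: the tools
-/

set_option autoImplicit false

namespace Cfsg.Agent.TwoF.Alt

open Module Equiv Equiv.Perm Gen H189 H189.Cyc H189.Emb

section Lin

variable {k : Type*} [Field k] {Y : Type*} [Group Y] {V : Type*} [AddCommGroup V] [Module k V]
  {ρ : Representation k Y V} [FiniteDimensional k V]

theorem finrank_eq_map_add (f : End k V) (M : Submodule k V) :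
    finrank k M = finrank k (M.map f) + finrank k ↥(M ⊓ LinearMap.ker f) := by
  have h := LinearMap.finrank_range_add_finrank_ker (f.domRestrict M)
  rw [LinearMap.range_domRestrict, LinearMap.ker_domRestrict] at h
  rw [← h, ← Submodule.finrank_map_subtype_eq M (Submodule.comap _ _), Submodule.map_comap_subtype]

theorem codOn_zpowers (U : Submodule k V) (x : Y) :
    codOn ρ U (Subgroup.zpowers x) = finrank k (U.map (ρ x - 1)) := by
  have h1 := finrank_eq_map_add (ρ x - 1) U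
  have h2 := codOn_add (ρ := ρ) U (Subgroup.zpowers x)
  rw [fx_zpowers] at h2
  omega

variable [CharP k 2]

omit [FiniteDimensional k V] in
theorem sq_zero {a : Y} (ha : a * a = 1) (v : V) : ρ a (ρ a v - v) = ρ a v - v := by
  have h : ∀ w : V, -w = w := fun w => neg_eq_of_add_eq_zero_left (by
    rw [← two_smul k, two_eq_zero', zero_smul])
  rw [map_sub, ← rho_mul, ha, rho_one, ← neg_sub, h]

/-- an involution fixes at least half of an invariant subspace -/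
theorem le_two_mul_inf {a : Y} (ha : a * a = 1) {M : Submodule k V} (hM : ∀ v ∈ M, ρ a v ∈ M) :
    finrank k M ≤ 2 * finrank k ↥(M ⊓ fx ρ (Subgroup.zpowers a)) := by
  have h1 := finrank_eq_map_add (ρ a - 1) M
  have h2 : M.map (ρ a - 1) ≤ M ⊓ LinearMap.ker (ρ a - 1) := by
    rintro _ ⟨v, hv, rfl⟩
    exact ⟨M.sub_mem (hM v hv) hv, sub_eq_zero.2 (sq_zero ha v)⟩
  have h3 := Submodule.finrank_mono h2
  rw [fx_zpowers]
  omega

theorem two_cod_le {a : Y} (ha : a * a = 1) : 2 * cod ρ (Subgroup.zpowers a) ≤ finrank k V := by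
  have h1 := le_two_mul_inf (ρ := ρ) ha (M := ⊤) fun _ _ => trivial
  have h2 := cod_add (ρ := ρ) (Subgroup.zpowers a)
  rw [top_inf_eq, finrank_top] at h1
  omega

omit [FiniteDimensional k V] in
theorem eq_zero_of_range {x : Y} {m : ℕ} (hx : x ^ m = 1) (hm : ¬ 2 ∣ m) {v : V}
    (hv : v ∈ LinearMap.range (ρ x - 1)) (h : ρ x v = v) : v = 0 := by
  obtain ⟨w, rfl⟩ := hv
  exact sub_eq_zero.2 (eq_of_sub_one_sq hx hm h)

/-- an element of odd order on the fixed space of a commuting involution -/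
theorem half {a x : Y} (ha : a * a = 1) {m : ℕ} (hx : x ^ m = 1) (hm : ¬ 2 ∣ m) (hc : a * x = x * a) :
    cod ρ (Subgroup.zpowers x) ≤ 2 * codOn ρ (fx ρ (Subgroup.zpowers a)) (Subgroup.zpowers x) := by
  rw [cod_zpowers]
  refine (le_two_mul_inf ha fun v hv => ?_).trans (Nat.mul_le_mul_left 2 (finrank_le_codOn inf_le_right ?_))
  · obtain ⟨w, rfl⟩ := hv
    exact ⟨ρ a w, sub_one_comm' hc w⟩
  · exact eq_bot_iff.2 fun v hv => eq_zero_of_range hx hm hv.1.1 (mem_fx_zpowers.1 hv.2)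
where
  sub_one_comm' {k : Type _} [Field k] {Y : Type _} [Group Y] {V : Type _} [AddCommGroup V] [Module k V]
      {ρ : Representation k Y V} {a x : Y} (h : a * x = x * a) (v : V) :
      (ρ x - 1) (ρ a v) = ρ a ((ρ x - 1) v) := by
    show ρ x (ρ a v) - ρ a v = ρ a (ρ x v - v)
    rw [map_sub, ← rho_mul, ← rho_mul, h]

omit [CharP k 2] in
/-- submodularity for a conjugate -/
theorem sm {A B Q : Subgroup Y} {g : Y} (hB : B ≤ A) (hg : ∀ b ∈ B, b * g = g * b)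
    (hQ : ∀ H : Subgroup Y, A ≤ H → (∀ a ∈ A, g * a * g⁻¹ ∈ H) → Q ≤ H) : cod ρ Q + cod ρ B ≤ 2 * cod ρ A := by
  have h1 := cod_sup_add_inf (ρ := ρ) A (A.map (MulAut.conj g).toMonoidHom)
  have h2 : cod ρ Q ≤ cod ρ (A ⊔ A.map (MulAut.conj g).toMonoidHom) :=
    cod_mono (hQ _ le_sup_left fun a ha => Subgroup.mem_sup_right ⟨a, ha, rfl⟩)
  have h3 : cod ρ B ≤ cod ρ (A ⊓ A.map (MulAut.conj g).toMonoidHom) :=
    cod_mono (le_inf hB fun b hb => ⟨b, hB hb, by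
      show g * b * g⁻¹ = b
      rw [← hg b hb, mul_inv_cancel_right]⟩)
  rw [cod_conj] at h1
  omega

end Lin

/-- `b` does not centralise the commutator space of `a` -/
def NZ {k : Type*} [Field k] {Y : Type*} [Group Y] {V : Type*} [AddCommGroup V] [Module k V]
    (ρ : Representation k Y V) (a b : Y) : Prop := ∃ v, ρ b (ρ a v - v) ≠ ρ a v - v

theorem NZ.symm {k : Type*} [Field k] {Y : Type*} [Group Y] {V : Type*} [AddCommGroup V] [Module k V]
    {ρ : Representation k Y V} {a b : Y} (h : NZ ρ a b) (hc : a * b = b * a) : NZ ρ b a :=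
  h.imp fun v hv e => hv <| by
    rw [map_sub, ← rho_mul] at e ⊢
    rw [← hc, sub_eq_iff_eq_add.1 e]
    abel

variable {Y : Type} [Group Y] {V : Type} [AddCommGroup V] [Module (ZMod 2) V]
  {K : Subgroup Y} {ρ : Representation (ZMod 2) Y V} {n : ℕ} {ψ : Y →* Perm (Fin n)}

/-- the 5-cycle -/
def s5 : Perm (Fin 5) := c3 0 1 2 * c3 2 3 4

/-- lower bound for the 3-cycles -/
def XL (ρ : Representation (ZMod 2) Y V) (ψ : Y →* Perm (Fin n)) (N : ℕ) : Prop :=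
  ∀ x a b c, a ≠ b → a ≠ c → b ≠ c → ψ x = c3 a b c → N ≤ cod ρ (Subgroup.zpowers x)

/-- lower bound for the 5-cycles -/
def YL (ρ : Representation (ZMod 2) Y V) (ψ : Y →* Perm (Fin n)) (N : ℕ) : Prop :=
  ∀ (f : Fin 5 ↪ Fin n) x, ψ x = embP f s5 → N ≤ cod ρ (Subgroup.zpowers x)

/-- lower bound for the transpositions -/
def TL (ρ : Representation (ZMod 2) Y V) (ψ : Y →* Perm (Fin n)) (N : ℕ) : Prop :=
  ∀ x a b, a ≠ b → ψ x = swap a b → N ≤ cod ρ (Subgroup.zpowers x)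

theorem XL.mono {N M : ℕ} (h : XL ρ ψ N) (hM : M ≤ N) : XL ρ ψ M := fun x a b c h1 h2 h3 e =>
  hM.trans (h x a b c h1 h2 h3 e)

theorem YL.mono {N M : ℕ} (h : YL ρ ψ N) (hM : M ≤ N) : YL ρ ψ M := fun f x e => hM.trans (h f x e)

theorem conj_embP {α β : Type} [Fintype α] [DecidableEq α] [Fintype β] [DecidableEq β] {f g : β ↪ α} {σ : Perm α}
    {τ : Perm β} (h : ∀ i, σ (f i) = g (τ i)) (x : Perm β) : σ * embP f x * σ⁻¹ = embP g (τ * x * τ⁻¹) := by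
  rw [mul_inv_eq_iff_eq_mul]
  ext y
  by_cases hy : ∃ i, f i = y
  · obtain ⟨i, rfl⟩ := hy
    rw [Perm.mul_apply, Perm.mul_apply, embP_apply, h, h, embP_apply, Perm.mul_apply, Perm.mul_apply, inv_apply_self]
  · push Not at hy
    rw [Perm.mul_apply, Perm.mul_apply, embP_other f x hy, embP_other]
    intro i e
    refine hy (τ⁻¹ i) (σ.injective ?_)
    rw [h, apply_inv_self, e]

/-- characteristic two, trivial centre, not the natural module -/
structure T2 (K : Subgroup Y) (ρ : Representation (ZMod 2) Y V) (ψ : Y →* Perm (Fin n)) : Prop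
    extends Fr 2 K ρ ψ where
  inj : Function.Injective ψ
  np : ∀ (f : Fin 6 ↪ Fin n) x y, ψ x = c3 (f 0) (f 1) (f 2) → ψ y = c3 (f 3) (f 4) (f 5) → NZ ρ x y

/-- the natural module or `T2` -/
theorem Fr.nat_or [Finite Y] [Finite V] (F : Fr 2 K ρ ψ) (hi : Function.Injective ψ) (h : 8 ≤ n ∨ ∃ y, y ∉ K) :
    (∃ B ≤ K, Off 2 ρ B ∧ Cub ρ B) ∨ T2 K ρ ψ := by
  obtain ⟨ι, hι, hK⟩ := F.iota hi
  have h7 := F.deg
  by_cases hP : AltTwo.P3 (ρ.comp ι)
  · left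
    have hιi : Function.Injective ι := fun a b e => Subtype.ext (by rw [← hι, e, hι])
    obtain ⟨e, he, hr⟩ := exists_of_P3 (p := 2) (by decide) hP (Fin.castLEEmb h7) (F.faithful.comp hιi)
    let f := Fin.castLEEmb h7
    have ne : ∀ i j : Fin 7, i ≠ j → f i ≠ f j := fun i j h => f.injective.ne h
    have h1 := (F.nat_cod hi hι he hr).2 (ne 0 1 (by decide)) (ne 2 3 (by decide)) (ne 0 2 (by decide))
      (ne 0 3 (by decide)) (ne 1 2 (by decide)) (ne 1 3 (by decide))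
    rw [← emb_dt f 0 1 2 3 (by decide) (by decide)] at h1
    have h2 : orderOf (ι (emb f (dt 0 1 2 3 (by decide) (by decide)))) = 2 := by
      rw [orderOf_injective ι hιi, orderOf_injective _ (emb_injective f)]
      exact orderOf_eq_prime (by decide) (by decide)
    exact ⟨_, Subgroup.zpowers_le.2 (hK _), off_zpowers h2 h1, (off_zpowers h2 h1).cub (by
      rw [Nat.card_zpowers, h2]; decide)⟩
  · refine Or.inr ⟨F, hi, fun f x y hx hy => ?_⟩
    simp only [AltTwo.P3, not_forall] at hP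
    obtain ⟨f₀, v, hv⟩ := hP
    obtain ⟨g, hg⟩ : ∃ g, ∀ i, ψ g (f₀ i) = f i := by
      rcases h with h | ⟨y₀, h⟩
      · obtain ⟨σ, hσ⟩ := NatMod.exists_even f₀ f f₀.injective f.injective (by simpa using h)
        exact ⟨ι σ, fun i => by rw [hι, hσ]⟩
      · obtain ⟨σ, hσ⟩ := Equiv.Perm.exists_extending_pair _ _ f₀.injective f.injective
        obtain ⟨g, rfl⟩ := F.lift_all h σ
        exact ⟨g, hσ⟩
    have e : ∀ (i j l : Fin 6) (hij : f₀ i ≠ f₀ j) (hjl : f₀ j ≠ f₀ l) z, ψ z = c3 (f i) (f j) (f l) → ∀ w,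
        ρ z (ρ g w) = ρ g ((ρ.comp ι) (cc _ _ _ hij hjl) w) := fun i j l hij hjl z hz w => by
      show _ = ρ g (ρ (ι _) w)
      rw [← rho_mul, ← rho_mul]
      congr 2
      refine hi ?_
      rw [map_mul, map_mul, hι, hz, ← hg, ← hg, ← hg, ← conj_c3, inv_mul_cancel_right]
      rfl
    refine ⟨ρ g v, fun h1 => hv (rho_injective ρ g ?_)⟩
    rwa [e 0 1 2 _ _ x hx, ← map_sub, e 3 4 5 _ _ y hy] at h1

namespace T2

variable (T : T2 K ρ ψ)
include T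

theorem comm {a b : Y} (h : ψ a * ψ b = ψ b * ψ a) : a * b = b * a := T.inj (by rw [map_mul, map_mul, h])

theorem pow {a : Y} {m : ℕ} (h : ψ a ^ m = 1) : a ^ m = 1 := T.inj (by rw [map_pow, h, map_one])

theorem cod_conj_eq {x y g : Y} (h : ψ g * ψ x * (ψ g)⁻¹ = ψ y) :
    cod ρ (Subgroup.zpowers y) = cod ρ (Subgroup.zpowers x) := by
  rw [← cod_zpowers_conj g x, T.inj (show ψ (g * x * g⁻¹) = ψ y by rw [map_mul, map_mul, map_inv, h])]

theorem exists_move {m : ℕ} (hm : m ≤ 5) (f g : Fin m → Fin n) (hf : Function.Injective f)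
    (hg : Function.Injective g) : ∃ y, ∀ i, ψ y (f i) = g i := by
  obtain ⟨σ, hσ⟩ := NatMod.exists_even f g hf hg (by have := T.deg; simp; omega)
  obtain ⟨y, -, hy⟩ := T.lift σ (mem_alternatingGroup.1 σ.2)
  exact ⟨y, fun i => by rw [hy, hσ]⟩

theorem xl {N : ℕ} {x : Y} {a b c : Fin n} (hab : a ≠ b) (hac : a ≠ c) (hbc : b ≠ c) (hx : ψ x = c3 a b c)
    (h : N ≤ cod ρ (Subgroup.zpowers x)) : XL ρ ψ N := fun x' a' b' c' h1 h2 h3 e => by
  obtain ⟨y, hy⟩ := T.exists_move (by omega) _ _ (AltTwo.inj3 hab hac hbc) (AltTwo.inj3 h1 h2 h3)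
  rwa [T.cod_conj_eq (x := x) (g := y) (by
    rw [hx, e, conj_c3]; exact congr (congr (congrArg c3 (hy 0)) (hy 1)) (hy 2))]

theorem yl {N : ℕ} {x : Y} {f : Fin 5 ↪ Fin n} (hx : ψ x = embP f s5) (h : N ≤ cod ρ (Subgroup.zpowers x)) :
    YL ρ ψ N := fun g x' e => by
  obtain ⟨y, hy⟩ := T.exists_move le_rfl _ _ f.injective g.injective
  rwa [T.cod_conj_eq (x := x) (g := y) (by rw [hx, e, conj_embP (τ := 1) hy]; simp)]

theorem tl {N : ℕ} {x : Y} {a b : Fin n} (hab : a ≠ b) (hx : ψ x = swap a b) (h : N ≤ cod ρ (Subgroup.zpowers x)) :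
    TL ρ ψ N := fun x' a' b' h1 e => by
  have i2 : ∀ {u v : Fin n}, u ≠ v → Function.Injective ![u, v] := fun h i j e => by
    fin_cases i <;> fin_cases j <;> simp_all [eq_comm]
  obtain ⟨y, hy⟩ := T.exists_move (by omega) _ _ (i2 hab) (i2 h1)
  rwa [T.cod_conj_eq (x := x) (g := y) (by
    rw [hx, e, ← swap_apply_apply]; exact congr (congrArg _ (hy 0)) (hy 1))]

/-- the alternating group on at least five points acts faithfully or trivially -/
theorem transfer {S : Finset (Fin n)} (hS : 5 ≤ S.card) {U : Submodule (ZMod 2) V}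
    (hU : ∀ y, Sup (ψ y) S → ∀ v ∈ U, ρ y v ∈ U) {y y' : Y} (h1 : sign (ψ y) = 1) (h2 : Sup (ψ y) S)
    (h3 : sign (ψ y') = 1) (h4 : Sup (ψ y') S) (h5 : y' ≠ 1) (h : ∀ v ∈ U, ρ y' v = v) : ∀ v ∈ U, ρ y v = v := by
  obtain ⟨ι, hι, -⟩ := T.iota T.inj
  let e : Fin S.card ↪ Fin n := (S.orderEmbOfFin rfl).toEmbedding
  have he : ∀ x, (∀ i, e i ≠ x) ↔ x ∉ S := fun x => by
    rw [← Finset.mem_coe, ← S.range_orderEmbOfFin rfl]
    exact ⟨fun h ⟨i, hi⟩ => h i hi, fun h i hi => h ⟨i, hi⟩⟩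
  have ex : ∀ y, sign (ψ y) = 1 → Sup (ψ y) S → ∃ σ, ι (emb e σ) = y := fun y h1 h2 => by
    obtain ⟨σ, hσ⟩ := exists_emb e ⟨ψ y, mem_alternatingGroup.2 h1⟩ fun x hx => h2 x ((he x).1 hx)
    exact ⟨σ, T.inj (by rw [hι, hσ])⟩
  obtain ⟨σ, rfl⟩ := ex y h1 h2
  obtain ⟨σ', rfl⟩ := ex y' h3 h4
  let R := Wt.subrep ((ρ.comp ι).comp (emb e)) U fun g => hU _ fun x hx => by
    rw [hι]; exact emb_other e g ((he x).2 hx)
  intro v hv
  by_contra hne
  have hi := AltOddDim.rep_injective (by simpa using hS) R ⟨σ, fun e =>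
    hne (congrArg Subtype.val (LinearMap.congr_fun e ⟨v, hv⟩))⟩
  refine h5 ?_
  have h6 : R σ' = 1 := LinearMap.ext fun w : U => Subtype.ext (h w w.2)
  rw [hi (h6.trans (map_one R).symm), map_one, map_one]

theorem nz {S : Finset (Fin n)} (hS : 5 ≤ S.card) {a y y' : Y} (ha : ∀ x ∈ S, ψ a x = x) (h1 : sign (ψ y) = 1)
    (h2 : Sup (ψ y) S) (h3 : sign (ψ y') = 1) (h4 : Sup (ψ y') S) (h5 : y' ≠ 1) (h : NZ ρ a y) : NZ ρ a y' := by
  obtain ⟨v, hv⟩ := h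
  by_contra hc
  refine hv (T.transfer hS (U := LinearMap.range (ρ a - 1)) (fun z hz => range_inv (T.comm (hz.comm ha))) h1 h2 h3 h4
    h5 ?_ _ ⟨v, rfl⟩)
  rintro _ ⟨w, rfl⟩
  exact not_not.1 fun e => hc ⟨w, e⟩

end T2

/-- `y` is the lift of `γ` -/
def Lf (ψ : Y →* Perm (Fin n)) {m : ℕ} (f : Fin m ↪ Fin n) (γ : Perm (Fin m)) (y : Y) : Prop := ψ y = embP f γ

section Lf

variable {m : ℕ} {f : Fin m ↪ Fin n} {α β γ δ : Perm (Fin m)} {a b c d : Y}

theorem T2.lf (T : T2 K ρ ψ) (f : Fin m ↪ Fin n) (γ : Perm (Fin m)) (h : sign γ = 1) : ∃ y, Lf ψ f γ y :=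
  (T.lift _ ((sign_embP f γ).trans h)).imp fun _ h => h.2

theorem T2.lf' (T : T2 K ρ ψ) (hY : ∃ y, y ∉ K) (f : Fin m ↪ Fin n) (γ : Perm (Fin m)) : ∃ y, Lf ψ f γ y :=
  T.lift_all hY.choose_spec _

theorem Lf.rel (T : T2 K ρ ψ) (ha : Lf ψ f α a) (hb : Lf ψ f β b) (hc : Lf ψ f γ c) {i : ℕ}
    (h : α * β = β * γ ^ i) : a * b = b * c ^ i :=
  T.inj (by rw [map_mul, map_mul, map_pow, ha, hb, hc, ← map_mul, h, map_mul, map_pow])

theorem Lf.comm (T : T2 K ρ ψ) (ha : Lf ψ f α a) (hb : Lf ψ f β b) (h : α * β = β * α) : a * b = b * a :=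
  T.comm (by rw [ha, hb, ← map_mul, h, map_mul])

theorem Lf.pow (T : T2 K ρ ψ) (ha : Lf ψ f α a) {i : ℕ} (h : α ^ i = 1) : a ^ i = 1 :=
  T.pow (by rw [ha, ← map_pow, h, map_one])

theorem Lf.ne (ha : Lf ψ f α a) (h : α ≠ 1) : a ≠ 1 := fun e => h <| Equiv.ext fun x => f.injective <| by
  rw [← embP_apply, ← ha, e, map_one]; rfl

theorem Lf.sign (ha : Lf ψ f α a) : sign (ψ a) = sign α := by rw [ha, sign_embP]

theorem Lf.sup (ha : Lf ψ f α a) {S : Finset (Fin m)} (h : ∀ x, x ∉ S → α x = x) : Sup (ψ a) (S.map f) := by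
  intro x hx
  rw [ha]
  by_cases h1 : ∃ i, f i = x
  · obtain ⟨i, rfl⟩ := h1
    rw [embP_apply, h i fun e => hx (Finset.mem_map_of_mem f e)]
  · exact embP_other f α fun i e => h1 ⟨i, e⟩

theorem Lf.fix (ha : Lf ψ f α a) {S : Finset (Fin m)} (h : ∀ x ∈ S, α x = x) : ∀ x ∈ S.map f, ψ a x = x := by
  intro x hx
  obtain ⟨i, hi, rfl⟩ := Finset.mem_map.1 hx
  rw [ha, embP_apply, h i hi]

theorem Lf.c3 {i j l : Fin m} (ha : Lf ψ f (c3 i j l) a) : ψ a = c3 (f i) (f j) (f l) := ha.trans (embP_c3 f i j l)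

theorem Lf.swap {i j : Fin m} (ha : Lf ψ f (swap i j) a) : ψ a = swap (f i) (f j) := ha.trans (embP_swap f i j)

theorem Lf.s5 (hm : 5 ≤ m) (ha : Lf ψ f (Cyc.c3 (Fin.castLE hm 0) (Fin.castLE hm 1) (Fin.castLE hm 2) *
    Cyc.c3 (Fin.castLE hm 2) (Fin.castLE hm 3) (Fin.castLE hm 4)) a) : ψ a = embP ((Fin.castLEEmb hm).trans f) s5 := by
  rw [ha, Alt.s5, map_mul, map_mul, embP_c3, embP_c3, embP_c3, embP_c3]
  rfl

theorem Lf.nz (T : T2 K ρ ψ) (ha : Lf ψ f α a) (hb : Lf ψ f β b) (hc : Lf ψ f γ c) (S : Finset (Fin m))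
    (H : 5 ≤ S.card ∧ (∀ x ∈ S, α x = x) ∧ Perm.sign β = 1 ∧ (∀ x, x ∉ S → β x = x) ∧ Perm.sign γ = 1 ∧
      (∀ x, x ∉ S → γ x = x) ∧ γ ≠ 1) (h : NZ ρ a b) : NZ ρ a c :=
  T.nz (S := S.map f) (by rw [Finset.card_map]; exact H.1) (ha.fix H.2.1) (hb.sign.trans H.2.2.1) (hb.sup H.2.2.2.1)
    (hc.sign.trans H.2.2.2.2.1) (hc.sup H.2.2.2.2.2.1) (hc.ne H.2.2.2.2.2.2) h

theorem Lf.np (T : T2 K ρ ψ) (e : Fin 6 → Fin m) (he : Function.Injective e)
    (ha : Lf ψ f (Cyc.c3 (e 0) (e 1) (e 2)) a) (hb : Lf ψ f (Cyc.c3 (e 3) (e 4) (e 5)) b) : NZ ρ a b :=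
  T.np ((⟨e, he⟩ : Fin 6 ↪ Fin m).trans f) a b ha.c3 hb.c3

end Lf

end Cfsg.Agent.TwoF.Alt
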